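import Cfsg.Agent.Lib.SylowNormalInf
import Cfsg.Agent.Lib.ProductSet

/-!
# Tools for (RED) (bb OMEGA 17245 (2))

`M / F` a 2-group.

* `isPGroup_quot` : `M ⧸ F` is a 2-group, if every element of `M` has a 2-power in `F`;
* `odd_inf` : `P ∩ M` has odd index in `M`, if `P` has odd index in `C ≥ M` and normalises `M`;
* `le_sup_inf` : then `M = F (M ∩ P)`;
* `exists_normalizer` : `F ≤ R < Y`, `Y / F` a 2-group: `N_Y(R) > R`.
-/

set_option autoImplicit false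

namespace Cfsg.Agent.Omega.IId.Big.Red

open Subgroup Cfsg

universe u

variable {G : Type u} [Group G]

theorem isPGroup_quot {M F : Subgroup G} (hMF : M ≤ normalizer (F : Set G))
    (h2 : ∀ m ∈ M, ∃ n : ℕ, m ^ 2 ^ n ∈ F) [hn : (F.subgroupOf M).Normal] : IsPGroup 2 (M ⧸ F.subgroupOf M) := by
  intro q
  obtain ⟨m, rfl⟩ := QuotientGroup.mk_surjective q
  obtain ⟨n, hn⟩ := h2 m m.2
  refine ⟨n, ?_⟩
  rw [← QuotientGroup.mk_pow, QuotientGroup.eq_one_iff, mem_subgroupOf]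
  exact hn

theorem normal_subgroupOf {M F : Subgroup G} (hMF : M ≤ normalizer (F : Set G)) : (F.subgroupOf M).Normal := by
  constructor
  intro n hn g
  rw [mem_subgroupOf] at hn ⊢
  exact (mem_normalizer_iff.1 (hMF g.2) _).1 hn

theorem odd_inf [Finite G] {P M C : Subgroup G} (PC : P ≤ C) (MC : M ≤ C) (hPM : P ≤ normalizer (M : Set G))
    (h : ¬ 2 ∣ P.relIndex C) : ¬ 2 ∣ (M ⊓ P).relIndex M := by
  intro h2
  apply h
  have h1 : Nat.card (P ⊔ M : Subgroup G) * Nat.card (P ⊓ M : Subgroup G) = Nat.card P * Nat.card M := by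
    rw [← Lib.ProductSet.card_mul_card_inf P M, ← coe_mul_of_left_le_normalizer_right _ _ hPM]
    rfl
  have h3 := Lib.SylowNormalInf.card_mul_relIndex (P ⊓ M) M inf_le_right
  have h4 := Lib.SylowNormalInf.card_mul_relIndex P (P ⊔ M) le_sup_left
  have h5 : P.relIndex (P ⊔ M) = (P ⊓ M).relIndex M := by
    have hS : 0 < Nat.card P := Nat.card_pos
    have hI : 0 < Nat.card (P ⊓ M : Subgroup G) := Nat.card_pos
    refine Nat.eq_of_mul_eq_mul_left (Nat.mul_pos hS hI) ?_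
    calc Nat.card P * Nat.card (P ⊓ M : Subgroup G) * P.relIndex (P ⊔ M)
        = (Nat.card P * P.relIndex (P ⊔ M)) * Nat.card (P ⊓ M : Subgroup G) := by ring
      _ = Nat.card P * (Nat.card (P ⊓ M : Subgroup G) * (P ⊓ M).relIndex M) := by rw [h4, h1, h3]
      _ = _ := by ring
  rw [inf_comm, ← h5] at h2
  exact h2.trans (Dvd.intro _ (relIndex_mul_relIndex _ _ _ le_sup_left (sup_le PC MC)))

theorem le_sup_inf [Finite G] {P M C F : Subgroup G} (PC : P ≤ C) (MC : M ≤ C) (hPM : P ≤ normalizer (M : Set G))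
    (h : ¬ 2 ∣ P.relIndex C) (FM : F ≤ M) (hMF : M ≤ normalizer (F : Set G))
    (h2 : ∀ m ∈ M, ∃ n : ℕ, m ^ 2 ^ n ∈ F) : M ≤ F ⊔ (M ⊓ P) := by
  have : Fact (Nat.Prime 2) := ⟨Nat.prime_two⟩
  have hn := normal_subgroupOf hMF
  have h1 := odd_inf PC MC hPM h
  have h3 : (F ⊔ (M ⊓ P)).relIndex M ∣ (M ⊓ P).relIndex M := relIndex_dvd_of_le_left M le_sup_right
  have h4 : (F ⊔ (M ⊓ P)).relIndex M ∣ F.relIndex M := relIndex_dvd_of_le_left M le_sup_left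
  obtain ⟨k, hk⟩ := (IsPGroup.iff_card (p := 2)).1 (isPGroup_quot hMF h2)
  have h5 : F.relIndex M = 2 ^ k := hk
  rw [h5] at h4
  obtain ⟨j, -, hj⟩ := (Nat.dvd_prime_pow Nat.prime_two).1 h4
  have h6 : j = 0 := by
    rcases Nat.eq_zero_or_pos j with h6 | h6
    · exact h6
    · exact absurd ((dvd_pow_self 2 h6.ne').trans ((dvd_of_eq hj.symm).trans h3)) h1
  rw [h6, pow_zero] at hj
  exact relIndex_eq_one.1 hj

theorem exists_normalizer [Finite G] {F R Y : Subgroup G} (FR : F ≤ R) (RY : R ≤ Y) (hne : ¬ Y ≤ R)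
    (hYF : Y ≤ normalizer (F : Set G)) (h2 : ∀ y ∈ Y, ∃ n : ℕ, y ^ 2 ^ n ∈ F) :
    ∃ w ∈ Y, w ∉ R ∧ w ∈ normalizer (R : Set G) := by
  have : Fact (Nat.Prime 2) := ⟨Nat.prime_two⟩
  have hn := normal_subgroupOf hYF
  have hp := isPGroup_quot hYF h2
  have hnil : Group.IsNilpotent (Y ⧸ F.subgroupOf Y) := hp.isNilpotent
  have hc := Group.normalizerCondition_of_isNilpotent (G := Y ⧸ F.subgroupOf Y)
  set f := QuotientGroup.mk' (F.subgroupOf Y)
  have key : ∀ y : Y, f y ∈ (R.subgroupOf Y).map f → (y : G) ∈ R := by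
    rintro y ⟨r, hr, hry⟩
    have h3 : r⁻¹ * y ∈ F.subgroupOf Y := QuotientGroup.eq.1 hry
    have h4 := mul_mem (show (r : G) ∈ R from hr) (FR (show ((r⁻¹ * y : Y) : G) ∈ F from h3))
    rwa [coe_mul, coe_inv, mul_inv_cancel_left] at h4
  have hlt : (R.subgroupOf Y).map f < ⊤ := by
    refine lt_top_iff_ne_top.2 fun e => hne fun y hy => ?_
    exact key ⟨y, hy⟩ (e ▸ mem_top _)
  obtain ⟨q, hq, hq'⟩ := SetLike.exists_of_lt (hc _ hlt)
  obtain ⟨w, rfl⟩ := QuotientGroup.mk_surjective q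
  refine ⟨w, w.2, fun h => hq' ⟨w, h, rfl⟩, ?_⟩
  have hfw : ∀ g : Y, (g : Y ⧸ F.subgroupOf Y) ∈ normalizer ((R.subgroupOf Y).map f : Set (Y ⧸ F.subgroupOf Y)) →
      ∀ r ∈ R, (g : G) * r * (g : G)⁻¹ ∈ R := by
    intro g hg r hr
    have h3 : f ⟨r, RY hr⟩ ∈ (R.subgroupOf Y).map f := ⟨⟨r, RY hr⟩, hr, rfl⟩
    have h4 := (mem_normalizer_iff.1 hg (f ⟨r, RY hr⟩)).1 h3
    exact key (g * ⟨r, RY hr⟩ * g⁻¹) h4
  rw [mem_normalizer_iff]
  intro r
  refine ⟨fun hr => hfw w hq r hr, fun hr => ?_⟩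
  have h3 := hfw w⁻¹ (by rw [QuotientGroup.mk_inv]; exact inv_mem hq) _ hr
  have e : (w⁻¹ : G) * (w * r * (w : G)⁻¹) * (w⁻¹ : G)⁻¹ = r := by group
  rw [coe_inv] at h3
  rwa [e] at h3

end Cfsg.Agent.Omega.IId.Big.Red
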