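import Mathlib.Data.ZMod.Basic
import Mathlib.SetTheory.Cardinal.Finite
import Mathlib.Data.Set.Finite.Lattice
import Mathlib.Tactic.Group

/-!
# II.d, THEOREM A (bb OMEGA 16750, helper309; 17530): transvections with centres in a class `K`

`X` a set, `K ⊆ X`, `F w` (`w ∈ K`) a finite set of functions `X → F₂` (the functionals of the transvections with
centre `w`), closed under addition, with

* `F w` kills `w`; `ψ + φ ∈ F w'` for `φ ∈ F w`, `ψ ∈ F w'`, `φ w' = 0`, `ψ w = 1` (conjugation);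
* all `F w` have the same order; a function `≠ 0` in `F w` is not `0` on `K`.

* `symm` : (T1) `F w` kills `w'` iff `F w'` kills `w`;
* `le_of` : (T2) `w ~ r ~ w'`, `w ≁ w'`, `|F w| ≥ 3` implies `F w ⊆ F w'`;
* `main` : `a, b, d ∈ K` with `φ a + φ b + φ d = 0`, `a ~ b`, `a ~ d`, `p` killed by `F a`, `F b`, `F d`,
  `c ~ a` : `F c` kills `p`.
-/

set_option autoImplicit false

namespace Cfsg.Agent.Omega.IId.Big.TL

variable {X : Type*}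

/-- The hypotheses. -/
structure Dat (K : Set X) (F : X → Set (X → ZMod 2)) : Prop where
  add : ∀ w ∈ K, ∀ φ ∈ F w, ∀ ψ ∈ F w, φ + ψ ∈ F w
  kill : ∀ w ∈ K, ∀ φ ∈ F w, φ w = 0
  cj : ∀ w ∈ K, ∀ w' ∈ K, ∀ φ ∈ F w, ∀ ψ ∈ F w', φ w' = 0 → ψ w ≠ 0 → ψ + φ ∈ F w'
  fin : ∀ w ∈ K, (F w).Finite
  card : ∀ w ∈ K, ∀ w' ∈ K, Nat.card (F w) = Nat.card (F w')
  sep : ∀ w ∈ K, ∀ φ ∈ F w, φ ≠ 0 → ∃ s ∈ K, φ s ≠ 0

theorem add_self (φ : X → ZMod 2) : φ + φ = 0 := by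
  funext x
  exact CharTwo.add_self_eq_zero _

theorem add_add (φ ψ : X → ZMod 2) : ψ + (ψ + φ) = φ := by
  rw [← add_assoc, add_self, zero_add]

theorem eq_one {a : ZMod 2} (h : a ≠ 0) : a = 1 := by
  revert h; revert a; decide

namespace Dat

variable {K : Set X} {F : X → Set (X → ZMod 2)} (h : Dat K F)
include h

/-- (T1) -/
theorem symm {w w' : X} (hw : w ∈ K) (hw' : w' ∈ K) (h1 : ∀ φ ∈ F w, φ w' = 0) :
    ∀ ψ ∈ F w', ψ w = 0 := by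
  by_contra hcon
  push Not at hcon
  obtain ⟨ψ, hψ, h2⟩ := hcon
  have h3 : F w ⊆ F w' := by
    intro φ hφ
    have h4 := h.cj w hw w' hw' φ hφ ψ hψ (h1 φ hφ) h2
    have h5 := h.add w' hw' ψ hψ _ h4
    rwa [add_add] at h5
  have h4 : F w = F w' := by
    have h5 := h.card w hw w' hw'
    rw [Nat.card_coe_set_eq, Nat.card_coe_set_eq] at h5
    exact Set.eq_of_subset_of_ncard_le h3 h5.ge (h.fin w' hw')
  rw [← h4] at hψ
  exact h2 (h.kill w hw ψ hψ)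

/-- (T1), second half -/
theorem mem_of {w r : X} (hw : w ∈ K) (hr : r ∈ K) (h1 : ∃ ψ ∈ F r, ψ w ≠ 0) {φ : X → ZMod 2}
    (hφ : φ ∈ F w) (h2 : φ r = 0) : φ ∈ F r := by
  obtain ⟨ψ, hψ, h3⟩ := h1
  have h4 := h.add r hr ψ hψ _ (h.cj w hw r hr φ hφ ψ hψ h2 h3)
  rwa [add_add] at h4

theorem adj_symm {w r : X} (hw : w ∈ K) (hr : r ∈ K) (h1 : ∃ ψ ∈ F r, ψ w ≠ 0) :
    ∃ ψ ∈ F w, ψ r ≠ 0 := by
  by_contra hcon
  push Not at hcon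
  obtain ⟨ψ, hψ, h3⟩ := h1
  exact h3 (h.symm hw hr hcon ψ hψ)

theorem half {w w' r : X} (hw : w ∈ K) (hw' : w' ∈ K) (hr : r ∈ K) (h1 : ∃ ψ ∈ F r, ψ w ≠ 0)
    (h2 : ∃ ψ ∈ F r, ψ w' ≠ 0) (h3 : ∀ φ ∈ F w, φ w' = 0) {φ : X → ZMod 2} (hφ : φ ∈ F w)
    (hφr : φ r = 0) : φ ∈ F w' := by
  have h4 := h.mem_of hw hr h1 hφ hφr
  exact h.mem_of hr hw' (h.adj_symm hw' hr h2) h4 (h3 φ hφ)

/-- (T2) -/
theorem le_of {w w' r : X} (hw : w ∈ K) (hw' : w' ∈ K) (hr : r ∈ K) (h1 : ∃ ψ ∈ F r, ψ w ≠ 0)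
    (h2 : ∃ ψ ∈ F r, ψ w' ≠ 0) (h3 : ∀ φ ∈ F w, φ w' = 0)
    (h4 : ∃ a ∈ F w, a ≠ 0 ∧ a r = 0) : F w ⊆ F w' := by
  obtain ⟨a, ha, ha0, har⟩ := h4
  obtain ⟨s, hs, has⟩ := h.sep w hw a ha ha0
  have ha' : a ∈ F w' := h.half hw hw' hr h1 h2 h3 ha har
  have h5 : ∃ ψ ∈ F s, ψ w ≠ 0 := h.adj_symm hs hw ⟨a, ha, has⟩
  have h6 : ∃ ψ ∈ F s, ψ w' ≠ 0 := h.adj_symm hs hw' ⟨a, ha', has⟩
  intro φ hφ
  by_cases hφs : φ s = 0
  · exact h.half hw hw' hs h5 h6 h3 hφ hφs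
  · have h7 : (φ + a) s = 0 := by
      rw [Pi.add_apply, eq_one hφs, eq_one has]
      decide
    have h8 := h.half hw hw' hs h5 h6 h3 (h.add w hw φ hφ a ha) h7
    have h9 := h.add w' hw' a ha' _ h8
    rwa [add_comm φ a, add_add] at h9

/-- a nonzero element of `F c` killing `x`, if `|F a| ≥ 3` -/
theorem exists_ker {a c : X} (ha : a ∈ K) (hc : c ∈ K) {φ₁ φ₂ : X → ZMod 2} (h1 : φ₁ ∈ F a)
    (h2 : φ₂ ∈ F a) (h1' : φ₁ ≠ 0) (h2' : φ₂ ≠ 0) (h12 : φ₁ ≠ φ₂) (x : X) :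
    ∃ φ ∈ F c, φ ≠ 0 ∧ φ x = 0 := by
  by_contra hcon
  push Not at hcon
  have h3 : 3 ≤ Nat.card (F a) := by
    have h4 : ({0, φ₁, φ₂} : Set (X → ZMod 2)) ⊆ F a := by
      rintro φ (rfl | rfl | rfl)
      · have := h.add a ha φ₁ h1 φ₁ h1
        rwa [add_self] at this
      · exact h1
      · exact h2
    have h5 := Set.ncard_le_ncard h4 (h.fin a ha)
    rw [Set.ncard_insert_of_notMem (by
      rintro (h6 | h6)
      · exact h1' h6.symm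
      · exact h2' h6.symm), Set.ncard_pair h12] at h5
    rwa [Nat.card_coe_set_eq]
  rw [h.card a ha c hc, Nat.card_coe_set_eq] at h3
  have h4 : ∀ φ ∈ F c, ∀ ψ ∈ F c, φ ≠ 0 → ψ ≠ 0 → φ = ψ := by
    intro φ hφ ψ hψ hφ0 hψ0
    by_contra hne
    refine hcon _ (h.add c hc φ hφ ψ hψ) ?_ ?_
    · intro h5
      apply hne
      have h6 := add_add φ ψ
      have h7 : ψ + φ = 0 := by rw [add_comm]; exact h5
      rw [h7, add_zero] at h6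
      exact h6.symm
    · rw [Pi.add_apply, eq_one (hcon φ hφ hφ0), eq_one (hcon ψ hψ hψ0)]
      decide
  by_cases h5 : ∃ ψ ∈ F c, ψ ≠ 0
  · obtain ⟨ψ, hψ, hψ0⟩ := h5
    have h6 : F c ⊆ {0, ψ} := by
      intro φ hφ
      by_cases h7 : φ = 0
      · exact Or.inl h7
      · exact Or.inr (h4 φ hφ ψ hψ h7 hψ0)
    have h7 := Set.ncard_le_ncard h6 (Set.toFinite _)
    rw [Set.ncard_pair (Ne.symm hψ0)] at h7
    omega
  · push Not at h5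
    have h6 : F c ⊆ {0} := fun φ hφ => h5 φ hφ
    have h7 := Set.ncard_le_ncard h6 (Set.toFinite _)
    rw [Set.ncard_singleton] at h7
    omega

/-- **The main lemma.** -/
theorem main {a b d c p : X} (ha : a ∈ K) (hb : b ∈ K) (hd : d ∈ K) (hc : c ∈ K)
    (hsum : ∀ φ ∈ F c, φ a + φ b + φ d = 0)
    (hab : ∃ φ ∈ F a, φ b ≠ 0) (had : ∃ φ ∈ F a, φ d ≠ 0)
    (pa : ∀ φ ∈ F a, φ p = 0) (pb : ∀ φ ∈ F b, φ p = 0) (pd : ∀ φ ∈ F d, φ p = 0)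
    (hca : ∃ φ ∈ F a, φ c ≠ 0) (h2 : ∃ φ ∈ F c, φ ≠ 0 ∧ φ a = 0) : ∀ φ ∈ F c, φ p = 0 := by
  by_contra hcon
  push Not at hcon
  obtain ⟨φ₀, hφ₀, h0⟩ := hcon
  -- `x ~ c` implies `φ₀ x = 1`
  have key : ∀ x ∈ K, (∀ φ ∈ F x, φ p = 0) → (∃ φ ∈ F x, φ c ≠ 0) → φ₀ x = 1 := by
    intro x hx hxp hxc
    apply eq_one
    intro h1
    exact h0 (hxp φ₀ (h.mem_of hc hx hxc hφ₀ h1))
  have fin : ∀ x ∈ K, (∀ φ ∈ F x, φ p = 0) → (∃ φ ∈ F a, φ x ≠ 0) →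
      (∀ φ ∈ F x, φ c = 0) → False := by
    intro x hx hxp hax hxc
    exact h0 (hxp φ₀ (h.le_of hc hx ha hca hax (h.symm hx hc hxc) h2 hφ₀))
  have e1 := key a ha pa hca
  by_cases hbc : ∃ φ ∈ F b, φ c ≠ 0
  · by_cases hdc : ∃ φ ∈ F d, φ c ≠ 0
    · have e2 := key b hb pb hbc
      have e3 := key d hd pd hdc
      have e4 := hsum φ₀ hφ₀
      rw [e1, e2, e3] at e4
      exact absurd e4 (by decide)
    · push Not at hdc
      exact fin d hd pd had hdc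
  · push Not at hbc
    exact fin b hb pb hab hbc

end Dat

end Cfsg.Agent.Omega.IId.Big.TL
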