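import Cfsg.Agent.Omega.IId.Triangle
import Cfsg.Agent.Omega.IITwo.LemZ
import Cfsg.Agent.Omega.IId.Big.TL

/-!
# II.d, THEOREM A (bb OMEGA 16750, helper309; 17530): the frame

`V i` (`i ∈ ι`) commuting four-groups; for `v ∈ V i`, `v ≠ 1`: `C_v = cz v`, `Q_v = qz v = O₂(C_v)`,
`W_v = KK v = {g ∈ C_v : [Q_v, g] ≤ ⟨v⟩}`, `U_v = UU V i v = ⟨(V^i)^{C_v}⟩` with `V^i = Vo V i = ∏_{j ≠ i} V j`,
`X^i = XX V i = ⟨W_v : v ∈ V i, v ≠ 1⟩`, `D_i = DD V i = ⋂ U_p` (`p ∈ V j`, `p ≠ 1`, `j ≠ i`).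

* `Fr S V` : the frame;
* `Fr.U_le_q`, `Fr.U_cent`, `Fr.U_sq` : `U_v ≤ Ω₁ Z(Q_v)`;
* `Fr.zero` : (0) of 16750.
-/

set_option autoImplicit false
set_option linter.unusedSectionVars false

namespace Cfsg.Agent.Omega.IId.Big

open Subgroup Cfsg
open Cfsg.Agent.ZN (o2 zc)
open Cfsg.Agent.MinSimple.VModule (le_o2 le_normalizer_o2 mem_zc o2_isPGroup o2_le)
open Triangle (KK KK_conj KK_le_o2 mem_cent mem_KK mem_zpowers_iff_of_sq cent_conj o2_cent_conj)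

universe u

variable {G : Type u} [Group G]

/-! ### Tools -/

section tools

theorem conj_mem {A B : Subgroup G} (h : A ≤ normalizer (B : Set G)) {a b : G} (ha : a ∈ A) (hb : b ∈ B) :
    a * b * a⁻¹ ∈ B := (mem_normalizer_iff.1 (h ha) b).1 hb

theorem norm_of {A B : Subgroup G} (h : ∀ a ∈ A, ∀ b ∈ B, a * b * a⁻¹ ∈ B) : A ≤ normalizer (B : Set G) :=
  Two.le_normalizer_of h

theorem conj_inv' {A : Subgroup G} {a x : G} (h : a ∈ A) : (∀ c ∈ A, c * x * c⁻¹ ∈ A) → a⁻¹ * x * a ∈ A := by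
  intro h1
  have := h1 a⁻¹ (inv_mem h)
  rwa [inv_inv] at this

/-- `O₂` of a normal subgroup is normal. -/
theorem norm_o2 {K H : Subgroup G} (hn : H ≤ normalizer (K : Set G)) :
    H ≤ normalizer (o2 K : Set G) := by
  apply norm_of
  intro h hh x hx
  have hc : (o2 K).map (MulAut.conj h).toMonoidHom ≤ o2 K := by
    apply le_o2
    · rintro _ ⟨y, hy, rfl⟩
      exact conj_mem hn hh (o2_le K hy)
    · exact (o2_isPGroup K).map _
    · apply norm_of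
      intro y hy z hz
      obtain ⟨w, hw, rfl⟩ := hz
      have h1 : h⁻¹ * y * h ∈ K := by
        have := conj_mem hn (inv_mem hh) hy
        rwa [inv_inv] at this
      refine ⟨(h⁻¹ * y * h) * w * (h⁻¹ * y * h)⁻¹, conj_mem (le_normalizer_o2 K) h1 hw, ?_⟩
      change h * ((h⁻¹ * y * h) * w * (h⁻¹ * y * h)⁻¹) * h⁻¹ = y * (h * w * h⁻¹) * y⁻¹
      group
  exact hc ⟨x, hx, rfl⟩

theorem o2_le_o2_of {K H : Subgroup G} (hK : K ≤ H) (hn : H ≤ normalizer (K : Set G)) : o2 K ≤ o2 H :=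
  le_o2 ((o2_le K).trans hK) (o2_isPGroup K) (norm_o2 hn)

/-- A 2-group normal in a normal subgroup. -/
theorem le_o2_of {A C H : Subgroup G} (hA : IsPGroup 2 A) (hAC : A ≤ C) (hCA : C ≤ normalizer (A : Set G))
    (hCH : C ≤ H) (hHC : H ≤ normalizer (C : Set G)) : A ≤ o2 H :=
  (le_o2 hAC hA hCA).trans (o2_le_o2_of hCH hHC)

/-- `⟨A^C⟩` -/
def cl (A C : Subgroup G) : Subgroup G := closure {x | ∃ c ∈ C, ∃ a ∈ A, x = c * a * c⁻¹}

theorem conj_mem_cl {A C : Subgroup G} {c a : G} (hc : c ∈ C) (ha : a ∈ A) : c * a * c⁻¹ ∈ cl A C :=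
  subset_closure ⟨c, hc, a, ha, rfl⟩

theorem le_cl {A C : Subgroup G} : A ≤ cl A C := by
  intro a ha
  have := conj_mem_cl (A := A) (C := C) C.one_mem ha
  simpa using this

theorem cl_le {A C B : Subgroup G} (h : ∀ c ∈ C, ∀ a ∈ A, c * a * c⁻¹ ∈ B) : cl A C ≤ B := by
  rw [cl, closure_le]
  rintro _ ⟨c, hc, a, ha, rfl⟩
  exact h c hc a ha

/-- conjugation of a closure -/
theorem cl_conj {A C A' C' : Subgroup G} {g : G} (hA : ∀ a ∈ A, g * a * g⁻¹ ∈ A')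
    (hC : ∀ c ∈ C, g * c * g⁻¹ ∈ C') {x : G} (hx : x ∈ cl A C) : g * x * g⁻¹ ∈ cl A' C' := by
  have h1 : cl A C ≤ (cl A' C').comap (MulAut.conj g).toMonoidHom := by
    refine cl_le fun c hc a ha => ?_
    show g * (c * a * c⁻¹) * g⁻¹ ∈ cl A' C'
    have e : g * (c * a * c⁻¹) * g⁻¹ = (g * c * g⁻¹) * (g * a * g⁻¹) * (g * c * g⁻¹)⁻¹ := by group
    rw [e]
    exact conj_mem_cl (hC c hc) (hA a ha)
  exact h1 hx

theorem cl_norm {A C : Subgroup G} : C ≤ normalizer (cl A C : Set G) := by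
  apply norm_of
  intro c hc x hx
  have h1 : cl A C ≤ (cl A C).comap (MulAut.conj c).toMonoidHom := by
    refine cl_le fun d hd a ha => ?_
    show c * (d * a * d⁻¹) * c⁻¹ ∈ cl A C
    have e : c * (d * a * d⁻¹) * c⁻¹ = (c * d) * a * (c * d)⁻¹ := by group
    rw [e]
    exact conj_mem_cl (mul_mem hc hd) ha
  exact h1 hx

theorem cent_of_closure {s : Set G} {x : G} (h : ∀ y ∈ s, x * y = y * x) {y : G} (hy : y ∈ closure s) :
    x * y = y * x := by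
  have h1 : closure s ≤ centralizer ({x} : Set G) := by
    rw [closure_le]
    intro z hz
    exact mem_cent.2 (h z hz).symm
  exact (mem_cent.1 (h1 hy)).symm

theorem cent_of_cl {A C : Subgroup G} {x : G} (h : ∀ c ∈ C, ∀ a ∈ A, x * (c * a * c⁻¹) = c * a * c⁻¹ * x) {y : G}
    (hy : y ∈ cl A C) : x * y = y * x := by
  refine cent_of_closure ?_ hy
  rintro _ ⟨c, hc, a, ha, rfl⟩
  exact h c hc a ha

theorem sq_of_closure {s : Set G} (hs : ∀ x ∈ s, x * x = 1)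
    (hc : ∀ x ∈ closure s, ∀ y ∈ closure s, x * y = y * x) {x : G} (hx : x ∈ closure s) : x * x = 1 := by
  induction hx using closure_induction with
  | mem x hx => exact hs x hx
  | one => simp
  | mul x y hx hy h1 h2 =>
    calc x * y * (x * y) = x * (y * x) * y := by group
      _ = x * (x * y) * y := by rw [hc y hy x hx]
      _ = (x * x) * (y * y) := by group
      _ = 1 := by rw [h1, h2, one_mul]
  | inv x hx h1 => rw [← mul_inv_rev, h1, inv_one]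

theorem comm_of_conj {g x : G} (h : g * x * g⁻¹ = x) : g * x = x * g := mul_inv_eq_iff_eq_mul.1 h

theorem conj_of_comm {g x : G} (h : g * x = x * g) : g * x * g⁻¹ = x := mul_inv_eq_iff_eq_mul.2 h

theorem isPGroup_of_sq {A : Subgroup G} (h : ∀ x ∈ A, x * x = 1) : IsPGroup 2 A := by
  rintro ⟨x, hx⟩
  exact ⟨1, Subtype.ext (by simpa [pow_two] using h x hx)⟩

end tools

/-! ### Definitions -/

section defs

variable {ι : Type} (V : ι → Subgroup G)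

/-- `C_G(v)` -/
abbrev cz (v : G) : Subgroup G := centralizer ({v} : Set G)

/-- `Q_v = O₂(C_G(v))` -/
abbrev qz (v : G) : Subgroup G := ZN.o2 (centralizer ({v} : Set G))

/-- `V^i = ∏_{j ≠ i} V j` -/
def Vo (i : ι) : Subgroup G := closure {x | ∃ j, j ≠ i ∧ x ∈ V j}

/-- `U_v = ⟨(V^i)^{C_v}⟩` -/
def UU (i : ι) (v : G) : Subgroup G := cl (Vo V i) (cz v)

/-- `X^i = ⟨W_v : v ∈ V i, v ≠ 1⟩` -/
def XX (i : ι) : Subgroup G := closure {x | ∃ v ∈ V i, v ≠ 1 ∧ x ∈ KK v}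

/-- `D_i = ⋂ U_p`, `p ∈ V j`, `p ≠ 1`, `j ≠ i` -/
def DD (i : ι) : Subgroup G where
  carrier := {x | ∀ j, j ≠ i → ∀ p ∈ V j, p ≠ 1 → x ∈ UU V j p}
  one_mem' := fun _ _ _ _ _ => one_mem _
  mul_mem' := fun ha hb j hj p hp hp1 => mul_mem (ha j hj p hp hp1) (hb j hj p hp hp1)
  inv_mem' := fun ha j hj p hp hp1 => inv_mem (ha j hj p hp hp1)

variable {V}

theorem mem_DD {i : ι} {x : G} : x ∈ DD V i ↔ ∀ j, j ≠ i → ∀ p ∈ V j, p ≠ 1 → x ∈ UU V j p := Iff.rfl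

theorem le_Vo {i j : ι} (h : j ≠ i) : V j ≤ Vo V i := fun _ hx => subset_closure ⟨j, h, hx⟩

theorem Vo_le {i : ι} {B : Subgroup G} (h : ∀ j, j ≠ i → V j ≤ B) : Vo V i ≤ B := by
  rw [Vo, closure_le]
  rintro x ⟨j, hj, hx⟩
  exact h j hj hx

theorem Vo_le_UU {i : ι} {v : G} : Vo V i ≤ UU V i v := le_cl

theorem V_le_UU {i j : ι} (h : j ≠ i) {v : G} : V j ≤ UU V i v := (le_Vo h).trans Vo_le_UU

theorem cz_norm_UU {i : ι} {v : G} : cz v ≤ normalizer (UU V i v : Set G) := cl_norm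

theorem KK_le_XX {i : ι} {v : G} (hv : v ∈ V i) (hv1 : v ≠ 1) : KK v ≤ XX V i :=
  fun _ hx => subset_closure ⟨v, hv, hv1, hx⟩

theorem XX_le {i : ι} {B : Subgroup G} (h : ∀ v ∈ V i, v ≠ 1 → KK v ≤ B) : XX V i ≤ B := by
  rw [XX, closure_le]
  rintro x ⟨v, hv, hv1, hx⟩
  exact h v hv hv1 hx

theorem cent_of_XX {i : ι} {y : G} (h : ∀ v ∈ V i, v ≠ 1 → ∀ g ∈ KK v, g * y = y * g) :
    ∀ g ∈ XX V i, g * y = y * g := by
  intro g hg
  have h1 : XX V i ≤ centralizer ({y} : Set G) := XX_le fun v hv hv1 k hk => mem_cent.2 (h v hv hv1 k hk)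
  exact mem_cent.1 (h1 hg)

/-- the frame -/
structure Fr (S : Subgroup G) (V : ι → Subgroup G) : Prop where
  S2 : IsPGroup 2 S
  sq : ∀ i, ∀ x ∈ V i, x * x = 1
  comm : ∀ i j, ∀ x ∈ V i, ∀ y ∈ V j, x * y = y * x
  four : ∀ i, Nat.card (V i) = 4
  Qc : ∀ i j, j ≠ i → ∀ v ∈ V i, v ≠ 1 → ∀ q ∈ qz v, ∀ x ∈ V j, q * x = x * q
  VQ : ∀ i j, ∀ v ∈ V i, v ≠ 1 → V j ≤ qz v
  WV : ∀ i, ∀ v ∈ V i, v ≠ 1 → ∃ g ∈ KK v, ∃ x ∈ V i, g * x ≠ x * g
  c2 : ∀ i, ∀ v ∈ V i, v ≠ 1 → cz v ⊓ centralizer (qz v : Set G) ≤ qz v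
  perm : ∀ s ∈ S, ∀ i, ∃ j, ∀ x, x ∈ V i ↔ s * x * s⁻¹ ∈ V j
  zS : zc S ≤ ⨆ i, V i

/-- (H2) -/
def H2 (V : ι → Subgroup G) : Prop :=
  ∀ i j, i ≠ j → ∀ v ∈ V i, v ≠ 1 → ∀ p ∈ V j, p ≠ 1 → UU V i v ≤ qz p

end defs

namespace Fr

variable {ι : Type} {S : Subgroup G} {V : ι → Subgroup G} [Finite G] (h : Fr S V)
include h

theorem KK_le_q {i : ι} {v : G} (hv : v ∈ V i) (hv1 : v ≠ 1) : KK v ≤ qz v :=
  KK_le_o2 (h.sq i v hv) (h.c2 i v hv hv1)

omit [Finite G] in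
theorem KK_act {i : ι} {v : G} (hv : v ∈ V i) {g x : G} (hg : g ∈ KK v) (hx : x ∈ qz v) :
    g * x * g⁻¹ = x ∨ g * x * g⁻¹ = v * x := by
  rcases (mem_zpowers_iff_of_sq (h.sq i v hv)).1 ((mem_KK.1 hg).2 x hx) with h1 | h1
  · left; exact mul_inv_eq_one.1 h1
  · right; exact mul_inv_eq_iff_eq_mul.1 h1

omit [Finite G] h in
theorem KK_comm {v g : G} (hg : g ∈ KK v) : g * v = v * g := (mem_KK.1 hg).1

theorem disj {i j : ι} (hij : i ≠ j) {x : G} (hi : x ∈ V i) (hj : x ∈ V j) : x = 1 := by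
  by_contra hx
  obtain ⟨g, hg, y, hy, hgy⟩ := h.WV i x hi hx
  exact hgy (h.Qc j i hij x hj hx g (h.KK_le_q hi hx hg) y hy)

omit [Finite G] in
/-- the elements of `V i` -/
theorem cases4 [Finite G] {i : ι} {a b : G} (ha : a ∈ V i) (hb : b ∈ V i) (ha1 : a ≠ 1) (hb1 : b ≠ 1)
    (hab : a ≠ b) {x : G} (hx : x ∈ V i) : x = 1 ∨ x = a ∨ x = b ∨ x = a * b :=
  IITwo.Three.four_all (h.four i) (h.sq i) ha hb ha1 hb1 hab x hx

/-- `W_a` moves `b` -/
theorem move {i : ι} {a b : G} (ha : a ∈ V i) (hb : b ∈ V i) (ha1 : a ≠ 1) (hb1 : b ≠ 1)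
    (hab : a ≠ b) : ∃ g ∈ KK a, g * b * g⁻¹ = a * b := by
  obtain ⟨g, hg, x, hx, hgx⟩ := h.WV i a ha ha1
  refine ⟨g, hg, ?_⟩
  rcases h.KK_act ha hg (h.VQ i i a ha ha1 hb) with h1 | h1
  · exfalso
    apply hgx
    have h2 := comm_of_conj h1
    have h3 := KK_comm hg
    rcases h.cases4 ha hb ha1 hb1 hab hx with rfl | rfl | rfl | rfl
    · simp
    · exact h3
    · exact h2
    · calc g * (a * b) = (g * a) * b := by group
        _ = a * (g * b) := by rw [h3]; group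
        _ = a * b * g := by rw [h2]; group
  · exact h1

omit [Finite G] in
theorem exists_two (i : ι) : ∃ a ∈ V i, ∃ b ∈ V i, a ≠ 1 ∧ b ≠ 1 ∧ a ≠ b := by
  have h4 := h.four i
  have hfin : Finite (V i) := Nat.finite_of_card_ne_zero (by omega)
  obtain ⟨a, ha⟩ : ∃ a : V i, a ≠ 1 := by
    by_contra hcon
    push Not at hcon
    have : Nat.card (V i) ≤ 1 := by
      have hs : Subsingleton (V i) := ⟨fun x y => by rw [hcon x, hcon y]⟩
      exact Finite.card_le_one_iff_subsingleton.2 hs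
    omega
  obtain ⟨b, hb1, hb2⟩ : ∃ b : V i, b ≠ 1 ∧ b ≠ a := by
    by_contra hcon
    push Not at hcon
    have : Nat.card (V i) ≤ 2 := by
      have hsub : (Set.univ : Set (V i)) ⊆ {1, a} := by
        intro x _
        by_cases hx : x = 1
        · exact Or.inl hx
        · exact Or.inr (hcon x hx)
      have h1 := Set.ncard_le_ncard hsub
      rw [Set.ncard_univ] at h1
      exact h1.trans (Set.ncard_insert_le _ _ |>.trans (by rw [Set.ncard_singleton]))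
    omega
  refine ⟨a, a.2, b, b.2, fun h1 => ha (Subtype.ext h1), fun h1 => hb1 (Subtype.ext h1), fun h1 =>
    hb2 (Subtype.ext h1.symm)⟩

omit [Finite G] in
/-- another element of `V i` -/
theorem exists_other {i : ι} (a : G) : ∃ b ∈ V i, b ≠ 1 ∧ a ≠ b := by
  obtain ⟨x, hx, y, hy, hx1, hy1, hxy⟩ := h.exists_two i
  by_cases hax : a = x
  · exact ⟨y, hy, hy1, fun h1 => hxy (hax.symm.trans h1)⟩
  · exact ⟨x, hx, hx1, hax⟩

omit [Finite G] in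
theorem q_le {i j : ι} (hij : j ≠ i) {v p : G} (hv : v ∈ V i) (hv1 : v ≠ 1) (hp : p ∈ V j) :
    qz v ≤ cz p := fun _ hq => mem_cent.2 (h.Qc i j hij v hv hv1 _ hq p hp)

theorem KK_le {i j : ι} (hij : j ≠ i) {v p : G} (hv : v ∈ V i) (hv1 : v ≠ 1) (hp : p ∈ V j) :
    KK v ≤ cz p := (h.KK_le_q hv hv1).trans (h.q_le hij hv hv1 hp)

theorem X_le {i j : ι} (hij : j ≠ i) {p : G} (hp : p ∈ V j) : XX V i ≤ cz p :=
  XX_le fun _ hv hv1 => h.KK_le hij hv hv1 hp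

omit [Finite G] in
theorem Vo_le_q {i : ι} {v : G} (hv : v ∈ V i) (hv1 : v ≠ 1) : Vo V i ≤ qz v :=
  Vo_le fun j _ => h.VQ i j v hv hv1

omit [Finite G] in
theorem Vo_cent {i : ι} {v : G} (hv : v ∈ V i) (hv1 : v ≠ 1) {x q : G} (hx : x ∈ Vo V i) (hq : q ∈ qz v) :
    q * x = x * q := by
  refine cent_of_closure ?_ hx
  rintro y ⟨j, hj, hy⟩
  exact h.Qc i j hj v hv hv1 q hq y hy

omit [Finite G] in
theorem U_le_q {i : ι} {v : G} (hv : v ∈ V i) (hv1 : v ≠ 1) : UU V i v ≤ qz v :=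
  cl_le fun _ hc _ ha => conj_mem (le_normalizer_o2 _) hc (h.Vo_le_q hv hv1 ha)

omit [Finite G] in
theorem U_cent {i : ι} {v : G} (hv : v ∈ V i) (hv1 : v ≠ 1) {x q : G} (hx : x ∈ UU V i v) (hq : q ∈ qz v) :
    q * x = x * q := by
  refine cent_of_cl ?_ hx
  intro c hc a ha
  have h1 : c⁻¹ * q * c ∈ qz v := by
    have := conj_mem (le_normalizer_o2 (cz v)) (inv_mem hc) hq
    rwa [inv_inv] at this
  have h2 := h.Vo_cent hv hv1 ha h1
  calc q * (c * a * c⁻¹) = c * ((c⁻¹ * q * c) * a) * c⁻¹ := by group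
    _ = c * a * c⁻¹ * q := by rw [h2]; group

omit [Finite G] in
theorem U_comm {i : ι} {v : G} (hv : v ∈ V i) (hv1 : v ≠ 1) {x y : G} (hx : x ∈ UU V i v)
    (hy : y ∈ UU V i v) : x * y = y * x := h.U_cent hv hv1 hy (h.U_le_q hv hv1 hx)

omit [Finite G] in
theorem Vo_sq {i : ι} {x : G} (hx : x ∈ Vo V i) : x * x = 1 := by
  have hcomm : ∀ y ∈ Vo V i, ∀ z ∈ Vo V i, y * z = z * y := by
    intro y hy z hz
    refine cent_of_closure ?_ hz
    rintro w ⟨j, hj, hw⟩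
    refine (cent_of_closure ?_ hy).symm
    rintro w' ⟨j', hj', hw'⟩
    exact h.comm j j' w hw w' hw'
  refine sq_of_closure ?_ hcomm hx
  rintro y ⟨j, _, hy⟩
  exact h.sq j y hy

omit [Finite G] in
theorem U_sq {i : ι} {v : G} (hv : v ∈ V i) (hv1 : v ≠ 1) {x : G} (hx : x ∈ UU V i v) : x * x = 1 := by
  refine sq_of_closure ?_ (fun a ha b hb => h.U_comm hv hv1 ha hb) hx
  rintro _ ⟨c, hc, a, ha, rfl⟩
  calc c * a * c⁻¹ * (c * a * c⁻¹) = c * (a * a) * c⁻¹ := by group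
    _ = 1 := by rw [h.Vo_sq ha]; group

omit [Finite G] in
theorem U_two {i : ι} {v : G} (hv : v ∈ V i) (hv1 : v ≠ 1) : IsPGroup 2 (UU V i v) :=
  isPGroup_of_sq fun _ hx => h.U_sq hv hv1 hx

theorem KK_two {i : ι} {v : G} (hv : v ∈ V i) (hv1 : v ≠ 1) : IsPGroup 2 (KK v) :=
  (o2_isPGroup _).to_le (h.KK_le_q hv hv1)

omit [Finite G] h in
/-- the functor `v ↦ W_v` -/
theorem norm_KK {A : Subgroup G} {v : G} (hA : A ≤ cz v) : A ≤ normalizer (KK v : Set G) := by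
  apply norm_of
  intro a ha g hg
  have h1 := KK_conj (h := a) hg
  rwa [conj_of_comm (mem_cent.1 (hA ha))] at h1

/-- (0) of 16750: `N ⊴ C_v`, `w ∈ N` a conjugate of `a ∈ V i` under `x ∈ C_v`, `v ∈ V j`. -/
theorem zero {i j : ι} (hij : j ≠ i) {v a x : G} (hv : v ∈ V j) (ha : a ∈ V i) (ha1 : a ≠ 1)
    (hx : x ∈ cz v) {N : Subgroup G} (hN : cz v ≤ normalizer (N : Set G)) (hw : x * a * x⁻¹ ∈ N) :
    KK (x * a * x⁻¹) ⊓ centralizer (N : Set G) ≤ qz v := by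
  have hKv : KK (x * a * x⁻¹) ≤ cz v := by
    intro g hg
    have h1 : x⁻¹ * g * x ∈ KK a := by
      have h2 := KK_conj (h := x⁻¹) hg
      have e : x⁻¹ * (x * a * x⁻¹) * x⁻¹⁻¹ = a := by group
      rw [e, inv_inv] at h2
      exact h2
    have h2 := h.KK_le hij ha ha1 hv h1
    have h3 := mul_mem (mul_mem hx h2) (inv_mem hx)
    have e : x * (x⁻¹ * g * x) * x⁻¹ = g := by group
    rwa [e] at h3
  set C := cz v ⊓ centralizer (N : Set G) with hC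
  have hCn : cz v ≤ normalizer (C : Set G) := by
    apply norm_of
    rintro c hc b ⟨hb1, hb2⟩
    refine ⟨mul_mem (mul_mem hc hb1) ((cz v).inv_mem hc), mem_centralizer_iff.2 fun n hn => ?_⟩
    have hn' : c⁻¹ * n * c ∈ N := by
      have := conj_mem hN (inv_mem hc) hn
      rwa [inv_inv] at this
    have h1 := mem_centralizer_iff.1 hb2 _ hn'
    calc n * (c * b * c⁻¹) = c * ((c⁻¹ * n * c) * b) * c⁻¹ := by group
      _ = c * b * c⁻¹ * n := by rw [h1]; group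
  have hCw : C ≤ cz (x * a * x⁻¹) := fun c hc =>
    mem_cent.2 (mem_centralizer_iff.1 hc.2 _ hw).symm
  refine (le_inf (le_inf (inf_le_left.trans hKv) inf_le_right) inf_le_left :
    KK (x * a * x⁻¹) ⊓ centralizer (N : Set G) ≤ C ⊓ KK (x * a * x⁻¹)).trans ?_
  have h2 : IsPGroup 2 (KK (x * a * x⁻¹)) := by
    have h3 : KK (x * a * x⁻¹) ≤ (KK a).map (MulAut.conj x).toMonoidHom := by
      intro g hg
      refine ⟨x⁻¹ * g * x, ?_, by simp [mul_assoc]⟩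
      have h2 := KK_conj (h := x⁻¹) hg
      have e : x⁻¹ * (x * a * x⁻¹) * x⁻¹⁻¹ = a := by group
      rw [e, inv_inv] at h2
      exact h2
    exact ((h.KK_two ha ha1).map _).to_le h3
  refine le_o2_of (h2.to_le inf_le_right) inf_le_left ?_ inf_le_left hCn
  apply norm_of
  rintro c hc b ⟨hb1, hb2⟩
  exact ⟨mul_mem (mul_mem hc hb1) (C.inv_mem hc), conj_mem (norm_KK hCw) hc hb2⟩

end Fr

end Cfsg.Agent.Omega.IId.Big
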