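import Cfsg.Agent.Omega.IId.Big.Plug

/-!
# WrBig, `q = 2`: the cut of CASE 1 (helper110 #18842)

* `UnmTwo K` : CASE 1 (`stab M i` Sylow in `N_G(line M i)`), `⟨V_i^{N(line M i)}⟩` nonabelian: contradiction (one member,
  no partner);
* `MixTwo K` : a pair of two members with the same number of factors, both in CASE 1 on the same line,
  `[V_i, V'_j] ≠ 1`, both `⟨V_i^{N(line)}⟩`, `⟨V'_j^{N(line)}⟩` abelian: contradiction;
* `wrBigTwoSyl_of`, `wrBigTwo_of_all`.
-/

set_option autoImplicit false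
set_option linter.unusedSectionVars false

namespace Cfsg.Agent.Omega.IId.Big

open Subgroup Pointwise Cfsg Cfsg.Agent.ZN Cfsg.Agent.ZN.ChoiceBase
open Cfsg.Agent.Omega.MinPar Cfsg.Agent.Omega.Frame Cfsg.Agent.Omega.FFThm Cfsg.Agent.Omega.FrameMulti
open Triangle (KK mem_cent)
open Supply

universe u

/-- **CASE 1, unmixed**: `⟨V_i^{N(line M i)}⟩` is nonabelian. (helper110, 730, 813, 924) -/
def UnmTwo (K : Cls.{u}) : Prop :=
  ∀ (G : Type u) [Group G] [Finite G] (S : Sylow 2 G), Hyp K S → ∀ (P : Subgroup G) (F : Type) [Field F]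
    [Finite F] [CharP F 2] (k : ℕ) (M : NatK F (S : Subgroup G) P (zl (S : Subgroup G) P) ⊥ k),
    IsParS (S : Subgroup G) P → CC M → Nat.card F = 2 → Fr (S : Subgroup G) (fac M) → 2 < k →
      ∀ i, ¬ 2 ∣ (stab M i).relIndex (normalizer (line M i : Set G)) →
        (∃ c ∈ normalizer (line M i : Set G), ∃ a ∈ fac M i, ∃ b ∈ fac M i,
          a * (c * b * c⁻¹) ≠ c * b * c⁻¹ * a) → False

/-- **CASE 1, mixed**: both members are in CASE 1 on the same line, both closures are abelian. (helper349) -/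
def MixTwo (K : Cls.{u}) : Prop :=
  ∀ (G : Type u) [Group G] [Finite G] (S S' : Sylow 2 G), Hyp K S → ∀ (P P' : Subgroup G), Pair S S' P P' →
    ∀ (F F' : Type) [Field F] [Finite F] [CharP F 2] [Field F'] [Finite F'] [CharP F' 2] (k : ℕ)
      (M : NatK F (S : Subgroup G) P (zl (S : Subgroup G) P) ⊥ k)
      (M' : NatK F' (S' : Subgroup G) P' (zl (S' : Subgroup G) P') ⊥ k), CC M → CC M' → Nat.card F = 2 →
      Nat.card F' = 2 → Fr (S : Subgroup G) (fac M) → Fr (S' : Subgroup G) (fac M') → 2 < k →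
      ∀ i j, line M i = line M' j → ⁅zl (S : Subgroup G) P, zl (S' : Subgroup G) P'⁆ = line M i →
        ¬ 2 ∣ (stab M i).relIndex (normalizer (line M i : Set G)) →
        ¬ 2 ∣ (stab M' j).relIndex (normalizer (line M' j : Set G)) →
        (∃ a ∈ fac M i, ∃ b ∈ fac M' j, a * b ≠ b * a) →
        (∀ c ∈ normalizer (line M i : Set G), ∀ a ∈ fac M i, ∀ b ∈ fac M i,
          a * (c * b * c⁻¹) = c * b * c⁻¹ * a) →
        (∀ c ∈ normalizer (line M' j : Set G), ∀ a ∈ fac M' j, ∀ b ∈ fac M' j,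
          a * (c * b * c⁻¹) = c * b * c⁻¹ * a) → False

section

variable {G : Type u} [Group G] [Finite G]

/-- two 2-subgroups of `N`, `T` Sylow in `N`, `|T'| ≤ |T|`; if `|T'| < |T|` then `T'` is not Sylow in `N`. -/
theorem card_le_of_syl {T T' N : Subgroup G} (hTN : T ≤ N) (hT2 : IsPGroup 2 T) (hT'N : T' ≤ N)
    (hT'2 : IsPGroup 2 T') (h : ¬ 2 ∣ T.relIndex N) :
    Nat.card T' ≤ Nat.card T ∧ (Nat.card T' < Nat.card T → 2 ∣ T'.relIndex N) := by
  have : Fact (Nat.Prime 2) := ⟨Nat.prime_two⟩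
  obtain ⟨a, ha⟩ := IsPGroup.iff_card.1 hT2
  obtain ⟨b, hb⟩ := IsPGroup.iff_card.1 hT'2
  have h1 := Lib.SylowNormalInf.card_mul_relIndex T N hTN
  have h2 := Lib.SylowNormalInf.card_mul_relIndex T' N hT'N
  have h3 : 2 ^ b * T'.relIndex N = 2 ^ a * T.relIndex N := by rw [← hb, ← ha, h1, h2]
  have hco : Nat.Coprime (2 ^ b) (T.relIndex N) :=
    Nat.Coprime.pow_left b ((Nat.Prime.coprime_iff_not_dvd Nat.prime_two).2 h)
  have h4 : 2 ^ b ∣ 2 ^ a := hco.dvd_of_dvd_mul_right (h3 ▸ Dvd.intro _ rfl)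
  have hba : b ≤ a := (Nat.pow_dvd_pow_iff_le_right (by norm_num)).1 h4
  refine ⟨by rw [ha, hb]; exact Nat.pow_le_pow_right (by norm_num) hba, fun hlt => ?_⟩
  have hlt' : b < a := by
    rw [ha, hb] at hlt
    exact (Nat.pow_lt_pow_iff_right (by norm_num)).1 hlt
  obtain ⟨c, rfl⟩ : ∃ c, a = b + (c + 1) := ⟨a - b - 1, by omega⟩
  have h5 : 2 ^ b * T'.relIndex N = 2 ^ b * (2 ^ (c + 1) * T.relIndex N) := by
    rw [h3, pow_add]
    ring
  have h6 := Nat.eq_of_mul_eq_mul_left (by positivity) h5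
  rw [h6]
  exact Dvd.dvd.mul_right (dvd_pow_self 2 (by omega)) _

end

/-- **CASE 1** from `UnmTwo`, `MixTwo` and CASE B in CASE 2. -/
theorem wrBigTwoSyl_of {K : Cls.{u}} (hStmt : ∀ (G : Type u) [Group G] [Finite G], ThmC.Stmt G)
    (hB : CaseBN.{u}) (hU : UnmTwo K) (hM : MixTwo K) : WrBigTwoSyl K := by
  intro G _ _ S S' hH P P' hp F F' _ _ _ _ _ _ k k' M M' hk hk' hF hF' i hi hd
  exfalso
  have hc := hH.ctx.char2
  have hT := (hH.typed' hp).1.noOver
  have hT' := (hH.typed' hp).2.noOver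
  obtain ⟨j, hl, -, a, ha, b, hb, hne⟩ := exists_partner hc hp hT hT' M M' hk' hi
  obtain ⟨v, hv, hv1⟩ := exists_line M i
  have hv' : v ∈ line M' j := hl ▸ hv
  have hC : CC M := ThmC.TwoOf.cc (hStmt G) hc hp.star M hF
  have hC' : CC M' := ThmC.TwoOf.cc (hStmt G) hc hp.star' M' hF'
  have hi' : ⁅zl (S' : Subgroup G) P', zl (S : Subgroup G) P⁆ = line M' j := by
    rw [commutator_comm, hi, hl]
  have hSP := hp.star.isLoc.le
  have hSP' := hp.star'.isLoc.le
  -- the number of factors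
  have hTN : stab M i ≤ normalizer (line M i : Set G) := fun x hx => stab_normalizes_line M hSP i hx
  have hTN' : stab M' j ≤ normalizer (line M i : Set G) := by
    rw [hl]
    exact fun x hx => stab_normalizes_line M' hSP' j hx
  have hT2 : IsPGroup 2 (stab M i) := S.isPGroup'.to_le (stab_le M i)
  have hT2' : IsPGroup 2 (stab M' j) := S'.isPGroup'.to_le (stab_le M' j)
  obtain ⟨hle, hlt⟩ := card_le_of_syl hTN hT2 hTN' hT2' hd
  have hSS : Nat.card (S' : Subgroup G) = Nat.card (S : Subgroup G) := by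
    rw [S.card_eq_multiplicity, S'.card_eq_multiplicity]
  have e1 := card_stab M hSP i
  have e2 := card_stab M' hSP' j
  have hpos : 0 < Nat.card (stab M i) := Nat.card_pos
  have hpos' : 0 < Nat.card (stab M' j) := Nat.card_pos
  have hkk : k ≤ k' := by
    by_contra hcon
    push Not at hcon
    have h1 : k' * Nat.card (stab M' j) < k * Nat.card (stab M i) :=
      lt_of_lt_of_le (Nat.mul_lt_mul_of_pos_right hcon hpos') (Nat.mul_le_mul_left k hle)
    omega
  rcases Nat.lt_or_ge k k' with hlt' | hge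
  · -- `M'` is in CASE 2
    have hcard : Nat.card (stab M' j) < Nat.card (stab M i) := by
      by_contra hcon
      push Not at hcon
      have h1 : k * Nat.card (stab M i) < k' * Nat.card (stab M' j) :=
        lt_of_lt_of_le (Nat.mul_lt_mul_of_pos_right hlt' hpos) (Nat.mul_le_mul_left k' hcon)
      omega
    have hd' : 2 ∣ (stab M' j).relIndex (normalizer (line M' j : Set G)) := by
      rw [← hl]
      exact hlt hcard
    exact two_false hc (hStmt G) hp.symm hT' hT M' M (by omega) (by omega) hF' ⟨j, hi'⟩ fun hC' hfr' =>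
      hB G S' P' F' k' M' hc hp.star' hC' hF' hfr' (by omega) j hd'
  · obtain rfl : k' = k := le_antisymm hge hkk
    have hcard : Nat.card (stab M' j) = Nat.card (stab M i) := by
      refine Nat.eq_of_mul_eq_mul_left (by omega : 0 < k') ?_
      rw [← e1, ← e2, hSS]
    have hd' : ¬ 2 ∣ (stab M' j).relIndex (normalizer (line M' j : Set G)) := by
      rw [← hl]
      have h1 := Lib.SylowNormalInf.card_mul_relIndex _ _ hTN
      have h2 := Lib.SylowNormalInf.card_mul_relIndex _ _ hTN'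
      have h3 : (stab M' j).relIndex (normalizer (line M i : Set G)) =
          (stab M i).relIndex (normalizer (line M i : Set G)) := by
        refine Nat.eq_of_mul_eq_mul_left hpos ?_
        rw [h1, ← h2, hcard]
      rwa [h3]
    have hfr : Fr (S : Subgroup G) (fac M) := fr_of hc hp.star hC hF zc_le_zl (line_le M i hv) hv1
      (exists_move hc hp hT hT' hk' hC' hF hi hv hv1)
    have hfr' : Fr (S' : Subgroup G) (fac M') := fr_of hc hp.star' hC' hF' zc_le_zl (line_le M' j hv') hv1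
      (exists_move hc hp.symm hT' hT (by omega) hC hF' hi' hv' hv1)
    by_cases hab : ∃ c ∈ normalizer (line M i : Set G), ∃ a ∈ fac M i, ∃ b ∈ fac M i,
        a * (c * b * c⁻¹) ≠ c * b * c⁻¹ * a
    · exact hU G S hH P F _ M hp.star hC hF hfr hk i hd hab
    by_cases hab' : ∃ c ∈ normalizer (line M' j : Set G), ∃ a ∈ fac M' j, ∃ b ∈ fac M' j,
        a * (c * b * c⁻¹) ≠ c * b * c⁻¹ * a
    · exact hU G S' (hH.conj S') P' F' _ M' hp.star' hC' hF' hfr' hk j hd' hab'
    push Not at hab hab'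
    exact hM G S S' hH P P' hp F F' _ M M' hC hC' hF hF' hfr hfr' hk i j hl hi hd hd'
      ⟨a, ha, b, hb, fun h0 => hne h0.symm⟩ hab hab'

/-- **`WrBigTwo K`** from THEOREM C, CASE B in CASE 2, `UnmTwo` and `MixTwo`. -/
theorem wrBigTwo_of_all {K : Cls.{u}} (hStmt : ∀ (G : Type u) [Group G] [Finite G], ThmC.Stmt G)
    (hB : CaseBN.{u}) (hU : UnmTwo K) (hM : MixTwo K) : WrBigTwo K :=
  wrBigTwo_of_cases hStmt (wrBigTwoSyl_of hStmt hB hU hM) hB

end Cfsg.Agent.Omega.IId.Big
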