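import Mathlib

/-!
# WrBig, `q = 2`: END of THEOREM A (#16750) and the partners (#16833, simplified)

Pure group theory.

* `End.norm` : `C_G(v) ≤ N_G(DD)`, where `DD = D₁ E₁`, `⟨v⟩ E₁` is normalised by `C_G(v)`, and for `p ∈ D₂# ` the group
  `Z(Q_p) ≤ DD` contains `v` and is normalised by `C_G(p)`;
* `End.kill` : no `2`-group normalised by `R` (transitive on `D₁#`) contains an element which normalises `D₁` and
  moves it;
* `End.partner` : a partner with `k' ≥ 2` factors does not exist: `V'₂ ≤ Z(Q_v) = ⟨v⟩ E₁` meets `E₁ ≤ C(R)` in some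
  `d ≠ 1`, `R ≤ C_G(d)` normalises `O₂(C_G(d)) ≥ V'₁`;
* `End.one` : a partner with `k' = 1` does not exist.
-/

set_option autoImplicit false

namespace Cfsg.Agent.Omega.IId.Big

open Subgroup Pointwise

universe u

variable {G : Type u} [Group G]

/-- **END of THEOREM A.** -/
theorem End.norm {DD D₁ E₁ R : Subgroup G} {v : G} (Z : G → Subgroup G)
    (hDD : DD ≤ D₁ ⊔ E₁) (hD : D₁ ≤ DD) (hE : E₁ ≤ DD) (hcomm : ∀ x ∈ DD, ∀ y ∈ DD, x * y = y * x)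
    (hv : v ∈ D₁) (hv2 : v * v = 1)
    (hR : ∀ r ∈ R, ∀ e ∈ E₁, r * e = e * r)
    (htr : ∀ x ∈ D₁, x ≠ 1 → ∃ r ∈ R, r * v * r⁻¹ = x)
    (hZv : ∀ h : G, h * v = v * h → ∀ e ∈ E₁, h * e * h⁻¹ ∈ E₁ ∨ v * (h * e * h⁻¹) ∈ E₁)
    {p₁ p₂ : G} (h1 : p₁ ∈ E₁) (h2 : p₂ ∈ E₁)
    (hZ : ∀ p, p = p₁ ∨ p = p₂ ∨ p = p₁ * p₂ → v ∈ Z p ∧ Z p ≤ DD ∧
      ∀ g : G, g * p = p * g → ∀ x ∈ Z p, g * x * g⁻¹ ∈ Z p)
    {h : G} (hh : h * v = v * h) {x : G} (hx : x ∈ DD) : h * x * h⁻¹ ∈ DD := by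
  have hh' : h⁻¹ * v = v * h⁻¹ := by
    calc h⁻¹ * v = h⁻¹ * (v * h) * h⁻¹ := by group
      _ = h⁻¹ * (h * v) * h⁻¹ := by rw [hh]
      _ = v * h⁻¹ := by group
  have hvDD : v ∈ DD := hD hv
  -- some `p` with `h⁻¹ p h ∈ E₁`
  have key : ∃ p, (p = p₁ ∨ p = p₂ ∨ p = p₁ * p₂) ∧ h⁻¹ * p * h ∈ E₁ := by
    have e1 := hZv h⁻¹ hh' p₁ h1
    have e2 := hZv h⁻¹ hh' p₂ h2
    rw [inv_inv] at e1 e2
    rcases e1 with e1 | e1
    · exact ⟨p₁, Or.inl rfl, e1⟩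
    rcases e2 with e2 | e2
    · exact ⟨p₂, Or.inr (Or.inl rfl), e2⟩
    refine ⟨p₁ * p₂, Or.inr (Or.inr rfl), ?_⟩
    have e3 := mul_mem e1 e2
    have e4 : h⁻¹ * p₁ * h * v = v * (h⁻¹ * p₁ * h) := by
      have e5 := mul_mem (inv_mem (hE e1)) hvDD
      have e6 : h⁻¹ * p₁ * h ∈ DD := by
        have e7 := mul_mem (inv_mem hvDD) (hE e1)
        rwa [inv_mul_cancel_left] at e7
      exact hcomm _ e6 _ hvDD
    have e8 : v * (h⁻¹ * p₁ * h) * (v * (h⁻¹ * p₂ * h)) = h⁻¹ * (p₁ * p₂) * h := by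
      calc v * (h⁻¹ * p₁ * h) * (v * (h⁻¹ * p₂ * h))
          = v * (h⁻¹ * p₁ * h * v) * (h⁻¹ * p₂ * h) := by group
        _ = v * (v * (h⁻¹ * p₁ * h)) * (h⁻¹ * p₂ * h) := by rw [e4]
        _ = v * v * (h⁻¹ * (p₁ * p₂) * h) := by group
        _ = h⁻¹ * (p₁ * p₂) * h := by rw [hv2, one_mul]
    rwa [e8] at e3
  obtain ⟨p, hp, hpE⟩ := key
  obtain ⟨z1, z2, z3⟩ := hZ p hp
  -- the conjugates of `D₁`
  have hD1 : ∀ y ∈ D₁, h * y * h⁻¹ ∈ DD := by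
    intro y hy
    by_cases hy1 : y = 1
    · rw [hy1, mul_one, mul_inv_cancel]
      exact one_mem _
    obtain ⟨r, hr, rfl⟩ := htr y hy hy1
    have c1 : h * r * h⁻¹ * p = p * (h * r * h⁻¹) := by
      have c2 := hR r hr _ hpE
      calc h * r * h⁻¹ * p = h * (r * (h⁻¹ * p * h)) * h⁻¹ := by group
        _ = h * ((h⁻¹ * p * h) * r) * h⁻¹ := by rw [c2]
        _ = p * (h * r * h⁻¹) := by group
    have c3 := z3 _ c1 v z1
    have c4 : h * (r * v * r⁻¹) * h⁻¹ = h * r * h⁻¹ * v * (h * r * h⁻¹)⁻¹ := by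
      calc h * (r * v * r⁻¹) * h⁻¹ = h * r * (h⁻¹ * v * h) * r⁻¹ * h⁻¹ := by
            have c5 : h⁻¹ * v * h = v := by
              rw [hh', mul_assoc, inv_mul_cancel, mul_one]
            rw [c5]
            group
        _ = h * r * h⁻¹ * v * (h * r * h⁻¹)⁻¹ := by group
    rw [c4]
    exact z2 c3
  have hE1 : ∀ y ∈ E₁, h * y * h⁻¹ ∈ DD := by
    intro y hy
    rcases hZv h hh y hy with e | e
    · exact hE e
    · have e7 := mul_mem (inv_mem hvDD) (hE e)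
      rwa [inv_mul_cancel_left] at e7
  have h9 : D₁ ⊔ E₁ ≤ DD.comap (MulAut.conj h).toMonoidHom :=
    sup_le (fun y hy => by
      rw [mem_comap]
      exact hD1 y hy) (fun y hy => by
      rw [mem_comap]
      exact hE1 y hy)
  have h10 := h9 (hDD hx)
  rw [mem_comap] at h10
  exact h10

/-- No `2`-group `K` normalised by a group `R`, transitive on `D₁#`, contains an element `a` which normalises the
`2`-group `D₁` and does not centralise it. -/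
theorem End.kill [Finite G] {D₁ R K : Subgroup G} (hD : IsPGroup 2 D₁) (hK : IsPGroup 2 K)
    (hRD : ∀ r ∈ R, ∀ x ∈ D₁, r * x * r⁻¹ ∈ D₁)
    (htr : ∀ x ∈ D₁, x ≠ 1 → ∀ y ∈ D₁, y ≠ 1 → ∃ r ∈ R, r * x * r⁻¹ = y)
    (hRK : ∀ r ∈ R, ∀ x ∈ K, r * x * r⁻¹ ∈ K)
    {a : G} (ha : a ∈ K) (haD : ∀ x ∈ D₁, a * x * a⁻¹ ∈ D₁) {x₀ : G} (hx₀ : x₀ ∈ D₁) (hne : a * x₀ ≠ x₀ * a) :
    False := by
  classical
  -- `B = ⟨a^R⟩`
  let B : Subgroup G := closure {b | ∃ r ∈ R, b = r * a * r⁻¹}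
  have hBK : B ≤ K := by
    rw [closure_le]
    rintro b ⟨r, hr, rfl⟩
    exact hRK r hr a ha
  have hBN : B ≤ normalizer (D₁ : Set G) := by
    rw [closure_le]
    rintro b ⟨r, hr, rfl⟩
    have haN : a ∈ normalizer (D₁ : Set G) := by
      have h1 : D₁.map (MulAut.conj a).toMonoidHom ≤ D₁ := by
        rintro _ ⟨x, hx, rfl⟩
        exact haD x hx
      rw [mem_normalizer_iff]
      intro x
      constructor
      · exact haD x
      · intro h2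
        have h3 : D₁.map (MulAut.conj a).toMonoidHom = D₁ := by
          refine eq_of_le_of_card_ge h1 ?_
          rw [card_map_of_injective (MulAut.conj a).injective]
        have h4 : a * x * a⁻¹ ∈ D₁.map (MulAut.conj a).toMonoidHom := by
          rw [h3]
          exact h2
        obtain ⟨y, hy, hxy⟩ := h4
        have h5 : y = x := by
          have h6 : a * y * a⁻¹ = a * x * a⁻¹ := hxy
          have h7 := mul_right_cancel h6
          exact mul_left_cancel h7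
        rw [← h5]
        exact hy
    have hrN : r ∈ normalizer (D₁ : Set G) := by
      rw [mem_normalizer_iff]
      intro x
      constructor
      · exact hRD r hr x
      · intro h2
        have h3 := hRD r⁻¹ (inv_mem hr) _ h2
        have h4 : r⁻¹ * (r * x * r⁻¹) * r⁻¹⁻¹ = x := by group
        rwa [h4] at h3
    exact mul_mem (mul_mem hrN haN) (inv_mem hrN)
  have hB : IsPGroup 2 B := hK.to_le hBK
  -- `B` acts on `D₁`
  let act : MulAction B D₁ :=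
    { smul := fun b x => ⟨b.1 * x.1 * b.1⁻¹, (mem_normalizer_iff.1 (hBN b.2) x.1).1 x.2⟩
      one_smul := fun x => Subtype.ext (by
        change (1 : B).1 * x.1 * (1 : B).1⁻¹ = x.1
        simp)
      mul_smul := fun b c x => Subtype.ext (by
        change (b * c).1 * x.1 * (b * c).1⁻¹ = b.1 * (c.1 * x.1 * c.1⁻¹) * b.1⁻¹
        rw [coe_mul]
        group) }
  have hx₀1 : x₀ ≠ 1 := by
    rintro rfl
    exact hne (by rw [mul_one, one_mul])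
  have hcard : 2 ∣ Nat.card D₁ := by
    have : Nontrivial D₁ := ⟨⟨x₀, hx₀⟩, 1, fun h => hx₀1 (congrArg Subtype.val h)⟩
    obtain ⟨n, hn⟩ := (IsPGroup.iff_card.1 hD)
    have hn0 : n ≠ 0 := by
      rintro rfl
      rw [pow_zero] at hn
      exact (Finite.one_lt_card (α := D₁)).ne' hn
    rw [hn]
    exact dvd_pow_self 2 hn0
  have h1 : (1 : D₁) ∈ MulAction.fixedPoints B D₁ := by
    intro b
    apply Subtype.ext
    change b.1 * (1 : D₁).1 * b.1⁻¹ = (1 : D₁).1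
    simp
  have : Fact (Nat.Prime 2) := ⟨Nat.prime_two⟩
  obtain ⟨y, hy, hy1⟩ := hB.exists_fixed_point_of_prime_dvd_card_of_fixed_point D₁ hcard h1
  have hy1' : y.1 ≠ 1 := fun h => hy1 (Subtype.ext h).symm
  obtain ⟨r, hr, hrx⟩ := htr y.1 y.2 hy1' x₀ hx₀ hx₀1
  -- `r⁻¹ a r` fixes `y`
  have hb : r⁻¹ * a * r⁻¹⁻¹ ∈ B := subset_closure ⟨r⁻¹, inv_mem hr, rfl⟩
  have h2 : (r⁻¹ * a * r⁻¹⁻¹) * y.1 * (r⁻¹ * a * r⁻¹⁻¹)⁻¹ = y.1 := congrArg Subtype.val (hy ⟨_, hb⟩)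
  apply hne
  rw [← hrx]
  have h3 : a * (r * y.1 * r⁻¹) * a⁻¹ = r * y.1 * r⁻¹ := by
    calc a * (r * y.1 * r⁻¹) * a⁻¹
        = r * ((r⁻¹ * a * r⁻¹⁻¹) * y.1 * (r⁻¹ * a * r⁻¹⁻¹)⁻¹) * r⁻¹ := by group
      _ = r * y.1 * r⁻¹ := by rw [h2]
  calc a * (r * y.1 * r⁻¹) = a * (r * y.1 * r⁻¹) * a⁻¹ * a := by group
    _ = r * y.1 * r⁻¹ * a := by rw [h3]

/-- **Partners with `k' ≥ 2` factors** (simplified #16833). `d₁, d₂ ∈ V'₂` distinct and `≠ 1`, in `Z(Q_v) = ⟨v⟩ E₁`,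
`R` centralises `E₁` and is transitive on `D₁#`; `K d = O₂(C_G(d)) ≥ V'₁ ∋ a`. -/
theorem End.partner [Finite G] {D₁ E₁ R : Subgroup G} {v : G} (K : G → Subgroup G)
    (hD : IsPGroup 2 D₁) (hv2 : v * v = 1) (hvE : ∀ e ∈ E₁, v * e = e * v)
    (hR : ∀ r ∈ R, ∀ e ∈ E₁, r * e = e * r)
    (hRD : ∀ r ∈ R, ∀ x ∈ D₁, r * x * r⁻¹ ∈ D₁)
    (htr : ∀ x ∈ D₁, x ≠ 1 → ∀ y ∈ D₁, y ≠ 1 → ∃ r ∈ R, r * x * r⁻¹ = y)
    {V₂ : Subgroup G} (hV₂ : ∀ d ∈ V₂, d ∈ E₁ ∨ v * d ∈ E₁)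
    {d₁ d₂ : G} (h1 : d₁ ∈ V₂) (h2 : d₂ ∈ V₂) (h11 : d₁ ≠ 1) (h21 : d₂ ≠ 1) (h12 : d₁ * d₂ ≠ 1)
    (hK : ∀ d, IsPGroup 2 (K d)) (hKn : ∀ d ∈ V₂, ∀ g : G, g * d = d * g → ∀ x ∈ K d, g * x * g⁻¹ ∈ K d)
    {a : G} (ha : ∀ d ∈ V₂, d ≠ 1 → a ∈ K d) (haD : ∀ x ∈ D₁, a * x * a⁻¹ ∈ D₁)
    {x₀ : G} (hx₀ : x₀ ∈ D₁) (hne : a * x₀ ≠ x₀ * a) : False := by
  have key : ∃ d ∈ V₂, d ≠ 1 ∧ d ∈ E₁ := by
    rcases hV₂ d₁ h1 with e1 | e1
    · exact ⟨d₁, h1, h11, e1⟩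
    rcases hV₂ d₂ h2 with e2 | e2
    · exact ⟨d₂, h2, h21, e2⟩
    refine ⟨d₁ * d₂, mul_mem h1 h2, h12, ?_⟩
    have e3 := mul_mem e1 e2
    have e4 : v * d₁ * (v * d₂) = d₁ * d₂ := by
      have e5 := hvE _ e1
      calc v * d₁ * (v * d₂) = (v * d₁) * v * d₂ := by group
        _ = v * (v * d₁) * d₂ := by rw [e5]
        _ = v * v * (d₁ * d₂) := by group
        _ = d₁ * d₂ := by rw [hv2, one_mul]
    rwa [e4] at e3
  obtain ⟨d, hd, hd1, hdE⟩ := key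
  exact End.kill hD (hK d) hRD htr (fun r hr x hx => hKn d hd r (hR r hr d hdE) x hx) (ha d hd hd1) haD hx₀ hne

/-- **Partners with `k' = 1`**: `S'` is Sylow in `G` and centralises `v`. `S` permutes the `D i`, `C_G(v) ≤ N_G(DD)`;
`w ∈ O₂(C_G(v))` acts on `DD` as a transvection with centre `v`. -/
theorem End.one [Finite G] {ι : Type*} {S S' : Sylow 2 G} {DD : Subgroup G} (D : ι → Subgroup G) {v z w : G}
    (hDD : DD ≤ ⨆ i, D i) (hD : ∀ i, D i ≤ DD) (hcomm : ∀ x ∈ DD, ∀ y ∈ DD, x * y = y * x)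
    (hdis : ∀ i j, i ≠ j → D i ⊓ D j = ⊥) (hperm : ∀ s ∈ S, ∀ i, ∃ j, ∀ x ∈ D i, s * x * s⁻¹ ∈ D j)
    (hbig : ∀ i, ∃ x ∈ D i, ∃ y ∈ D i, x ≠ y ∧ x ≠ 1 ∧ y ≠ 1)
    (hz : z ∈ DD) (hzD : ∀ i, z ∉ D i)
    (hZ : ∀ x ∈ S, x * x = 1 → (∀ s ∈ S, s * x = x * s) → x = 1 ∨ x = z)
    (hv1 : v ≠ 1) (hv2 : v * v = 1) (hvS : v ∈ S') (hS' : ∀ s ∈ S', s * v = v * s)
    (hC : ∀ h : G, h * v = v * h → ∀ x ∈ DD, h * x * h⁻¹ ∈ DD)
    (hw : ∀ x ∈ DD, w * x * w⁻¹ = x ∨ w * x * w⁻¹ = v * x)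
    (hwS : ∀ m : G, m * z * m⁻¹ = v → m⁻¹ * w * m ∈ S)
    {x₀ : G} (hx₀ : x₀ ∈ DD) (hne : w * x₀ ≠ x₀ * w) : False := by
  classical
  let M : Subgroup G := normalizer (DD : Set G)
  have hnorm : ∀ g : G, (∀ x ∈ DD, g * x * g⁻¹ ∈ DD) → g ∈ M := by
    intro g hg
    have h1 : DD.map (MulAut.conj g).toMonoidHom ≤ DD := by
      rintro _ ⟨x, hx, rfl⟩
      exact hg x hx
    change g ∈ normalizer (DD : Set G)
    rw [mem_normalizer_iff]
    intro x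
    constructor
    · exact hg x
    · intro h2
      have h3 : DD.map (MulAut.conj g).toMonoidHom = DD := by
        refine eq_of_le_of_card_ge h1 ?_
        rw [card_map_of_injective (MulAut.conj g).injective]
      have h4 : g * x * g⁻¹ ∈ DD.map (MulAut.conj g).toMonoidHom := by
        rw [h3]
        exact h2
      obtain ⟨y, hy, hxy⟩ := h4
      have h5 : y = x := by
        have h6 : g * y * g⁻¹ = g * x * g⁻¹ := hxy
        exact mul_left_cancel (mul_right_cancel h6)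
      rw [← h5]
      exact hy
  have hSM : (S : Subgroup G) ≤ M := by
    intro s hs
    refine hnorm s ?_
    have h1 : (⨆ i, D i) ≤ DD.comap (MulAut.conj s).toMonoidHom := by
      refine iSup_le fun i => ?_
      obtain ⟨j, hj⟩ := hperm s hs i
      intro x hx
      rw [mem_comap]
      exact hD j (hj x hx)
    intro x hx
    have h2 := h1 (hDD hx)
    rw [mem_comap] at h2
    exact h2
  have hSM' : (S' : Subgroup G) ≤ M := fun s hs => hnorm s (hC s (hS' s hs))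
  -- the two Sylow subgroups are conjugate in `M`
  have : Fact (Nat.Prime 2) := ⟨Nat.prime_two⟩
  obtain ⟨m, hm⟩ := MulAction.exists_smul_eq M (S.subtype hSM) (S'.subtype hSM')
  have hm1 : ∀ s ∈ S', m.1⁻¹ * s * m.1 ∈ S := by
    intro s hs
    have h0 : (⟨s, hSM' hs⟩ : M) ∈ ((S'.subtype hSM' : Sylow 2 M) : Subgroup M) := hs
    rw [← hm] at h0
    have h1 : (⟨s, hSM' hs⟩ : M) ∈ MulAut.conj m • ((S.subtype hSM : Sylow 2 M) : Subgroup M) := h0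
    have h2 := (mem_pointwise_smul_iff_inv_smul_mem).1 h1
    have h3 : ((MulAut.conj m)⁻¹ • (⟨s, hSM' hs⟩ : M)) ∈ (S : Subgroup G).subgroupOf M := h2
    rw [mem_subgroupOf] at h3
    have h4 : (((MulAut.conj m)⁻¹ • (⟨s, hSM' hs⟩ : M) : M) : G) = m.1⁻¹ * s * m.1 := by
      rw [← map_inv, MulAut.smul_def, MulAut.conj_apply]
      simp
    rwa [h4] at h3
  have hm2 : ∀ s ∈ S, m.1 * s * m.1⁻¹ ∈ S' := by
    intro s hs
    have h1 : (⟨s, hSM hs⟩ : M) ∈ ((S.subtype hSM : Sylow 2 M) : Subgroup M) := hs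
    have h3 := smul_mem_pointwise_smul (⟨s, hSM hs⟩ : M) (MulAut.conj m) _ h1
    rw [MulAut.smul_def, MulAut.conj_apply] at h3
    have h4 : m * ⟨s, hSM hs⟩ * m⁻¹ ∈ ((m • S.subtype hSM : Sylow 2 M) : Subgroup M) := h3
    rw [hm] at h4
    exact h4
  -- `m⁻¹ v m = z`
  have hvz : m.1⁻¹ * v * m.1 = z := by
    have h1 := hZ _ (hm1 v hvS) (by
      calc m.1⁻¹ * v * m.1 * (m.1⁻¹ * v * m.1) = m.1⁻¹ * (v * v) * m.1 := by group
        _ = 1 := by rw [hv2]; group) (by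
      intro s hs
      have h2 := hS' _ (hm2 s hs)
      calc s * (m.1⁻¹ * v * m.1) = m.1⁻¹ * (m.1 * s * m.1⁻¹ * v) * m.1 := by group
        _ = m.1⁻¹ * (v * (m.1 * s * m.1⁻¹)) * m.1 := by rw [h2]
        _ = m.1⁻¹ * v * m.1 * s := by group)
    rcases h1 with h1 | h1
    · exfalso
      apply hv1
      calc v = m.1 * (m.1⁻¹ * v * m.1) * m.1⁻¹ := by group
        _ = 1 := by rw [h1]; group
    · exact h1
  have hzv : m.1 * z * m.1⁻¹ = v := by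
    rw [← hvz]
    group
  have hwm : m.1⁻¹ * w * m.1 ∈ S := hwS _ hzv
  set w' : G := m.1⁻¹ * w * m.1 with hw'
  have hmDD : ∀ x ∈ DD, m.1 * x * m.1⁻¹ ∈ DD := fun x hx => (mem_normalizer_iff.1 m.2 x).1 hx
  have hmDD' : ∀ x ∈ DD, m.1⁻¹ * x * m.1 ∈ DD := fun x hx => by
    have h1 := (mem_normalizer_iff.1 (inv_mem m.2) x).1 hx
    rwa [inv_inv] at h1
  have hw2 : ∀ x ∈ DD, w' * x * w'⁻¹ = x ∨ w' * x * w'⁻¹ = z * x := by
    intro x hx
    have h1 : w' * x * w'⁻¹ = m.1⁻¹ * (w * (m.1 * x * m.1⁻¹) * w⁻¹) * m.1 := by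
      rw [hw']
      group
    rcases hw _ (hmDD x hx) with h2 | h2
    · left
      rw [h1, h2]
      group
    · right
      rw [h1, h2, ← hvz]
      group
  -- `w'` centralises every `D i`
  have hcen : ∀ i, ∀ x ∈ D i, w' * x * w'⁻¹ = x := by
    intro i
    obtain ⟨j, hj⟩ := hperm w' hwm i
    by_cases hij : j = i
    · subst hij
      intro x hx
      rcases hw2 x (hD j hx) with h2 | h2
      · exact h2
      · exfalso
        have h3 := mul_mem (hj x hx) (inv_mem hx)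
        rw [h2, mul_inv_cancel_right] at h3
        exact hzD j h3
    · exfalso
      obtain ⟨x, hx, y, hy, hxy, hx1, hy1⟩ := hbig i
      have h3 : ∀ x ∈ D i, x ≠ 1 → w' * x * w'⁻¹ = z * x := by
        intro x hx hx1
        rcases hw2 x (hD i hx) with h2 | h2
        · exfalso
          have h4 := hj x hx
          rw [h2] at h4
          have h5 : x ∈ D j ⊓ D i := ⟨h4, hx⟩
          rw [hdis j i hij] at h5
          exact hx1 (mem_bot.1 h5)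
        · exact h2
      have h6 := h3 (x * y⁻¹) (mul_mem hx (inv_mem hy)) (fun h => hxy (mul_inv_eq_one.1 h))
      have h7 : w' * (x * y⁻¹) * w'⁻¹ = x * y⁻¹ := by
        calc w' * (x * y⁻¹) * w'⁻¹ = (w' * x * w'⁻¹) * (w' * y * w'⁻¹)⁻¹ := by group
          _ = (z * x) * (z * y)⁻¹ := by rw [h3 x hx hx1, h3 y hy hy1]
          _ = z * (x * y⁻¹) * z⁻¹ := by group
          _ = x * y⁻¹ := by
            rw [hcomm z hz _ (mul_mem (hD i hx) (inv_mem (hD i hy))), mul_inv_cancel_right]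
      rw [h7] at h6
      have h8 : z = 1 := mul_eq_right.1 h6.symm
      exact hzD i (by rw [h8]; exact one_mem _)
  have hall : ∀ x ∈ DD, w' * x * w'⁻¹ = x := by
    have h1 : (⨆ i, D i) ≤ centralizer ({w'} : Set G) := by
      refine iSup_le fun i x hx => ?_
      rw [mem_centralizer_singleton_iff]
      have h2 := hcen i x hx
      calc x * w' = w' * x * w'⁻¹ * w' := by rw [h2]
        _ = w' * x := by group
    intro x hx
    have h3 := h1 (hDD hx)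
    rw [mem_centralizer_singleton_iff] at h3
    rw [← h3, mul_inv_cancel_right]
  apply hne
  have h9 := hall _ (hmDD' x₀ hx₀)
  have h10 : w * x₀ * w⁻¹ = x₀ := by
    calc w * x₀ * w⁻¹ = m.1 * (w' * (m.1⁻¹ * x₀ * m.1) * w'⁻¹) * m.1⁻¹ := by
          rw [hw']
          group
      _ = x₀ := by
        rw [h9]
        group
  calc w * x₀ = w * x₀ * w⁻¹ * w := by group
    _ = x₀ * w := by rw [h10]

end Cfsg.Agent.Omega.IId.Big
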