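import Cfsg.Agent.Omega.IId.Big.Glue

/-!
# II.d, THEOREM A (bb OMEGA 17530): (Z), (A1')

`S` a Sylow 2-subgroup of `G`, `Fr S V`.

* `Fr.fix_bot` : (Z) an element of a 2-group normalised by `S` which is centralised by all `X^i` is `1`;
* `Fr.perm_DD`, `Fr.perm_XX` : `S` permutes the `D_i` and the `X^i`;
* `Fr.split` : `x ∈ ∏_{j ≠ i} A_j · A_i`;
* `Fr.U_comm_U` : (A1') `[U_v, U_v'] = 1` for `v, v' ∈ V i`.
-/

set_option autoImplicit false
set_option linter.unusedSectionVars false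

namespace Cfsg.Agent.Omega.IId.Big

open Subgroup Cfsg
open Cfsg.Agent.ZN (o2 zc)
open Cfsg.Agent.MinSimple.VModule (le_o2 le_normalizer_o2 mem_zc o2_isPGroup o2_le)
open Triangle (KK KK_conj KK_le_o2 mem_cent mem_KK mem_zpowers_iff_of_sq cent_conj o2_cent_conj)

universe u

variable {G : Type u} [Group G]

section tools

/-- an involution in `⟨x⟩` -/
theorem exists_inv {A : Subgroup G} (hA : IsPGroup 2 A) {x : G} (hx : x ∈ A) (hx1 : x ≠ 1) :
    ∃ n : ℕ, x ^ n ≠ 1 ∧ x ^ n * x ^ n = 1 := by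
  obtain ⟨m, hm⟩ := hA ⟨x, hx⟩
  have hm' : x ^ 2 ^ m = 1 := by simpa using congrArg Subtype.val hm
  clear hm
  induction m with
  | zero => exact absurd (by simpa using hm') hx1
  | succ m ih =>
    by_cases h1 : x ^ 2 ^ m = 1
    · exact ih h1
    · refine ⟨2 ^ m, h1, ?_⟩
      rw [← pow_add, ← two_mul, ← pow_succ', hm']

/-- splitting a product over a family -/
theorem split {ι : Type} {A : ι → Subgroup G} (hA : ∀ i j, i ≠ j → ∀ x ∈ A i, ∀ y ∈ A j, x * y = y * x)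
    (P : ι → Prop) (i : ι) {x : G} (hx : x ∈ closure {y | ∃ j, P j ∧ y ∈ A j}) :
    ∃ a ∈ A i, ∃ b ∈ closure {y | ∃ j, (P j ∧ j ≠ i) ∧ y ∈ A j}, x = a * b := by
  have hcomm : ∀ a ∈ A i, ∀ b ∈ closure {y | ∃ j, (P j ∧ j ≠ i) ∧ y ∈ A j}, a * b = b * a := by
    intro a ha b hb
    refine cent_of_closure ?_ hb
    rintro y ⟨j, ⟨_, hj⟩, hy⟩
    exact hA i j (Ne.symm hj) a ha y hy
  induction hx using closure_induction with
  | mem x hx =>
    obtain ⟨j, hj, hx⟩ := hx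
    by_cases hji : j = i
    · subst hji
      exact ⟨x, hx, 1, one_mem _, by simp⟩
    · exact ⟨1, one_mem _, x, subset_closure ⟨j, ⟨hj, hji⟩, hx⟩, by simp⟩
  | one => exact ⟨1, one_mem _, 1, one_mem _, by simp⟩
  | mul x y _ _ h1 h2 =>
    obtain ⟨a, ha, b, hb, rfl⟩ := h1
    obtain ⟨a', ha', b', hb', rfl⟩ := h2
    refine ⟨a * a', mul_mem ha ha', b * b', mul_mem hb hb', ?_⟩
    calc a * b * (a' * b') = a * (b * a') * b' := by group
      _ = a * a' * (b * b') := by rw [← hcomm a' ha' b hb]; group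
  | inv x _ h1 =>
    obtain ⟨a, ha, b, hb, rfl⟩ := h1
    refine ⟨a⁻¹, inv_mem ha, b⁻¹, inv_mem hb, ?_⟩
    rw [hcomm a ha b hb, mul_inv_rev]

end tools

namespace Fr

variable {ι : Type} [Finite ι] {S : Sylow 2 G} {V : ι → Subgroup G} [Finite G] (h : Fr (S : Subgroup G) V)
include h

omit [Finite ι] in
/-- an element of `∏ V_j` (`P j`) centralised by all `X^i` is in the product over `j ≠ i` -/
theorem strip (P : ι → Prop) (i : ι) {x : G} (hx : x ∈ closure {y | ∃ j, P j ∧ y ∈ V j})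
    (hX : ∀ g ∈ XX V i, g * x = x * g) : x ∈ closure {y | ∃ j, (P j ∧ j ≠ i) ∧ y ∈ V j} := by
  obtain ⟨a, ha, b, hb, rfl⟩ := split (fun i j _ x hx y hy => h.comm i j x hx y hy) P i hx
  have h1 : ∀ g ∈ XX V i, g * b = b * g := by
    intro g hg
    refine cent_of_closure ?_ hb
    rintro y ⟨j, ⟨_, hj⟩, hy⟩
    exact mem_cent.1 (h.X_le hj hy hg)
  have h2 : ∀ g ∈ XX V i, g * a = a * g := by
    intro g hg
    have h3 := hX g hg
    have h4 := h1 g hg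
    have h5 : g * a * b = a * g * b := by
      calc g * a * b = g * (a * b) := by group
        _ = a * (b * g) := by rw [h3]; group
        _ = a * g * b := by rw [← h4]; group
    exact mul_right_cancel h5
  have h3 : a = 1 := by
    by_contra ha1
    obtain ⟨c, hc, hc1, hac⟩ := h.exists_other (i := i) a
    obtain ⟨g, hg, h4⟩ := h.move hc ha hc1 ha1 (Ne.symm hac)
    have h5 := conj_of_comm (h2 g (KK_le_XX hc hc1 hg))
    rw [h5] at h4
    exact hc1 (mul_eq_right.1 h4.symm)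
  rw [h3, one_mul]
  exact hb

/-- an element of `∏ V_i` centralised by all `X^i` is `1` -/
theorem eq_one_of_fix {x : G} (hx : x ∈ ⨆ i, V i) (hX : ∀ i, ∀ g ∈ XX V i, g * x = x * g) : x = 1 := by
  classical
  have := Fintype.ofFinite ι
  have h0 : x ∈ closure {y | ∃ j, (j ∉ (∅ : Finset ι)) ∧ y ∈ V j} := by
    have h1 : (⨆ i, V i) ≤ closure {y | ∃ j, (j ∉ (∅ : Finset ι)) ∧ y ∈ V j} :=
      iSup_le fun i y hy => subset_closure ⟨i, by simp, hy⟩
    exact h1 hx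
  have key : ∀ J : Finset ι, x ∈ closure {y | ∃ j, j ∉ J ∧ y ∈ V j} := by
    intro J
    induction J using Finset.induction_on with
    | empty => exact h0
    | insert i J _ ih =>
      have h1 := h.strip (fun j => j ∉ J) i ih (hX i)
      refine closure_mono ?_ h1
      rintro y ⟨j, ⟨hj, hji⟩, hy⟩
      refine ⟨j, ?_, hy⟩
      rw [Finset.mem_insert, not_or]
      exact ⟨hji, hj⟩
  have h1 := key Finset.univ
  have h2 : {y | ∃ j, j ∉ (Finset.univ : Finset ι) ∧ y ∈ V j} = ∅ := by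
    ext y
    simp
  rw [h2, Subgroup.closure_empty] at h1
  exact mem_bot.1 h1

omit [Finite ι] in
/-- `S` permutes the `V i`, in both directions -/
theorem perm' {s : G} (hs : s ∈ (S : Subgroup G)) (i : ι) :
    ∃ j, (∀ x, x ∈ V i ↔ s * x * s⁻¹ ∈ V j) ∧ (∀ l, l ≠ j → ∃ l', l' ≠ i ∧
      ∀ x, x ∈ V l ↔ s⁻¹ * x * s ∈ V l') := by
  obtain ⟨j, hj⟩ := h.perm s hs i
  refine ⟨j, hj, fun l hl => ?_⟩
  obtain ⟨l', hl'⟩ := h.perm s⁻¹ (inv_mem hs) l
  refine ⟨l', ?_, fun x => by have := hl' x; rwa [inv_inv] at this⟩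
  rintro rfl
  obtain ⟨a, ha, -, -, ha1, -, -⟩ := h.exists_two l
  have h1 := (hl' a).1 ha
  rw [inv_inv] at h1
  have h2 := (hj _).1 h1
  have e : s * (s⁻¹ * a * s) * s⁻¹ = a := by group
  rw [e] at h2
  exact ha1 (h.disj hl ha h2)

omit [Finite ι] in
theorem perm_Vo {s : G} {i j : ι} (hj : ∀ x, x ∈ V i ↔ s * x * s⁻¹ ∈ V j)
    (hs : s ∈ (S : Subgroup G)) {x : G} (hx : x ∈ Vo V i) : s * x * s⁻¹ ∈ Vo V j := by
  have h1 : Vo V i ≤ (Vo V j).comap (MulAut.conj s).toMonoidHom := by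
    refine Vo_le fun l hl y hy => ?_
    show s * y * s⁻¹ ∈ Vo V j
    obtain ⟨l', hl'⟩ := h.perm s hs l
    refine le_Vo ?_ ((hl' y).1 hy)
    rintro rfl
    obtain ⟨a, ha, -, -, ha1, -, -⟩ := h.exists_two l
    have h2 := (hj a).2 ((hl' a).1 ha)
    exact ha1 (h.disj hl ha h2)
  exact h1 hx

omit [Finite ι] in
theorem perm_UU {s : G} {i j : ι} (hj : ∀ x, x ∈ V i ↔ s * x * s⁻¹ ∈ V j)
    (hs : s ∈ (S : Subgroup G)) {x v : G} (hx : x ∈ UU V i v) :
    s * x * s⁻¹ ∈ UU V j (s * v * s⁻¹) := by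
  refine cl_conj (fun a ha => h.perm_Vo hj hs ha) (fun c hc => ?_) hx
  rw [mem_cent] at hc ⊢
  calc s * c * s⁻¹ * (s * v * s⁻¹) = s * (c * v) * s⁻¹ := by group
    _ = s * v * s⁻¹ * (s * c * s⁻¹) := by rw [hc]; group

omit [Finite ι] in
/-- `S` permutes the `D_i` -/
theorem perm_DD {s : G} (hs : s ∈ (S : Subgroup G)) (i : ι) :
    ∃ j, (∀ x, x ∈ V i ↔ s * x * s⁻¹ ∈ V j) ∧ ∀ x ∈ DD V i, s * x * s⁻¹ ∈ DD V j := by
  obtain ⟨j, hj, hl⟩ := h.perm' hs i
  refine ⟨j, hj, fun x hx => mem_DD.2 fun l hlj p hp hp1 => ?_⟩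
  obtain ⟨l', hl'i, hl'⟩ := hl l hlj
  have h1 := mem_DD.1 hx l' hl'i (s⁻¹ * p * s) ((hl' p).1 hp) (fun h2 => hp1 (by
    have e : p = s * (s⁻¹ * p * s) * s⁻¹ := by group
    rw [e, h2]; group))
  have h2 := h.perm_UU (i := l') (j := l) (fun y => by
    have h3 := hl' (s * y * s⁻¹)
    have e : s⁻¹ * (s * y * s⁻¹) * s = y := by group
    rw [e] at h3
    exact h3.symm) hs h1
  have e : s * (s⁻¹ * p * s) * s⁻¹ = p := by group
  rwa [e] at h2

omit [Finite ι] in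
/-- `S` permutes the `X^i` -/
theorem perm_XX {s : G} (hs : s ∈ (S : Subgroup G)) (i : ι) :
    ∃ j, ∀ x ∈ XX V i, s * x * s⁻¹ ∈ XX V j := by
  obtain ⟨j, hj⟩ := h.perm s hs i
  refine ⟨j, fun x hx => ?_⟩
  have h1 : XX V i ≤ (XX V j).comap (MulAut.conj s).toMonoidHom := by
    refine XX_le fun v hv hv1 g hg => ?_
    show s * g * s⁻¹ ∈ XX V j
    refine KK_le_XX ((hj v).1 hv) (fun h2 => hv1 ?_) (KK_conj hg)
    have e : v = s⁻¹ * (s * v * s⁻¹) * s := by group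
    rw [e, h2]; group
  exact h1 hx

/-- **(Z).** -/
theorem fix_bot {A : Subgroup G} (hA : IsPGroup 2 A) (hSA : (S : Subgroup G) ≤ normalizer (A : Set G)) {x : G}
    (hx : x ∈ A) (hX : ∀ i, ∀ g ∈ XX V i, g * x = x * g) : x = 1 := by
  -- the fixed subgroup `B`
  let B : Subgroup G := A ⊓ centralizer {y | ∃ i, y ∈ XX V i}
  have hB : ∀ {y}, y ∈ B ↔ y ∈ A ∧ ∀ i, ∀ g ∈ XX V i, g * y = y * g := by
    intro y
    constructor
    · rintro ⟨h1, h2⟩
      exact ⟨h1, fun i g hg => mem_centralizer_iff.1 h2 g ⟨i, hg⟩⟩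
    · rintro ⟨h1, h2⟩
      refine ⟨h1, mem_centralizer_iff.2 ?_⟩
      rintro g ⟨i, hg⟩
      exact h2 i g hg
  have hBS : (S : Subgroup G) ≤ normalizer (B : Set G) := by
    apply norm_of
    intro s hs y hy
    obtain ⟨h1, h2⟩ := hB.1 hy
    refine hB.2 ⟨conj_mem hSA hs h1, fun i g hg => ?_⟩
    obtain ⟨j, hj⟩ := h.perm_XX (inv_mem hs) i
    have h3 := hj g hg
    rw [inv_inv] at h3
    have h4 := h2 j _ h3
    calc g * (s * y * s⁻¹) = s * ((s⁻¹ * g * s) * y) * s⁻¹ := by group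
      _ = s * y * s⁻¹ * g := by rw [h4]; group
  have hB2 : IsPGroup 2 B := hA.to_le inf_le_left
  have hBle : B ≤ (S : Subgroup G) := MinPar.le_of_le_normalizer S hB2 hBS
  by_contra hx1
  have hBne : B ≠ ⊥ := fun h1 => hx1 (mem_bot.1 (h1 ▸ (hB.2 ⟨hx, hX⟩ : x ∈ B)))
  obtain ⟨z, hz, hz1, hzS⟩ := NoFF.LinesPlug.exists_fixed S.isPGroup' hBle hBS hBne
  obtain ⟨n, hn1, hn2⟩ := exists_inv hB2 hz hz1
  have h1 : z ^ n ∈ zc (S : Subgroup G) := by
    refine mem_zc.2 ⟨pow_mem (hBle hz) n, fun s hs => ?_, by rw [pow_two]; exact hn2⟩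
    exact (show Commute s z from hzS s hs).pow_right n
  exact hn1 (h.eq_one_of_fix (h.zS h1) (hB.1 (pow_mem hz n)).2)

/-! ### (A1') -/

/-- `U_v` and (H2) -/
theorem gl_U (hH : H2 V) (hk : ∀ i j : ι, ∃ l, l ≠ i ∧ l ≠ j) {i j : ι} (hij : j ≠ i) {v : G}
    (hv : v ∈ V i) (hv1 : v ≠ 1) : Gl V j (UU V i v) where
  tv := by
    intro p hp hp1 g hg
    have := h.tv hH (i := j) (j := i) (Ne.symm hij) hv hv1 hp hp1 (one_mem _) (g := g) (by simpa using hg)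
    simpa using this
  le := fun x hx => mem_DD.1 hx i (Ne.symm hij) v hv hv1
  ker := fun p hp hp1 g hg hgD => h.cent_U hH hk (Ne.symm hij) hv hv1 hp hp1 hg hgD

omit [Finite ι] in
theorem U_le_cent {i : ι} {v : G} (hv : v ∈ V i) (hv1 : v ≠ 1) {x y : G} (hx : x ∈ UU V i v) {j : ι}
    (hy : y ∈ V j) : x * y = y * x := (h.U_cent hv hv1 hx (h.VQ i j v hv hv1 hy)).symm

/-- `C_G(∏ V_i)` -/
def CV (V : ι → Subgroup G) : Subgroup G := centralizer {y | ∃ i, y ∈ V i}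

omit h [Finite ι] in
theorem mem_CV {x : G} : x ∈ CV V ↔ ∀ i, ∀ y ∈ V i, y * x = x * y := by
  rw [CV, mem_centralizer_iff]
  exact ⟨fun h i y hy => h y ⟨i, hy⟩, fun h y ⟨i, hy⟩ => h i y hy⟩

omit [Finite ι] in
theorem U_le_o2CV {i : ι} {v : G} (hv : v ∈ V i) (hv1 : v ≠ 1) : UU V i v ≤ o2 (CV V) := by
  refine le_o2 (fun x hx => mem_CV.2 fun j y hy => (h.U_le_cent hv hv1 hx hy).symm) (h.U_two hv hv1) ?_
  refine le_trans ?_ cz_norm_UU
  intro x hx
  exact mem_cent.2 (mem_CV.1 hx i v hv).symm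

omit [Finite ι] in
theorem S_norm_CV : (S : Subgroup G) ≤ normalizer (CV V : Set G) := by
  apply norm_of
  intro s hs x hx
  rw [mem_CV] at hx ⊢
  intro i y hy
  obtain ⟨j, hj⟩ := h.perm s⁻¹ (inv_mem hs) i
  have h1 := hx j _ ((hj y).1 hy)
  rw [inv_inv] at h1
  calc y * (s * x * s⁻¹) = s * ((s⁻¹ * y * s) * x) * s⁻¹ := by group
    _ = s * x * s⁻¹ * y := by rw [h1]; group

/-- **(A1').** -/
theorem U_comm_U (hH : H2 V) (hk : ∀ i j : ι, ∃ l, l ≠ i ∧ l ≠ j) {i : ι} {v v' : G}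
    (hv : v ∈ V i) (hv1 : v ≠ 1) (hv' : v' ∈ V i) (hv1' : v' ≠ 1) {x y : G} (hx : x ∈ UU V i v)
    (hy : y ∈ UU V i v') : x * y = y * x := by
  classical
  have := Fintype.ofFinite ι
  by_cases hvv : v = v'
  · subst hvv; exact h.U_comm hv hv1 hx hy
  let J : Finset ι := Finset.univ.filter fun j => j ≠ i
  have hJ : ∀ {j}, j ∈ J ↔ j ≠ i := fun {j} => by simp [J]
  have hDU : ∀ {w : G}, closure {x | ∃ j ∈ J, x ∈ DD V j} ≤ UU V i w ∨ True := fun {w} => Or.inr trivial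
  have hDle : ∀ {w : G}, w ∈ V i → w ≠ 1 → closure {x | ∃ j ∈ J, x ∈ DD V j} ≤ UU V i w := by
    intro w hw hw1
    rw [closure_le]
    rintro z ⟨j, hj, hz⟩
    exact mem_DD.1 hz i (Ne.symm (hJ.1 hj)) w hw hw1
  obtain ⟨d, hd, -, h1⟩ := h.glue (fun x hx y hy => h.U_comm hv hv1 hx hy) J
    (fun j hj => h.gl_U hH hk (hJ.1 hj) hv hv1) hx
  obtain ⟨d', hd', -, h2⟩ := h.glue (fun x hx y hy => h.U_comm hv' hv1' hx hy) J
    (fun j hj => h.gl_U hH hk (hJ.1 hj) hv' hv1') hy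
  have hdU := hDle hv hv1 hd
  have hdU' := hDle hv' hv1' hd
  have hdV := hDle hv hv1 hd'
  have hdV' := hDle hv' hv1' hd'
  -- the elements `e`, `e'`
  have key : ∀ e ∈ UU V i v, ∀ e' ∈ UU V i v', (∀ j ∈ J, ∀ g ∈ XX V j, g * e = e * g) →
      (∀ j ∈ J, ∀ g ∈ XX V j, g * e' = e' * g) → e * e' = e' * e := by
    intro e he e' he' h3 h4
    have hn : UU V i v' ≤ cz v := fun z hz => mem_cent.2 (h.U_le_cent hv' hv1' hz hv)
    have hn' : UU V i v ≤ cz v' := fun z hz => mem_cent.2 (h.U_le_cent hv hv1 hz hv')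
    have hw : e * e' * e⁻¹ * e'⁻¹ ∈ UU V i v := by
      have h5 := conj_mem cz_norm_UU (hn he') (inv_mem he)
      have h6 := mul_mem he h5
      have e1 : e * (e' * e⁻¹ * e'⁻¹) = e * e' * e⁻¹ * e'⁻¹ := by group
      rwa [e1] at h6
    have hw' : e * e' * e⁻¹ * e'⁻¹ ∈ UU V i v' :=
      mul_mem (conj_mem cz_norm_UU (hn' he) he') (inv_mem he')
    have h5 : e * e' * e⁻¹ * e'⁻¹ = 1 := by
      refine h.fix_bot (A := o2 (CV V)) (o2_isPGroup _) (norm_o2 h.S_norm_CV) (h.U_le_o2CV hv hv1 hw) ?_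
      intro j g hg
      by_cases hji : j = i
      · subst hji
        exact h.cent_X hv hv' hv1 hv1' hvv (fun k hk => h.U_cent hv hv1 hw (h.KK_le_q hv hv1 hk))
          (fun k hk => h.U_cent hv' hv1' hw' (h.KK_le_q hv' hv1' hk)) g hg
      · have h6 : Commute g e := h3 j (hJ.2 hji) g hg
        have h7 : Commute g e' := h4 j (hJ.2 hji) g hg
        exact (((h6.mul_right h7).mul_right h6.inv_right).mul_right h7.inv_right).eq
    calc e * e' = (e * e' * e⁻¹ * e'⁻¹) * (e' * e) := by group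
      _ = e' * e := by rw [h5, one_mul]
  have h3 := key (x * d) (mul_mem hx hdU) (y * d') (mul_mem hy hdV') h1 h2
  have c1 : Commute d y := h.U_comm hv' hv1' hdU' hy
  have c2 : Commute x d' := h.U_comm hv hv1 hx hdV
  have c3 : Commute d d' := h.U_comm hv hv1 hdU hdV
  have c4 : Commute (x * d) (y * d') := h3
  -- `x = (x d) d⁻¹`, `y = (y d') d'⁻¹`
  have c5 : Commute (x * d) d' := c2.mul_left c3
  have c6 : Commute (x * d) y := by
    have := c4.mul_right c5.inv_right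
    rwa [mul_inv_cancel_right] at this
  have c7 := c6.mul_left c1.inv_left
  rw [mul_inv_cancel_right] at c7
  exact c7.eq

end Fr

end Cfsg.Agent.Omega.IId.Big
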