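import Cfsg.Agent.Omega.IId.Big.Step

/-!
# II.d, THEOREM A (bb OMEGA 17530): (GL)

* `exists_cent` : duality: if the elements of `A` (transvections of `Y` with centre `a`) which centralise `D`
  centralise `Y`, then `Y = D C_Y(A)`;
* `Gl V i Y` : the hypotheses of (GL) for the block `i`;
* `Fr.glue` : `Y = (∏_{i ∈ J} D_i) C_Y(X^i : i ∈ J)`;
* `Fr.cent_DD` : `X^j` centralises `D_i`, `j ≠ i`;
* `Fr.cent_X` : `W_a`, `W_b` (`a ≠ b` in `V i`) generate `X^i` on elements.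
-/

set_option autoImplicit false
set_option linter.unusedSectionVars false

namespace Cfsg.Agent.Omega.IId.Big

open Subgroup Cfsg
open Cfsg.Agent.ZN (o2 zc)
open Cfsg.Agent.MinSimple.VModule (le_o2 le_normalizer_o2 mem_zc o2_isPGroup o2_le)
open Triangle (KK KK_conj KK_le_o2 mem_cent mem_KK mem_zpowers_iff_of_sq cent_conj o2_cent_conj)

universe u

variable {G : Type u} [Group G]

/-! ### Duality -/

section dual

/-- two transvections which both move `x` : the product does not -/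
theorem mul_fix {Y : Subgroup G} {a g k x : G} (ha1 : a ≠ 1) (haa : a * a = 1) (hg : Tv Y a g) (hk : Tv Y a k)
    (hx : x ∈ Y) : (g * k * x = x * (g * k)) ↔ (g * x = x * g ↔ k * x = x * k) := by
  have h1 := congrFun (phi_mul ha1 haa hg hk) ⟨x, hx⟩
  rw [Pi.add_apply] at h1
  have h2 := @phi_eq G _ Y (g * k) ⟨x, hx⟩
  rw [h1] at h2
  have h3 := @phi_eq G _ Y g ⟨x, hx⟩
  have h4 := @phi_eq G _ Y k ⟨x, hx⟩
  simp only at h2 h3 h4
  rw [← h2, ← h3, ← h4]
  generalize phi Y g ⟨x, hx⟩ = p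
  generalize phi Y k ⟨x, hx⟩ = q
  revert p q
  decide

theorem fix_mul {Y : Subgroup G} {a g x y : G} (ha1 : a ≠ 1) (haa : a * a = 1) (hg : Tv Y a g)
    (haY : ∀ u ∈ Y, a * u = u * a) (hx : x ∈ Y) (hy : y ∈ Y) :
    (g * (x * y) = x * y * g) ↔ (g * x = x * g ↔ g * y = y * g) := by
  have h1 := phi_add ha1 haa hg haY ⟨x, hx⟩ ⟨y, hy⟩
  have h2 := @phi_eq G _ Y g (⟨x, hx⟩ * ⟨y, hy⟩)
  rw [h1] at h2
  have h3 := @phi_eq G _ Y g ⟨x, hx⟩
  have h4 := @phi_eq G _ Y g ⟨y, hy⟩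
  simp only [coe_mul] at h2 h3 h4
  rw [← h2, ← h3, ← h4]
  generalize phi Y g ⟨x, hx⟩ = p
  generalize phi Y g ⟨y, hy⟩ = q
  revert p q
  decide

theorem sep_ind {Y D : Subgroup G} {a : G} (ha1 : a ≠ 1) (haa : a * a = 1) (haY : ∀ u ∈ Y, a * u = u * a)
    (hDY : D ≤ Y) : ∀ (l : List G), (∀ d ∈ l, d ∈ D) → ∀ A : Subgroup G, (∀ g ∈ A, Tv Y a g) → ∀ y ∈ Y,
    (∀ g ∈ A, (∀ d ∈ l, g * d = d * g) → g * y = y * g) → ∃ d ∈ D, ∀ g ∈ A, g * (y * d) = y * d * g := by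
  intro l
  induction l with
  | nil =>
    intro _ A hA y hy h1
    refine ⟨1, one_mem _, fun g hg => ?_⟩
    rw [mul_one]
    exact h1 g hg (by simp)
  | cons d₀ l ih =>
    intro hl A hA y hy h1
    have hd₀ : d₀ ∈ D := hl d₀ (by simp)
    obtain ⟨d', hd', h2⟩ := ih (fun d hd => hl d (List.mem_cons_of_mem _ hd)) (A ⊓ centralizer ({d₀} : Set G))
      (fun g hg => hA g hg.1) y hy (fun g hg hgl => h1 g hg.1 (by
        intro d hd
        rcases List.mem_cons.1 hd with rfl | hd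
        · exact mem_cent.1 hg.2
        · exact hgl d hd))
    have hyd : y * d' ∈ Y := mul_mem hy (hDY hd')
    by_cases h3 : ∀ g ∈ A, g * (y * d') = y * d' * g
    · exact ⟨d', hd', h3⟩
    · push Not at h3
      obtain ⟨g₀, hg₀, h4⟩ := h3
      have h5 : ¬ g₀ * d₀ = d₀ * g₀ := fun h5 => h4 (h2 g₀ ⟨hg₀, mem_cent.2 h5⟩)
      refine ⟨d' * d₀, mul_mem hd' hd₀, fun g hg => ?_⟩
      rw [← mul_assoc y d' d₀, fix_mul ha1 haa (hA g hg) haY hyd (hDY hd₀)]
      constructor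
      · intro h6
        by_contra h7
        have h8 := (mul_fix ha1 haa (hA g hg) (hA g₀ hg₀) (hDY hd₀)).2 (iff_of_false h7 h5)
        have h9 := h2 (g * g₀) ⟨mul_mem hg hg₀, mem_cent.2 h8⟩
        exact h4 (((mul_fix ha1 haa (hA g hg) (hA g₀ hg₀) hyd).1 h9).1 h6)
      · intro h6
        exact h2 g ⟨hg, mem_cent.2 h6⟩

/-- **Duality.** -/
theorem exists_cent [Finite G] {Y D A : Subgroup G} {a : G} (ha1 : a ≠ 1) (haa : a * a = 1)
    (haY : ∀ u ∈ Y, a * u = u * a) (hDY : D ≤ Y) (hA : ∀ g ∈ A, Tv Y a g)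
    (hker : ∀ g ∈ A, (∀ d ∈ D, g * d = d * g) → ∀ y ∈ Y, g * y = y * g) {y : G} (hy : y ∈ Y) :
    ∃ d ∈ D, ∀ g ∈ A, g * (y * d) = y * d * g := by
  classical
  have hfin : (D : Set G).Finite := Set.toFinite _
  refine sep_ind ha1 haa haY hDY hfin.toFinset.toList (fun d hd => by simpa using hd) A hA y hy ?_
  intro g hg h1
  exact hker g hg (fun d hd => h1 d (by simpa using hd)) y hy

end dual

/-- the hypotheses of (GL) -/
structure Gl {ι : Type} (V : ι → Subgroup G) (i : ι) (Y : Subgroup G) : Prop where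
  tv : ∀ v ∈ V i, v ≠ 1 → ∀ g ∈ KK v, Tv Y v g
  le : DD V i ≤ Y
  ker : ∀ v ∈ V i, v ≠ 1 → ∀ g ∈ KK v, (∀ d ∈ DD V i, g * d = d * g) → ∀ y ∈ Y, g * y = y * g

namespace Fr

variable {ι : Type} {S : Subgroup G} {V : ι → Subgroup G} [Finite G] (h : Fr S V)
include h

omit h in
theorem V_le_DD (i : ι) : V i ≤ DD V i :=
  fun _ hx => mem_DD.2 fun _ hl _ _ _ => V_le_UU (Ne.symm hl) hx

/-- `X^j` centralises `D_i` -/
theorem cent_DD {i j : ι} (hij : j ≠ i) : ∀ g ∈ XX V j, ∀ x ∈ DD V i, g * x = x * g := by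
  intro g hg x hx
  exact cent_of_XX (fun v hv hv1 k hk =>
    h.U_cent hv hv1 (mem_DD.1 hx j hij v hv hv1) (h.KK_le_q hv hv1 hk)) g hg

/-- `W_a`, `W_b` centralise `y` implies that `X^i` does -/
theorem cent_X {i : ι} {a b y : G} (ha : a ∈ V i) (hb : b ∈ V i) (ha1 : a ≠ 1) (hb1 : b ≠ 1) (hab : a ≠ b)
    (h1 : ∀ g ∈ KK a, g * y = y * g) (h2 : ∀ g ∈ KK b, g * y = y * g) : ∀ g ∈ XX V i, g * y = y * g := by
  refine cent_of_XX fun v hv hv1 g hg => ?_
  rcases h.cases4 ha hb ha1 hb1 hab hv with rfl | rfl | rfl | rfl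
  · exact absurd rfl hv1
  · exact h1 g hg
  · exact h2 g hg
  · obtain ⟨s, hs, h3⟩ := h.move ha hb ha1 hb1 hab
    have h4 : s⁻¹ * g * s ∈ KK b := by
      have h5 := KK_conj (h := s⁻¹) hg
      have e : s⁻¹ * (a * b) * s⁻¹⁻¹ = b := by
        rw [← h3]; group
      rw [e, inv_inv] at h5
      exact h5
    have h5 := h2 _ h4
    have h6 := h1 s hs
    have h7 : s⁻¹ * y = y * s⁻¹ := by
      calc s⁻¹ * y = s⁻¹ * (y * s) * s⁻¹ := by group
        _ = y * s⁻¹ := by rw [← h6]; group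
    calc g * y = s * (s⁻¹ * g * s) * (s⁻¹ * y) := by group
      _ = s * ((s⁻¹ * g * s) * y) * s⁻¹ := by rw [h7]; group
      _ = (s * y) * (s⁻¹ * g * s) * s⁻¹ := by rw [h5]; group
      _ = y * g := by rw [h6]; group

/-- the second step of (GL) -/
theorem second {i : ι} {Y : Subgroup G} (hY : ∀ x ∈ Y, ∀ y ∈ Y, x * y = y * x) {a b y : G} (ha : a ∈ V i)
    (hb : b ∈ V i) (ha1 : a ≠ 1) (hb1 : b ≠ 1) (hab : a ≠ b) (haY : a ∈ Y) (hbY : b ∈ Y)
    (tb : ∀ g ∈ KK b, Tv Y b g) (hy : y ∈ Y) (h1 : ∀ g ∈ KK a, g * y = y * g) :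
    (∀ g ∈ XX V i, g * y = y * g) ∨ (∀ g ∈ XX V i, g * (y * a) = y * a * g) := by
  obtain ⟨s, hs, hsb⟩ := h.move ha hb ha1 hb1 hab
  obtain ⟨g₀, hg₀, hg₀a⟩ := h.move hb ha hb1 ha1 (Ne.symm hab)
  have haa := h.sq i a ha
  have hbb := h.sq i b hb
  have hcomm := h.comm i i a ha b hb
  have hbu : ∀ u ∈ Y, b * u = u * b := fun u hu => hY b hbY u hu
  -- the elements of `W_b` which centralise `a`
  have key : ∀ g ∈ KK b, g * a = a * g → g * y = y * g := by
    intro g hg hga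
    by_contra hcon
    have h2 : g * y * g⁻¹ = b * y := (tb g hg).conj_one hy hcon
    have h3 : s * (g * s⁻¹ * g⁻¹) ∈ KK a := by
      refine mul_mem hs ?_
      have h4 := KK_conj (h := g) ((KK a).inv_mem hs)
      rwa [conj_of_comm hga] at h4
    have h4 := conj_of_comm (h1 _ h3)
    have hsy := conj_of_comm (h1 _ hs)
    have hgb := conj_of_comm (KK_comm hg)
    have hsa := conj_of_comm (KK_comm hs)
    -- `s (b y) s⁻¹ = a b y`
    have h5 : s * (g * y * g⁻¹) * s⁻¹ = a * b * y := by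
      rw [h2]
      calc s * (b * y) * s⁻¹ = (s * b * s⁻¹) * (s * y * s⁻¹) := by group
        _ = a * b * y := by rw [hsb, hsy]
    have h6 : s * (g * y * g⁻¹) * s⁻¹ =
        (s * (g * s⁻¹ * g⁻¹)) * (g * (s * y * s⁻¹) * g⁻¹) * (s * (g * s⁻¹ * g⁻¹))⁻¹ := by group
    rw [h6, hsy, h2] at h5
    have h7 : (s * (g * s⁻¹ * g⁻¹)) * b * (s * (g * s⁻¹ * g⁻¹))⁻¹ = b := by
      have e1 : g⁻¹ * b * g = b := by
        calc g⁻¹ * b * g = g⁻¹ * (g * b * g⁻¹) * g := by rw [hgb]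
          _ = b := by group
      have e2 : s⁻¹ * b * s = a * b := by
        have e3 : s * (a * b) * s⁻¹ = b := by
          calc s * (a * b) * s⁻¹ = (s * a * s⁻¹) * (s * b * s⁻¹) := by group
            _ = a * (a * b) := by rw [hsa, hsb]
            _ = b := by rw [← mul_assoc, haa, one_mul]
        calc s⁻¹ * b * s = s⁻¹ * (s * (a * b) * s⁻¹) * s := by rw [e3]
          _ = a * b := by group
      have e4 : g * (a * b) * g⁻¹ = a * b := by
        calc g * (a * b) * g⁻¹ = (g * a * g⁻¹) * (g * b * g⁻¹) := by group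
          _ = a * b := by rw [conj_of_comm hga, hgb]
      calc (s * (g * s⁻¹ * g⁻¹)) * b * (s * (g * s⁻¹ * g⁻¹))⁻¹
          = s * (g * (s⁻¹ * (g⁻¹ * b * g) * s) * g⁻¹) * s⁻¹ := by group
        _ = s * (a * b) * s⁻¹ := by rw [e1, e2, e4]
        _ = (s * a * s⁻¹) * (s * b * s⁻¹) := by group
        _ = a * (a * b) := by rw [hsa, hsb]
        _ = b := by rw [← mul_assoc, haa, one_mul]
    have h8 : (s * (g * s⁻¹ * g⁻¹)) * (b * y) * (s * (g * s⁻¹ * g⁻¹))⁻¹ =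
        ((s * (g * s⁻¹ * g⁻¹)) * b * (s * (g * s⁻¹ * g⁻¹))⁻¹) *
          ((s * (g * s⁻¹ * g⁻¹)) * y * (s * (g * s⁻¹ * g⁻¹))⁻¹) := by group
    rw [h8, h7, h4] at h5
    have h9 := mul_right_cancel h5
    exact ha1 (mul_eq_right.1 h9.symm)
  have hg₀' : ¬ g₀ * a = a * g₀ := by
    intro h2
    rw [conj_of_comm h2] at hg₀a
    exact hb1 (mul_eq_right.1 hg₀a.symm)
  by_cases h2 : g₀ * y = y * g₀
  · left
    refine h.cent_X ha hb ha1 hb1 hab h1 fun g hg => ?_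
    by_cases h3 : g * a = a * g
    · exact key g hg h3
    · have h4 := (mul_fix hb1 hbb (tb g hg) (tb g₀ hg₀) haY).2 (iff_of_false h3 hg₀')
      have h5 := key _ (mul_mem hg hg₀) h4
      exact ((mul_fix hb1 hbb (tb g hg) (tb g₀ hg₀) hy).1 h5).2 h2
  · right
    refine h.cent_X ha hb ha1 hb1 hab (fun g hg => ?_) fun g hg => ?_
    · calc g * (y * a) = (g * y) * a := by group
        _ = y * (g * a) := by rw [h1 g hg]; group
        _ = y * a * g := by rw [KK_comm hg]; group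
    · rw [fix_mul hb1 hbb (tb g hg) hbu hy haY]
      by_cases h3 : g * a = a * g
      · exact iff_of_true (key g hg h3) h3
      · refine iff_of_false (fun h5 => ?_) h3
        have h4 := (mul_fix hb1 hbb (tb g hg) (tb g₀ hg₀) haY).2 (iff_of_false h3 hg₀')
        have h6 := key _ (mul_mem hg hg₀) h4
        exact h2 (((mul_fix hb1 hbb (tb g hg) (tb g₀ hg₀) hy).1 h6).1 h5)

/-- (GL) for one block -/
theorem glue_one {i : ι} {Y : Subgroup G} (hY : ∀ x ∈ Y, ∀ y ∈ Y, x * y = y * x) (hGl : Gl V i Y) {y : G}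
    (hy : y ∈ Y) : ∃ d ∈ DD V i, ∀ g ∈ XX V i, g * (y * d) = y * d * g := by
  obtain ⟨a, ha, b, hb, ha1, hb1, hab⟩ := h.exists_two i
  have haY := hGl.le (V_le_DD i ha)
  have hbY := hGl.le (V_le_DD i hb)
  obtain ⟨d, hd, h1⟩ := exists_cent ha1 (h.sq i a ha) (fun u hu => hY a haY u hu) hGl.le
    (fun g hg => hGl.tv a ha ha1 g hg) (fun g hg hgd => hGl.ker a ha ha1 g hg hgd) hy
  rcases h.second hY ha hb ha1 hb1 hab haY hbY (hGl.tv b hb hb1) (mul_mem hy (hGl.le hd)) h1 with h2 | h2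
  · exact ⟨d, hd, h2⟩
  · refine ⟨d * a, mul_mem hd (V_le_DD i ha), ?_⟩
    rw [← mul_assoc]
    exact h2

/-- **(GL).** -/
theorem glue {Y : Subgroup G} (hY : ∀ x ∈ Y, ∀ y ∈ Y, x * y = y * x) (J : Finset ι)
    (hGl : ∀ i ∈ J, Gl V i Y) {y : G} (hy : y ∈ Y) :
    ∃ d ∈ closure {x | ∃ i ∈ J, x ∈ DD V i}, d ∈ Y ∧ ∀ i ∈ J, ∀ g ∈ XX V i, g * (y * d) = y * d * g := by
  classical
  induction J using Finset.induction_on with
  | empty => exact ⟨1, one_mem _, one_mem _, by simp⟩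
  | insert i J hiJ ih =>
    obtain ⟨d, hd, hdY, h1⟩ := ih fun j hj => hGl j (Finset.mem_insert_of_mem hj)
    obtain ⟨d', hd', h2⟩ := h.glue_one hY (hGl i (Finset.mem_insert_self i J)) (mul_mem hy hdY)
    have hd'Y := (hGl i (Finset.mem_insert_self i J)).le hd'
    refine ⟨d * d', mul_mem ?_ ?_, mul_mem hdY hd'Y, ?_⟩
    · refine closure_mono ?_ hd
      rintro x ⟨j, hj, hx⟩
      exact ⟨j, Finset.mem_insert_of_mem hj, hx⟩
    · exact subset_closure ⟨i, Finset.mem_insert_self i J, hd'⟩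
    · intro j hj g hg
      rw [← mul_assoc y d d']
      rcases Finset.mem_insert.1 hj with rfl | hj
      · exact h2 g hg
      · have hji : j ≠ i := fun h3 => hiJ (h3 ▸ hj)
        have h3 := h1 j hj g hg
        have h4 := h.cent_DD hji g hg d' hd'
        calc g * (y * d * d') = (g * (y * d)) * d' := by group
          _ = y * d * (g * d') := by rw [h3]; group
          _ = y * d * d' * g := by rw [h4]; group

end Fr

end Cfsg.Agent.Omega.IId.Big
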