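import Cfsg.Agent.Omega.IId.Big.Seven
import Cfsg.Agent.Omega.IId.Sup
import Cfsg.Agent.Omega.ThmC.TwoOf

/-!
# WrBig, `q = 2`: THEOREM C and #15785 (a) for the natural factors

`M : NatK F S P (zl S P) ⊥ k`, `|F| = 2`, `CC M` (THEOREM C).

* `o2_le_stab` : `O₂(C_G(v)) ≤ N_S(V_i)`, it normalises all factors (`v ∈ line M i`, #15785 (a));
* `qz_comm` : `O₂(C_G(v))` centralises `fac M j`, `1 ≠ v ∈ fac M i`, `j ≠ i`;
* `zl_le_KK` : `V ≤ KK v ≤ O₂(C_G(v))` for `1 ≠ v ∈ fac M i`;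
* `cz_char2`, `exists_P_conj`;
* `exists_move`, `exists_part`, `sylow_cent` : the partner in a pair in normal position.
-/

set_option autoImplicit false
set_option linter.unusedSectionVars false

namespace Cfsg.Agent.Omega.IId.Big.Supply

open Subgroup Pointwise Cfsg Cfsg.Agent.ZN Cfsg.Agent.ZN.ChoiceBase
open Cfsg.Agent.Omega.MinPar Cfsg.Agent.Omega.FFThm Cfsg.Agent.Omega.FrameMulti
open Cfsg.Agent.MinSimple.VModule (mem_zc)
open Triangle (KK KK_conj KK_le_o2 mem_cent mem_KK mem_zpowers_iff_of_sq cent_conj o2_cent_conj)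

universe u

local notation "cz" v:max => centralizer ({v} : Set _)
local notation "qz" v:max => ZN.o2 (centralizer ({v} : Set _))

variable {G : Type u} [Group G] [Finite G] {F : Type} [Field F] [Finite F] [CharP F 2] {S : Sylow 2 G}
  {P : Subgroup G} {k : ℕ} {M : NatK F (S : Subgroup G) P (zl (S : Subgroup G) P) ⊥ k}

/-- every `1 ≠ v ∈ fac M i` is conjugate under `grp M {i}` to the point `v₀` of `line M i` -/
theorem exists_line_conj {i : Fin k} {v v₀ : G} (hv : v ∈ fac M i) (hv1 : v ≠ 1) (hv₀ : v₀ ∈ line M i)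
    (hv₀1 : v₀ ≠ 1) : ∃ g ∈ grp M {i}, g * v₀ * g⁻¹ = v :=
  exists_grp M (line_le M i hv₀) hv hv₀1 hv1

/-- THEOREM C at the points of the line -/
theorem qz_comm_line (hC : CC M) (hF : Nat.card F = 2) {i j : Fin k} (hij : j ≠ i) {v q x : G}
    (hv : v ∈ line M i) (hv1 : v ≠ 1) (hq : q ∈ qz v) (hx : x ∈ fac M j) : q * x = x * q := by
  have h1 := hC i j hij hx
  rw [normalizer_line_eq M hF hv hv1] at h1
  exact mem_centralizer_iff.1 h1 q hq

/-- THEOREM C at all points of the factor -/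
theorem qz_comm (hC : CC M) (hF : Nat.card F = 2) {i j : Fin k} (hij : j ≠ i) {v q x : G}
    (hv : v ∈ fac M i) (hv1 : v ≠ 1) (hq : q ∈ qz v) (hx : x ∈ fac M j) : q * x = x * q := by
  obtain ⟨v₀, hv₀, hv₀1⟩ := exists_line M i
  obtain ⟨g, hg, hgv⟩ := exists_line_conj hv hv1 hv₀ hv₀1
  have hgi : g⁻¹ * v * g⁻¹⁻¹ = v₀ := by rw [← hgv]; group
  have h1 : g⁻¹ * q * g ∈ qz v₀ := by
    have h0 : g⁻¹ * q * g⁻¹⁻¹ ∈ qz (g⁻¹ * v * g⁻¹⁻¹) := by
      rw [o2_cent_conj]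
      exact ⟨q, hq, rfl⟩
    rwa [hgi, inv_inv] at h0
  have h2 : g * x = x * g := grp_comm M (Set.disjoint_singleton.2 (Ne.symm hij)) hg hx
  have h3 := qz_comm_line hC hF hij hv₀ hv₀1 h1 hx
  have h4 : g⁻¹ * x * g = x := by
    calc g⁻¹ * x * g = g⁻¹ * (x * g) := by group
      _ = x := by rw [← h2]; group
  calc q * x = g * ((g⁻¹ * q * g) * (g⁻¹ * x * g)) * g⁻¹ := by group
    _ = g * (x * (g⁻¹ * q * g)) * g⁻¹ := by rw [h4, h3]
    _ = (g * x) * g⁻¹ * q := by group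
    _ = x * q := by rw [h2]; group

/-- **#15785 (a)**: `O₂(C_G(v)) ≤ N_S(V_i)` and it normalises all factors. -/
theorem o2_le_stab (hP : IsParS (S : Subgroup G) P) (hC : CC M)
    (hF : Nat.card F = 2) {i : Fin k} {v : G} (hv : v ∈ line M i) (hv1 : v ≠ 1) :
    qz v ≤ stab M i ∧ ∀ l, qz v ≤ normalizer (fac M l : Set G) := by
  have hSP : (S : Subgroup G) ≤ P := hP.isLoc.le
  obtain ⟨h1, h2⟩ := seven_id (V := fac M) S
    (fun i l hil v hv hv1 q hq => mem_centralizer_iff.2 fun x hx =>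
      (qz_comm hC hF hil hv hv1 hq hx).symm)
    (fun s hs i => ⟨_, conj_fac M (hSP hs) i⟩) (fun i j => exists_trans M hSP i j) (line_le M i hv) hv1
    (fun s hs hsi => mem_cent.2 (stab_comm_line M hSP hF hv
      ⟨hs, (MinSimple.Geo.mem_normalizer_iff_cj).2 hsi⟩))
  exact ⟨le_inf h1 (h2 i), h2⟩

variable (M) in
theorem fac_le_iSup : zl (S : Subgroup G) P ≤ ⨆ l, fac M l := by
  have h := ThmC.TwoOf.part_le_iSup M Finset.univ
  rwa [Finset.coe_univ, part_univ] at h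

/-- `V ≤ KK v`, `1 ≠ v ∈ line M i` -/
theorem zl_le_KK_line (hP : IsParS (S : Subgroup G) P) (hC : CC M)
    (hF : Nat.card F = 2) {i : Fin k} {v : G} (hv : v ∈ line M i) (hv1 : v ≠ 1) :
    zl (S : Subgroup G) P ≤ KK v := by
  have hSP : (S : Subgroup G) ≤ P := hP.isLoc.le
  refine (fac_le_iSup M).trans (iSup_le fun l a ha => ?_)
  refine mem_KK.2 ⟨comm M ha.1 (line_le M i hv).1, fun x hx => ?_⟩
  by_cases hl : l = i
  · subst hl
    rw [← line_eq_zpowers M hF hv hv1]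
    exact comm_mem_line M hSP hF ha ((o2_le_stab hP hC hF hv hv1).1 hx)
  · have h1 := qz_comm_line hC hF hl hv hv1 hx ha
    have h2 : a * x * a⁻¹ * x⁻¹ = 1 := by rw [← h1]; group
    rw [h2]
    exact one_mem _

/-- `V ≤ KK v` for all `1 ≠ v ∈ fac M i` -/
theorem zl_le_KK (hP : IsParS (S : Subgroup G) P) (hC : CC M)
    (hF : Nat.card F = 2) {i : Fin k} {v : G} (hv : v ∈ fac M i) (hv1 : v ≠ 1) :
    zl (S : Subgroup G) P ≤ KK v := by
  obtain ⟨v₀, hv₀, hv₀1⟩ := exists_line M i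
  obtain ⟨g, hg, hgv⟩ := exists_line_conj hv hv1 hv₀ hv₀1
  intro x hx
  have h1 := zl_le_KK_line hP hC hF hv₀ hv₀1 (cj_mem' (grp_le M _ hg) hx)
  have h2 := KK_conj (h := g) h1
  have e : g * (g⁻¹ * x * g) * g⁻¹ = x := by group
  rwa [hgv, e] at h2

/-- `C_v` has characteristic 2 -/
theorem cz_char2 (hc : IsCharacteristicTwoType G) {v : G} (hv : v * v = 1) (hv1 : v ≠ 1) :
    cz v ⊓ centralizer (qz v : Set G) ≤ qz v := by
  have h2 : IsPGroup 2 (zpowers v) := by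
    rintro ⟨x, hx⟩
    rcases (mem_zpowers_iff_of_sq hv).1 hx with rfl | rfl
    · exact ⟨0, Subtype.ext (by simp)⟩
    · exact ⟨1, Subtype.ext (by simpa [pow_two] using hv)⟩
  have h3 : zpowers v ≠ ⊥ := by
    rw [Ne, zpowers_eq_bot]
    exact hv1
  have h4 : normalizer (zpowers v : Set G) = cz v := by
    ext x
    rw [mem_cent]
    constructor
    · intro hx
      have h5 := (mem_normalizer_iff.1 hx v).1 (mem_zpowers v)
      rcases (mem_zpowers_iff_of_sq hv).1 h5 with h6 | h6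
      · exfalso
        apply hv1
        calc v = x⁻¹ * (x * v * x⁻¹) * x := by group
          _ = 1 := by rw [h6]; group
      · exact mul_inv_eq_iff_eq_mul.1 h6
    · intro hx
      refine (Two.le_normalizer_of (K := centralizer ({v} : Set G)) (V := zpowers v) ?_) (mem_cent.2 hx)
      intro a ha b hb
      rcases (mem_zpowers_iff_of_sq hv).1 hb with rfl | rfl
      · rw [mul_one, mul_inv_cancel]
        exact one_mem _
      · rw [mem_cent.1 ha, mul_inv_cancel_right]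
        exact mem_zpowers _
  have h5 := MinSimple.Basic.char2_normalizer hc h2 h3
  rw [h4] at h5
  exact h5

omit [Finite G] in
/-- the elements of the factors are involutions -/
theorem fac_sq {i : Fin k} {v : G} (hv : v ∈ fac M i) : v * v = 1 := sq M hv.1

/-- the conjugacy of all points of all factors under `P` -/
theorem exists_P_conj (hSP : (S : Subgroup G) ≤ P) {i j : Fin k} {v w : G} (hv : v ∈ fac M i) (hv1 : v ≠ 1)
    (hw : w ∈ fac M j) (hw1 : w ≠ 1) :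
    ∃ g ∈ P, g * v * g⁻¹ = w ∧ ∀ x ∈ fac M i, g * x * g⁻¹ ∈ fac M j := by
  obtain ⟨s, hs, h1⟩ := exists_trans M hSP i j
  have h2 : ∀ x ∈ fac M i, s * x * s⁻¹ ∈ fac M j := fun x hx => by
    rw [← h1]
    exact ⟨x, hx, rfl⟩
  have h3 : s * v * s⁻¹ ≠ 1 := fun h0 => hv1 (by
    calc v = s⁻¹ * (s * v * s⁻¹) * s := by group
      _ = 1 := by rw [h0]; group)
  obtain ⟨g, hg, hgw⟩ := exists_grp M (h2 v hv) hw h3 hw1
  refine ⟨g * s, mul_mem (grp_le M _ hg) (hSP hs), ?_, fun x hx => ?_⟩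
  · rw [← hgw]
    group
  · have h4 := (mem_normalizer_iff.1 (grp_normalizes M {j} {j} hg) _).1 (h2 x hx)
    have e : g * s * x * (g * s)⁻¹ = g * (s * x * s⁻¹) * g⁻¹ := by group
    rw [e]
    exact h4

/-! ### The partner -/

variable {F' : Type} [Field F'] [Finite F'] [CharP F' 2] {S' : Sylow 2 G} {P' : Subgroup G} {k' : ℕ}
  {M' : NatK F' (S' : Subgroup G) P' (zl (S' : Subgroup G) P') ⊥ k'}

/-- **The partner moves the factor**: `[V, V'] = line M i ∋ v ≠ 1`: some `g ∈ KK v` moves some `x ∈ fac M i`. -/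
theorem exists_move (hc : IsCharacteristicTwoType G) (h : Pair S S' P P')
    (hT : NoOver (zl (S : Subgroup G) P) P) (hT' : NoOver (zl (S' : Subgroup G) P') P') (hk' : 0 < k')
    (hC' : CC M') (hF : Nat.card F = 2) {i : Fin k}
    (hR : ⁅zl (S : Subgroup G) P, zl (S' : Subgroup G) P'⁆ = line M i) {v : G} (hv : v ∈ line M i)
    (hv1 : v ≠ 1) : ∃ x ∈ fac M i, ∃ g ∈ KK v, g * x ≠ x * g := by
  obtain ⟨j, hl, hcard, a, ha, b, hb, hne⟩ := exists_partner hc h hT hT' M M' hk' hR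
  exact ⟨a, ha, b, zl_le_KK_line h.star' hC' (hcard.trans hF) (hl ▸ hv) hv1 (fac_le M' j hb), hne⟩

/-- The package of the partner for `k' ≥ 2`. -/
structure Part (Vi : Subgroup G) (v : G) (A B : Subgroup G) : Prop where
  vA : v ∈ A
  two : ∃ b₁ ∈ B, ∃ b₂ ∈ B, b₁ ≠ 1 ∧ b₂ ≠ 1 ∧ b₁ ≠ b₂
  Bq : B ≤ ZN.o2 (centralizer ({v} : Set G))
  Bc : ∀ b ∈ B, ∀ q ∈ ZN.o2 (centralizer ({v} : Set G)), q * b = b * q
  Aq : ∀ b ∈ B, b ≠ 1 → A ≤ ZN.o2 (centralizer ({b} : Set G))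
  Ac : ∀ b ∈ B, b ≠ 1 → ∀ a ∈ A, ∀ q ∈ ZN.o2 (centralizer ({b} : Set G)), q * a = a * q
  sq : ∀ a ∈ A, a * a = 1
  sqB : ∀ b ∈ B, b * b = 1
  ne : ∃ a ∈ A, ∃ x ∈ Vi, a * x ≠ x * a

/-- `k' ≥ 2`: `A = V'_j ∋ v`, `B = V'_l`, `l ≠ j`. -/
theorem exists_part (hc : IsCharacteristicTwoType G) (h : Pair S S' P P')
    (hT : NoOver (zl (S : Subgroup G) P) P) (hT' : NoOver (zl (S' : Subgroup G) P') P') (hk' : 2 ≤ k')
    (hC' : CC M') (hF : Nat.card F = 2) {i : Fin k}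
    (hR : ⁅zl (S : Subgroup G) P, zl (S' : Subgroup G) P'⁆ = line M i) {v : G} (hv : v ∈ line M i)
    (hv1 : v ≠ 1) : ∃ A B : Subgroup G, Part (fac M i) v A B := by
  obtain ⟨j, hl, hcard, a, ha, b, hb, hne⟩ := exists_partner hc h hT hT' M M' (by omega) hR
  have hF' : Nat.card F' = 2 := hcard.trans hF
  have hv' : v ∈ line M' j := hl ▸ hv
  obtain ⟨l, hlj⟩ : ∃ l : Fin k', l ≠ j := by
    have : Nontrivial (Fin k') := Fin.nontrivial_iff_two_le.2 hk'
    exact exists_ne j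
  have hq : ∀ (m : Fin k') {b : G}, b ∈ fac M' m → b ≠ 1 → ∀ n, fac M' n ≤ ZN.o2 (centralizer ({b} : Set G)) :=
    fun m b hb hb1 n => (fac_le M' n).trans ((zl_le_KK h.star' hC' hF' hb hb1).trans
      (KK_le_o2 (fac_sq hb) (cz_char2 hc (fac_sq hb) hb1)))
  obtain ⟨b₁, hb₁, e1⟩ := exists_fac M' l ![1, 0]
  obtain ⟨b₂, hb₂, e2⟩ := exists_fac M' l ![0, 1]
  have hb11 : b₁ ≠ 1 := fun h0 => by
    rw [← fac_eq_one M' hb₁, e1] at h0
    exact one_ne_zero (congrFun h0 0)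
  have hb21 : b₂ ≠ 1 := fun h0 => by
    rw [← fac_eq_one M' hb₂, e2] at h0
    exact one_ne_zero (congrFun h0 1)
  have hb12 : b₁ ≠ b₂ := fun h0 => by
    rw [h0, e2] at e1
    exact zero_ne_one (congrFun e1 0)
  refine ⟨fac M' j, fac M' l, line_le M' j hv', ⟨b₁, hb₁, b₂, hb₂, hb11, hb21, hb12⟩,
    hq j (line_le M' j hv') hv1 l, fun b hb q hq' => qz_comm hC' hF' hlj (line_le M' j hv') hv1 hq' hb,
    fun b hb hb1 => hq l hb hb1 j, fun b hb hb1 a ha q hq' => qz_comm hC' hF' hlj.symm hb hb1 hq' ha,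
    fun a ha => fac_sq ha, fun b hb => fac_sq hb, ⟨b, hb, a, ha, hne⟩⟩

/-- `k' = 1`: `v` is centralised by the Sylow 2-subgroup `S'`. -/
theorem sylow_cent (hc : IsCharacteristicTwoType G) (h : Pair S S' P P')
    (hT : NoOver (zl (S : Subgroup G) P) P) (hT' : NoOver (zl (S' : Subgroup G) P') P') (hk' : k' = 1)
    (M' : NatK F' (S' : Subgroup G) P' (zl (S' : Subgroup G) P') ⊥ k') (hF : Nat.card F = 2) {i : Fin k}
    (hR : ⁅zl (S : Subgroup G) P, zl (S' : Subgroup G) P'⁆ = line M i) {v : G} (hv : v ∈ line M i) :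
    (S' : Subgroup G) ≤ centralizer ({v} : Set G) := by
  subst hk'
  obtain ⟨j, hl, hcard, -⟩ := exists_partner hc h hT hT' M M' one_pos hR
  have hSP' : (S' : Subgroup G) ≤ P' := h.star'.isLoc.le
  have h3 : stab M' j = (S' : Subgroup G) := by
    refine le_antisymm (stab_le M' j) (le_inf le_rfl fun x hx => ?_)
    rw [mem_normalizer_fac_iff M' (hSP' hx)]
    exact Subsingleton.elim _ _
  intro s hs
  rw [← h3] at hs
  exact mem_cent.2 (stab_comm_line M' hSP' (hcard.trans hF) (hl ▸ hv) hs)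

end Cfsg.Agent.Omega.IId.Big.Supply
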