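import Cfsg.Agent.Omega.IId.Big.Base
import Cfsg.Agent.Omega.IId.Big.Supply

/-!
# WrBig, `q = 2`: the frame `Fr` (helper428's `Base.lean`) from natural factors

* `fr_of` : the frame `Fr S (fac M)`.
-/

set_option autoImplicit false
set_option linter.unusedSectionVars false

namespace Cfsg.Agent.Omega.IId.Big

open Subgroup Pointwise Cfsg Cfsg.Agent.ZN Cfsg.Agent.ZN.ChoiceBase
open Cfsg.Agent.Omega.MinPar Cfsg.Agent.Omega.FFThm Cfsg.Agent.Omega.FrameMulti
open Cfsg.Agent.MinSimple.VModule (mem_zc)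
open Triangle (KK KK_conj KK_le_o2 mem_cent mem_KK mem_zpowers_iff_of_sq cent_conj o2_cent_conj)
open Supply

universe u

variable {G : Type u} [Group G] [Finite G] {F : Type} [Field F] [Finite F] [CharP F 2] {S : Sylow 2 G}
  {P : Subgroup G} {k : ℕ} {M : NatK F (S : Subgroup G) P (zl (S : Subgroup G) P) ⊥ k}

/-- **The frame** `Fr S (fac M)` from a point `v` of a factor such that `KK v` moves the factor. -/
theorem fr_of (hc : IsCharacteristicTwoType G) (hP : IsParS (S : Subgroup G) P) (hC : CC M)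
    (hF : Nat.card F = 2) (hZ : zc (S : Subgroup G) ≤ zl (S : Subgroup G) P) {i₀ : Fin k} {v₀ : G}
    (hv₀ : v₀ ∈ fac M i₀) (hv₀1 : v₀ ≠ 1)
    (hmv : ∃ x ∈ fac M i₀, ∃ g ∈ KK v₀, g * x ≠ x * g) : Fr (S : Subgroup G) (fac M) where
  S2 := S.isPGroup'
  sq := fun i x hx => fac_sq hx
  comm := fun i j x hx y hy => comm M hx.1 hy.1
  four := fun i => by
    rw [card_fac M i, hF]
    norm_num
  Qc := fun i j hij v hv hv1 q hq x hx => qz_comm hC hF hij hv hv1 hq hx
  VQ := fun i j v hv hv1 => (fac_le M j).trans ((zl_le_KK hP hC hF hv hv1).trans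
    (KK_le_o2 (fac_sq hv) (cz_char2 hc (fac_sq hv) hv1)))
  WV := by
    intro i v hv hv1
    obtain ⟨x, hx, g, hg, hgx⟩ := hmv
    obtain ⟨p, hp, h1, h2⟩ := exists_P_conj hP.isLoc.le hv₀ hv₀1 hv hv1
    refine ⟨p * g * p⁻¹, by rw [← h1]; exact KK_conj hg, p * x * p⁻¹, h2 x hx, fun h0 => hgx ?_⟩
    calc g * x = p⁻¹ * (p * g * p⁻¹ * (p * x * p⁻¹)) * p := by group
      _ = p⁻¹ * (p * x * p⁻¹ * (p * g * p⁻¹)) * p := by rw [h0]
      _ = x * g := by group
  c2 := fun i v hv hv1 => cz_char2 hc (fac_sq hv) hv1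
  perm := by
    intro s hs i
    have hsP := hP.isLoc.le hs
    have h1 := conj_fac M hsP i
    refine ⟨_, fun x => ⟨fun hx => by rw [← h1]; exact ⟨x, hx, rfl⟩, fun hx => ?_⟩⟩
    rw [← h1] at hx
    obtain ⟨y, hy, hyx⟩ := hx
    have h2 : s * y * s⁻¹ = s * x * s⁻¹ := hyx
    rwa [← mul_left_cancel (mul_right_cancel h2)]
  zS := hZ.trans (fac_le_iSup M)

end Cfsg.Agent.Omega.IId.Big
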