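import Cfsg.Agent.Omega.IId.Big.Of
import Cfsg.Agent.Omega.IId.Big.Main
import Cfsg.Agent.Omega.IId.BigCut

/-!
# WrBig, `q = 2`: the plug

* `CaseB` : (H2) holds in a frame with `k ≥ 3` natural factors (partner-free);
* `killTwo`, `killOne` : END of THEOREM A (#16750, #17530; helper428) for `k' ≥ 2` resp. `k' = 1`;
* `two_false`, `wrBigTwo_of` : `WrBigTwo K` from THEOREM C and CASE B;
* `wrBigTwo_of_cases` : the same with CASE 1 (`stab M i` Sylow in `N_G(line M i)`, `WrBigTwoSyl`) separated, CASE B only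
  in CASE 2 (`CaseBN`).
-/

set_option autoImplicit false
set_option linter.unusedSectionVars false

namespace Cfsg.Agent.Omega.IId.Big

open Subgroup Pointwise Cfsg Cfsg.Agent.ZN Cfsg.Agent.ZN.ChoiceBase
open Cfsg.Agent.Omega.MinPar Cfsg.Agent.Omega.Frame Cfsg.Agent.Omega.FFThm Cfsg.Agent.Omega.FrameMulti
open Triangle (KK mem_cent)
open Supply

universe u

/-- **CASE B**: (H2) for `k ≥ 3` natural factors over the field of order 2. -/
def CaseB : Prop :=
  ∀ (G : Type u) [Group G] [Finite G] (S : Sylow 2 G) (P : Subgroup G) (F : Type) [Field F] [Finite F]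
    [CharP F 2] (k : ℕ) (M : NatK F (S : Subgroup G) P (zl (S : Subgroup G) P) ⊥ k),
    IsCharacteristicTwoType G → IsParS (S : Subgroup G) P → CC M → Nat.card F = 2 →
      Fr (S : Subgroup G) (fac M) → 2 < k → H2 (fac M)

section

variable {G : Type u} [Group G] [Finite G] {F : Type} [Field F] [Finite F] [CharP F 2] {S : Sylow 2 G}
  {P : Subgroup G} {k : ℕ}

omit [Finite G] [Finite F] [CharP F 2] in
theorem part_le_of (M : NatK F (S : Subgroup G) P (zl (S : Subgroup G) P) ⊥ k) (s : Finset (Fin k))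
    {B : Subgroup G} (hB : ∀ l ∈ s, fac M l ≤ B) : part M (s : Set (Fin k)) ≤ B := by
  classical
  induction s using Finset.induction_on with
  | empty => rw [Finset.coe_empty, part_empty]; exact bot_le
  | insert i s _ ih =>
    intro v hv
    obtain ⟨a, ha, h1, h2⟩ := exists_component M hv.1 i
    have h3 : a⁻¹ * v ∈ part M (s : Set (Fin k)) := by
      refine ⟨h2.1, fun j hj => ?_⟩
      by_cases hji : j = i
      · exact h2.2 j (fun h => h hji)
      · rw [M.mul _ (inv_mem ha.1) _ hv.1, e_inv M ha.1, Pi.add_apply, Pi.neg_apply,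
          ha.2 j hji, hv.2 j (fun h => by
            rw [Finset.coe_insert, Set.mem_insert_iff] at h
            rcases h with h | h
            · exact hji h
            · exact hj h), neg_zero, add_zero]
    have h4 : v = a * (a⁻¹ * v) := by group
    rw [h4]
    exact mul_mem (hB i (Finset.mem_insert_self _ _) ha)
      (ih (fun l hl => hB l (Finset.mem_insert_of_mem hl)) h3)

omit [Finite G] [Finite F] [CharP F 2] in
theorem part_compl_le (M : NatK F (S : Subgroup G) P (zl (S : Subgroup G) P) ⊥ k) (i : Fin k) :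
    part M {i}ᶜ ≤ Vo (fac M) i := by
  classical
  have h := part_le_of M (Finset.univ.erase i) (B := Vo (fac M) i)
    (fun l hl => le_Vo (V := fac M) (Finset.ne_of_mem_erase hl))
  have e : ((Finset.univ.erase i : Finset (Fin k)) : Set (Fin k)) = {i}ᶜ := by
    ext j
    simp
  rwa [e] at h

theorem three_blocks (hk : 2 < k) (i j : Fin k) : ∃ l, l ≠ i ∧ l ≠ j := by
  by_contra hcon
  push Not at hcon
  have h1 : (Finset.univ : Finset (Fin k)) ⊆ {i, j} := by
    intro l _
    rw [Finset.mem_insert, Finset.mem_singleton]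
    by_cases h : l = i
    · exact Or.inl h
    · exact Or.inr (hcon l h)
  have h2 := Finset.card_le_card h1
  have h3 : ({i, j} : Finset (Fin k)).card ≤ 2 := Finset.card_le_two
  rw [Finset.card_univ, Fintype.card_fin] at h2
  omega

/-- END of THEOREM A, `k' ≥ 2`. -/
theorem killTwo (M : NatK F (S : Subgroup G) P (zl (S : Subgroup G) P) ⊥ k)
    (hc : IsCharacteristicTwoType G) (hfr : Fr (S : Subgroup G) (fac M)) (hk : 2 < k) (hH : H2 (fac M))
    {i : Fin k} {v : G} (hv : v ∈ fac M i) (hv1 : v ≠ 1) {A B : Subgroup G} (h : Part (fac M i) v A B) :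
    False := by
  obtain ⟨b₁, hb₁, b₂, hb₂, h1, h2, h12⟩ := h.two
  obtain ⟨a, ha, x, hx, hax⟩ := h.ne
  exact hfr.kill_two hc hH (three_blocks hk) hv hv1 h.vA hb₁ hb₂ h1 h2 h12 h.Bc
    (fun b hb hb1 => ⟨h.Aq b hb hb1, h.Ac b hb hb1⟩) ha hx hax

/-- END of THEOREM A, `k' = 1`. -/
theorem killOne (M : NatK F (S : Subgroup G) P (zl (S : Subgroup G) P) ⊥ k)
    (hc : IsCharacteristicTwoType G) (hP : IsParS (S : Subgroup G) P) (hF : Nat.card F = 2)
    (hfr : Fr (S : Subgroup G) (fac M)) (hk : 2 < k) (hH : H2 (fac M))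
    {i : Fin k} {v : G} (hv : v ∈ fac M i) (hv1 : v ≠ 1) {T : Sylow 2 G}
    (hT : (T : Subgroup G) ≤ centralizer ({v} : Set G)) : False := by
  classical
  obtain ⟨x, z, B, hx⟩ := ThmC.TwoOf.exists_blk hF hc hP M (by omega)
  have hzV : z ∈ zl (S : Subgroup G) P := by
    have h1 := B.zV
    rwa [ThmC.TwoOf.iSup_fac] at h1
  have hVA : zl (S : Subgroup G) P ≤ zc (o2 P) :=
    Cfsg.Agent.MinSimple.VModule.zl_le_zc hP.le S.isPGroup'
      (MinSimple.Basic.not_dvd_relIndex S hP.le) (IsLoc.char2 S hc hP.isLoc)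
  have hzc : zc (S : Subgroup G) ≤ zl (S : Subgroup G) P := zc_le_zl
  have hzS : z ∈ (S : Subgroup G) := B.QS (zc_le _ (hVA hzV))
  refine hfr.kill_one hc hH (three_blocks hk) (z := z)
    (ZN.mem_zc.2 ⟨hzS, B.zS, by rw [pow_two]; exact sq M hzV⟩) B.z1 (fun y hy => ?_) (fun j => ?_) hv hv1 hT
  · exact B.fix y (hVA (hzc hy)) (ZN.mem_zc.1 hy).2.1
  · obtain ⟨a, ha, h1, h2⟩ := exists_component M hzV j
    refine ⟨a, ha, a⁻¹ * z, part_compl_le M j h2, fun h0 => B.z1 ?_, by group⟩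
    rw [h0, e_one] at h1
    exact eq_one_of_cent M hzV B.zS h1.symm

end

section

variable {G : Type u} [Group G] [Finite G] {F : Type} [Field F] [Finite F] [CharP F 2] {S : Sylow 2 G}
  {P : Subgroup G} {k : ℕ} {F' : Type} [Field F'] [Finite F'] [CharP F' 2] {S' : Sylow 2 G}
  {P' : Subgroup G} {k' : ℕ}

/-- **`k ≥ 3`, `q = 2`**: the contradiction. -/
theorem two_false (hc : IsCharacteristicTwoType G) (hStmt : ThmC.Stmt G)
    (h : Pair S S' P P')
    (hT : NoOver (zl (S : Subgroup G) P) P) (hT' : NoOver (zl (S' : Subgroup G) P') P')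
    (M : NatK F (S : Subgroup G) P (zl (S : Subgroup G) P) ⊥ k)
    (M' : NatK F' (S' : Subgroup G) P' (zl (S' : Subgroup G) P') ⊥ k') (hk : 2 < k) (hk' : 1 ≤ k')
    (hF : Nat.card F = 2)
    (hR : ∃ i, ⁅zl (S : Subgroup G) P, zl (S' : Subgroup G) P'⁆ = line M i)
    (hH2 : CC M → Fr (S : Subgroup G) (fac M) → H2 (fac M)) : False := by
  obtain ⟨i, hi⟩ := hR
  obtain ⟨v, hv, hv1⟩ := exists_line M i
  obtain ⟨-, -, hcF, -⟩ := exists_partner hc h hT hT' M M' hk' hi
  have hC : CC M := ThmC.TwoOf.cc hStmt hc h.star M hF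
  have hC' : CC M' := ThmC.TwoOf.cc hStmt hc h.star' M' (hcF.trans hF)
  have hfr : Fr (S : Subgroup G) (fac M) := fr_of hc h.star hC hF zc_le_zl (line_le M i hv) hv1
    (exists_move hc h hT hT' hk' hC' hF hi hv hv1)
  have hH := hH2 hC hfr
  rcases Nat.lt_or_ge k' 2 with hk2 | hk2
  · have hk1 : k' = 1 := by omega
    exact killOne M hc h.star hF hfr hk hH (line_le M i hv) hv1
      (sylow_cent hc h hT hT' hk1 M' hF hi hv)
  · obtain ⟨A, B, hAB⟩ := exists_part hc h hT hT' hk2 hC' hF hi hv hv1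
    exact killTwo M hc hfr hk hH (line_le M i hv) hv1 hAB

end

/-- **`WrBigTwo K`** from THEOREM C, CASE B and THEOREM A. -/
theorem wrBigTwo_of {K : Cls.{u}} (hStmt : ∀ (G : Type u) [Group G] [Finite G], ThmC.Stmt G)
    (hB : CaseB.{u}) : WrBigTwo K := by
  intro G _ _ S S' hH P P' hp F F' _ _ _ _ _ _ k k' M M' hk hk' hF _ hcard
  have hc := hH.ctx.char2
  have hT := (hH.typed' hp).1.noOver
  have hT' := (hH.typed' hp).2.noOver
  obtain ⟨I, hI⟩ := exists_ind M hp.le (hp.off hc hT')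
  obtain ⟨i, -, hi⟩ := hI.eq_line (hp.le.trans hp.star.le) (hcard.trans hF.symm)
  exact (two_false hc (hStmt G) hp hT hT' M M' hk hk' hF ⟨i, hi⟩ fun hC hfr =>
    hB G S P F k M hc hp.star hC hF hfr hk).elim

/-- **CASE B in CASE 2**: (H2) for `k ≥ 3` natural factors over the field of order 2, `stab M i` not Sylow in
`C_G(v)`, `line M i = {1, v}`. -/
def CaseBN : Prop :=
  ∀ (G : Type u) [Group G] [Finite G] (S : Sylow 2 G) (P : Subgroup G) (F : Type) [Field F] [Finite F]
    [CharP F 2] (k : ℕ) (M : NatK F (S : Subgroup G) P (zl (S : Subgroup G) P) ⊥ k),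
    IsCharacteristicTwoType G → IsParS (S : Subgroup G) P → CC M → Nat.card F = 2 →
      Fr (S : Subgroup G) (fac M) → 2 < k →
      ∀ i, 2 ∣ (stab M i).relIndex (normalizer (line M i : Set G)) → H2 (fac M)

/-- **CASE 1** of `WrBigTwo K`. -/
def WrBigTwoSyl (K : Cls.{u}) : Prop :=
  ∀ (G : Type u) [Group G] [Finite G] (S S' : Sylow 2 G), Hyp K S → ∀ (P P' : Subgroup G), Pair S S' P P' →
    ∀ (F F' : Type) [Field F] [Finite F] [CharP F 2] [Field F'] [Finite F'] [CharP F' 2] (k k' : ℕ)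
      (M : NatK F (S : Subgroup G) P (zl (S : Subgroup G) P) ⊥ k)
      (_ : NatK F' (S' : Subgroup G) P' (zl (S' : Subgroup G) P') ⊥ k'), 2 < k → 1 ≤ k' →
      Nat.card F = 2 → Nat.card F' = 2 →
      ∀ i, ⁅zl (S : Subgroup G) P, zl (S' : Subgroup G) P'⁆ = line M i →
        ¬ 2 ∣ (stab M i).relIndex (normalizer (line M i : Set G)) → IsKnownSimple' G

/-- **`WrBigTwo K`** from THEOREM C, CASE 1 and CASE B in CASE 2. -/
theorem wrBigTwo_of_cases {K : Cls.{u}} (hStmt : ∀ (G : Type u) [Group G] [Finite G], ThmC.Stmt G)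
    (h1 : WrBigTwoSyl K) (hB : CaseBN.{u}) : WrBigTwo K := by
  intro G _ _ S S' hH P P' hp F F' _ _ _ _ _ _ k k' M M' hk hk' hF hF' hcard
  have hc := hH.ctx.char2
  have hT := (hH.typed' hp).1.noOver
  have hT' := (hH.typed' hp).2.noOver
  obtain ⟨I, hI⟩ := exists_ind M hp.le (hp.off hc hT')
  obtain ⟨i, -, hi⟩ := hI.eq_line (hp.le.trans hp.star.le) (hcard.trans hF.symm)
  by_cases hd : 2 ∣ (stab M i).relIndex (normalizer (line M i : Set G))
  · refine (two_false hc (hStmt G) hp hT hT' M M' hk hk' hF ⟨i, hi⟩ fun hC hfr => ?_).elim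
    exact hB G S P F k M hc hp.star hC hF hfr hk i hd
  · exact h1 G S S' hH P P' hp F F' k k' M M' hk hk' hF hF' i hi hd

end Cfsg.Agent.Omega.IId.Big
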