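import Cfsg.Agent.Omega.IId.Big.RedOut
import Cfsg.Agent.Omega.ThmC.TwoEnd

/-!
# (RED) (bb OMEGA 17245 (2)): THEOREM C, `q = 2`, for a functor

`le_FK` : `L ≤ F (L ∩ S)`.   `L_le_E` : `L` centralises `E = Ω₁Z(S⁰)`.
(generalisation of helper732's `ThmC/TwoEnd`)
-/

set_option autoImplicit false
set_option linter.unusedSectionVars false

namespace Cfsg.Agent.Omega.IId.Big.Red

open scoped Pointwise
open Subgroup Cfsg Cfsg.Agent.MinSimple.VModule Cfsg.Agent.Omega.ThmC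
open Cfsg.Agent.ZN (zc o2)
open Cfsg.Agent.Omega.IITwo.Count (conj_mem conj_mem' mem_norm)

universe u

variable {G : Type u} [Group G]

theorem map_conj_nor {M L : Subgroup G} {v g : G} (h : centralizer ({v} : Set G) ≤ normalizer (L : Set G))
    (hM : M = centralizer ({g * v * g⁻¹} : Set G)) : M ≤ normalizer ((L.map (MulAut.conj g).toMonoidHom : Subgroup G) : Set G) := by
  subst hM
  intro c hc
  have h1 : g⁻¹ * c * g ∈ centralizer ({v} : Set G) := by
    rw [mem_cs'] at hc ⊢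
    calc g⁻¹ * c * g * v * (g⁻¹ * c * g)⁻¹ = g⁻¹ * (c * (g * v * g⁻¹) * c⁻¹) * g := by group
      _ = v := by rw [hc]; group
  have key : ∀ c ∈ centralizer ({g * v * g⁻¹} : Set G), ∀ y ∈ L.map (MulAut.conj g).toMonoidHom,
      c * y * c⁻¹ ∈ L.map (MulAut.conj g).toMonoidHom := by
    rintro c hc _ ⟨y, hy, rfl⟩
    have h1 : g⁻¹ * c * g ∈ centralizer ({v} : Set G) := by
      rw [mem_cs'] at hc ⊢
      calc g⁻¹ * c * g * v * (g⁻¹ * c * g)⁻¹ = g⁻¹ * (c * (g * v * g⁻¹) * c⁻¹) * g := by group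
        _ = v := by rw [hc]; group
    refine ⟨(g⁻¹ * c * g) * y * (g⁻¹ * c * g)⁻¹, conj_mem (h h1) hy, ?_⟩
    change g * ((g⁻¹ * c * g) * y * (g⁻¹ * c * g)⁻¹) * g⁻¹ = c * (g * y * g⁻¹) * c⁻¹
    group
  rw [mem_normalizer_iff]
  intro y
  refine ⟨key c hc y, fun hy => ?_⟩
  have h2 := key c⁻¹ (inv_mem hc) _ hy
  have e : c⁻¹ * (c * y * c⁻¹) * c⁻¹⁻¹ = y := by group
  rwa [e] at h2

theorem Fn.conj {S : Sylow 2 G} {ι ι' : Type} {Z : ι → Subgroup G} {Z' : ι' → Subgroup G} {z : ι → G} {z' : ι' → G}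
    {o : ι} {o' : ι'} {L F : Subgroup G} (h : Fn (S : Subgroup G) Z z o L F) {g : G} (hg : g * z o * g⁻¹ = z' o')
    (hE : zc (S0 (S : Subgroup G) Z') ≤ zc (S0 (S : Subgroup G) Z))
    (hgN : g ∈ normalizer (zc (S0 (S : Subgroup G) Z) : Set G)) :
    Fn (S : Subgroup G) Z' z' o' (L.map (MulAut.conj g).toMonoidHom) (F.map (MulAut.conj g).toMonoidHom) where
  LC := by
    rintro _ ⟨y, hy, rfl⟩
    have h1 := mem_cs'.1 (h.LC hy)
    change g * y * g⁻¹ ∈ _
    rw [mem_cs', ← hg]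
    calc g * y * g⁻¹ * (g * z o * g⁻¹) * (g * y * g⁻¹)⁻¹ = g * (y * z o * y⁻¹) * g⁻¹ := by group
      _ = _ := by rw [h1]
  nL := map_conj_nor h.nL (by rw [hg])
  nF := map_conj_nor h.nF (by rw [hg])
  FL := map_mono h.FL
  two := by
    rintro _ ⟨y, hy, rfl⟩
    obtain ⟨n, hn⟩ := h.two y hy
    exact ⟨n, y ^ 2 ^ n, hn, map_pow _ _ _⟩
  FE := by
    rintro _ ⟨f, hf, rfl⟩
    change g * f * g⁻¹ ∈ _
    rw [mem_centralizer_iff]
    intro v hv
    have h1 := mem_centralizer_iff.1 (h.FE hf) _ (conj_mem' hgN (hE hv))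
    calc v * (g * f * g⁻¹) = g * ((g⁻¹ * v * g) * f) * g⁻¹ := by group
      _ = g * (f * (g⁻¹ * v * g)) * g⁻¹ := by rw [h1]
      _ = g * f * g⁻¹ * v := by group

/-- **THEOREM C for a functor**: `L ≤ F (L ∩ S)`. -/
theorem le_FK [Finite G] {S : Sylow 2 G} : ∀ (n : ℕ) (Q : Subgroup G) (ι : Type) (_ : Finite ι) (Z : ι → Subgroup G)
    (x z : ι → G), Nat.card ι = n → Dat S Q Z x z → ∀ (o : ι) (L F : Subgroup G),
      Fn (S : Subgroup G) Z z o L F → L ≤ FK (S : Subgroup G) L F := by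
  intro n
  induction n using Nat.strong_induction_on with
  | _ n ih =>
  intro Q ι _ Z x z hn D o L F h
  have := Fintype.ofFinite ι
  by_contra hne
  obtain ⟨q, w, hw, hwN, star, τ, r, w1, hw1, w2, hw2, n1, n2, n3⟩ := step D h hne
  obtain ⟨s, hs, hτ⟩ := D.mem_TT.mp r.mem
  have h6 := r.six hs hτ
  have hso : D.sg s o = q := by
    have := r.map
    rwa [← hτ, D.sN_phi hs, r.so] at this
  have hsq : D.sg s q = o := by rw [← r.so, r.perm s hs, hso, ← r.so, r.inv]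
  -- the conjugating element
  have ez : s * z o * s⁻¹ = z q := by rw [D.z_conj hs, hso]
  have ezq : s * z q * s⁻¹ = z o := by rw [D.z_conj hs, hsq]
  have ew : w * z o * w⁻¹ = z o := mem_cs'.mp (h.LC hw)
  have ewq : w * z q * w⁻¹ = z o * z q := by
    have h1 := r.zo
    rw [← hτ, r.so] at h1
    have h2 := congrArg Md.val h1
    rw [Md.val_add, Dat.val_zE, Dat.val_zE] at h2
    have h3 : (((phi (norE hwN) * phi (D.S_le_nor_E hs)) • D.zE o).val : G) = w * (s * z o * s⁻¹) * w⁻¹ := by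
      rw [mul_smul]; rfl
    rw [h3, ez] at h2
    exact h2
  set g := s * w * s⁻¹ with hg
  have es : s⁻¹ * z q * s = z o := by rw [← ez]; group
  have es' : s⁻¹ * z o * s = z q := by rw [← ezq]; group
  have hgq : g * z q * g⁻¹ = z q := by
    calc g * z q * g⁻¹ = s * (w * (s⁻¹ * z q * s) * w⁻¹) * s⁻¹ := by rw [hg]; group
      _ = z q := by rw [es, ew, ez]
  have hgo : g * z o * g⁻¹ = z o * z q := by
    calc g * z o * g⁻¹ = s * (w * (s⁻¹ * z o * s) * w⁻¹) * s⁻¹ := by rw [hg]; group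
      _ = s * (z o * z q) * s⁻¹ := by rw [es', ewq]
      _ = (s * z o * s⁻¹) * (s * z q * s⁻¹) := by group
      _ = z o * z q := by rw [ez, ezq, D.zz_comm]
  have hqo : q ≠ o := by
    intro h
    have h1 := r.ne o
    rw [r.so] at h1
    exact h1 h
  have hgN : g ∈ normalizer (zc (S0 (S : Subgroup G) Z) : Set G) :=
    mul_mem (mul_mem (D.S_le_nor_E hs) (norE hwN)) (inv_mem (D.S_le_nor_E hs))
  -- induction
  have hWb : L.map (MulAut.conj g).toMonoidHom ≤
      FK (S : Subgroup G) (L.map (MulAut.conj g).toMonoidHom) (F.map (MulAut.conj g).toMonoidHom) := by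
    refine ih (Nat.card {l : ι // rep h6.inv l = l}) (by rw [← hn]; exact D.card_lt h6) _ _ inferInstance _ _ _ rfl
      h6.dat ⟨rep h6.inv o, rep_rep h6.inv o⟩ _ _ (h.conj ?_ h6.dat.E_le hgN)
    change g * z o * g⁻¹ = z (rep h6.inv o) * z (star (rep h6.inv o))
    rw [hgo]
    rcases rep_or h6.inv o with h | h
    · rw [h, r.so]
    · rw [h, r.inv, r.so, D.zz_comm]
  have hLC' : L.map (MulAut.conj g).toMonoidHom ≤ centralizer ({z o * z q} : Set G) := by
    rintro _ ⟨y, hy, rfl⟩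
    have h1 := mem_cs'.1 (h.LC hy)
    change g * y * g⁻¹ ∈ _
    rw [mem_cs', ← hgo]
    calc g * y * g⁻¹ * (g * z o * g⁻¹) * (g * y * g⁻¹)⁻¹ = g * (y * z o * y⁻¹) * g⁻¹ := by group
      _ = _ := by rw [h1]
  have hnF' : L.map (MulAut.conj g).toMonoidHom ≤
      normalizer ((F.map (MulAut.conj g).toMonoidHom : Subgroup G) : Set G) :=
    hLC'.trans (map_conj_nor h.nF (by rw [hgo]))
  have hFE' : F.map (MulAut.conj g).toMonoidHom ≤ centralizer (zc (S0 (S : Subgroup G) Z) : Set G) := by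
    rintro _ ⟨f, hf, rfl⟩
    change g * f * g⁻¹ ∈ _
    rw [mem_centralizer_iff]
    intro v hv
    have h1 := mem_centralizer_iff.1 (h.FE hf) _ (conj_mem' hgN hv)
    calc v * (g * f * g⁻¹) = g * ((g⁻¹ * v * g) * f) * g⁻¹ := by group
      _ = g * (f * (g⁻¹ * v * g)) * g⁻¹ := by rw [h1]
      _ = g * f * g⁻¹ * v := by group
  -- the orbit of `z q` under `W_b`
  have orb : ∀ u ∈ (S : Subgroup G), u * (z o * z q) * u⁻¹ = z o * z q → u * z q * u⁻¹ = z o ∨ u * z q * u⁻¹ = z q := by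
    intro u hu hf
    rw [D.z_conj hu]
    by_cases h1 : D.sg u q = o
    · left; rw [h1]
    by_cases h2 : D.sg u q = q
    · right; rw [h2]
    exfalso
    have h3 : z (D.sg u o) * z (D.sg u q) = z o * z q := by
      rw [← D.z_conj hu, ← D.z_conj hu, ← hf]; group
    have h4 : D.sg u q ≠ D.sg u o := by
      intro h
      apply hqo
      have := congrArg (D.sg u⁻¹) h
      rwa [← D.sg_mul (inv_mem hu) hu, ← D.sg_mul (inv_mem hu) hu, inv_mul_cancel, D.sg_one, D.sg_one] at this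
    have h5 := congrArg (ThmC.pr (x (D.sg u q))) h3
    rw [pr_mul (D.xN _) (D.le _ (D.zm _)) (D.le _ (D.zm _)), pr_mul (D.xN _) (D.le _ (D.zm _)) (D.le _ (D.zm _)),
      D.pr_other h4 (D.zm _), D.pr_self (D.zm _), D.pr_other h1 (D.zm _), D.pr_other h2 (D.zm _), one_mul,
      one_mul] at h5
    exact D.z1 _ h5
  have orb' : ∀ u ∈ L.map (MulAut.conj g).toMonoidHom, u * z q * u⁻¹ = z o ∨ u * z q * u⁻¹ = z q := by
    intro u hu
    have h1 : u ∈ ((L.map (MulAut.conj g).toMonoidHom ⊓ (S : Subgroup G) : Subgroup G) : Set G) *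
        ((F.map (MulAut.conj g).toMonoidHom : Subgroup G) : Set G) := by
      rw [← coe_mul_of_left_le_normalizer_right _ _ (inf_le_left.trans hnF')]
      have h2 := hWb hu
      rw [FK, sup_comm] at h2
      exact h2
    obtain ⟨k, hk, f, hf, rfl⟩ := Set.mem_mul.1 h1
    have hkS := (mem_inf.1 hk).2
    have h2 := orb k hkS (mem_cs'.1 (hLC' (mem_inf.1 hk).1))
    have h3 : f * z q * f⁻¹ = z q := by
      rw [← mem_centralizer_iff.1 (hFE' hf) _ (D.z_mem_E q)]; group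
    have h4 : k * f * z q * (k * f)⁻¹ = k * z q * k⁻¹ := by
      calc k * f * z q * (k * f)⁻¹ = k * (f * z q * f⁻¹) * k⁻¹ := by group
        _ = _ := by rw [h3]
    rwa [h4]
  have key : ∀ w' ∈ L, w' * z q * w'⁻¹ ≠ z q → w' * z q * w'⁻¹ = g⁻¹ * z o * g := by
    intro w' hw' hne'
    have h2 := orb' (g * w' * g⁻¹) ⟨w', hw', rfl⟩
    have h3 : g * w' * g⁻¹ * z q * (g * w' * g⁻¹)⁻¹ = g * (w' * z q * w'⁻¹) * g⁻¹ := by
      calc g * w' * g⁻¹ * z q * (g * w' * g⁻¹)⁻¹ = g * w' * (g⁻¹ * z q * g) * w'⁻¹ * g⁻¹ := by group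
        _ = g * w' * (g⁻¹ * (g * z q * g⁻¹) * g) * w'⁻¹ * g⁻¹ := by rw [hgq]
        _ = _ := by group
    rw [h3] at h2
    rcases h2 with h2 | h2
    · rw [← h2]; group
    · exfalso
      apply hne'
      calc w' * z q * w'⁻¹ = g⁻¹ * (g * (w' * z q * w'⁻¹) * g⁻¹) * g := by group
        _ = g⁻¹ * (g * z q * g⁻¹) * g := by rw [h2, hgq]
        _ = z q := by group
  exact n3 ((key w1 hw1 n1).trans (key w2 hw2 n2).symm)

section
variable {S : Sylow 2 G} {Q : Subgroup G} {ι : Type} {Z : ι → Subgroup G} {x z : ι → G} {L F : Subgroup G}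
variable [Finite G] [Finite ι] (D : Dat S Q Z x z) {o : ι} (h : Fn (S : Subgroup G) Z z o L F)

include D h

theorem L_le_FK : L ≤ FK (S : Subgroup G) L F := le_FK _ Q ι ‹_› Z x z rfl D o L F h

/-- `L` centralises `E = Ω₁Z(S⁰)`. -/
theorem L_le_E : L ≤ centralizer (zc (S0 (S : Subgroup G) Z) : Set G) :=
  (L_le_FK D h).trans (sup_le h.FE ((inf_le_S0 D h).trans (le_centralizer_zc _)))

/-- `L` centralises the `x l`-conjugate of `C_l`, `l ≠ o`, if `F` does. -/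
theorem L_comm {l : ι} (hl : l ≠ o) {v : G} (hv : v ∈ zc (S0 (S : Subgroup G) Z))
    (hF : ∀ f ∈ F, f * (x l * v * (x l)⁻¹) = x l * v * (x l)⁻¹ * f) {w : G} (hw : w ∈ L) :
    w * (x l * v * (x l)⁻¹) = x l * v * (x l)⁻¹ * w := by
  have key : FK (S : Subgroup G) L F ≤ centralizer ({x l * v * (x l)⁻¹} : Set G) := by
    refine sup_le (fun f hf => mem_cs.2 (hF f hf)) fun k hk => ?_
    rw [mem_inf] at hk
    rw [mem_cs', comm_x' D h hk.1 hk.2 hl (D.E_le hv)]
    have h1 := (D.mem_E.1 hv).2 _ (inf_le_S0 D h (mem_inf.2 hk))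
    rw [h1]
    group
  exact mem_cs.1 (key (L_le_FK D h hw))

end

end Cfsg.Agent.Omega.IId.Big.Red
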