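import Cfsg.Agent.Omega.IId.One

/-!
# (1) of bb OMEGA 17245: involutions centralising all `Q_r`, `r ∈ V_j#`, `j ≠ i`, and one `Q_p`, `p ∈ V_i#`

`Q_p = O₂(C_G(p))`, `V i` commuting four-groups, `V j ≤ Z(Q_p)` for `p ∈ V_i#`, `j ≠ i`, `V i ≤ Q_p`, some element of
`Kk p` moves `V i`, no element `≠ 1` centralises all `Q_p`.

* `Pts.eq_of` : such an involution is `p`.
-/

set_option autoImplicit false

namespace Cfsg.Agent.Omega.IId.Big.Red

open Subgroup Cfsg Cfsg.Agent.ZN Cfsg.Agent.MinSimple.VModule Cfsg.Agent.Omega.IId.One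

universe u

variable {G : Type u} [Group G]

/-- The points of the blocks. -/
structure Pts {ι : Type*} (V : ι → Subgroup G) : Prop where
  sq : ∀ i, ∀ v ∈ V i, v * v = 1
  cQ : ∀ i, ∀ p ∈ V i, p ≠ 1 → centralizer (o2 (cz p) : Set G) ≤ o2 (cz p)
  self : ∀ i, ∀ p ∈ V i, p ≠ 1 → V i ≤ o2 (cz p)
  /-- THEOREM C -/
  c2t : ∀ i j, i ≠ j → ∀ p ∈ V i, p ≠ 1 → V j ≤ centralizer (o2 (cz p) : Set G)
  mv : ∀ i, ∀ p ∈ V i, p ≠ 1 → ∃ w ∈ Kk p, w ∈ o2 (cz p) ∧ ∀ q ∈ V i, q ≠ 1 → q ≠ p → w * q * w⁻¹ = p * q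
  tot : ∀ t : G, (∀ i, ∀ p ∈ V i, p ≠ 1 → t ∈ centralizer (o2 (cz p) : Set G)) → t = 1

namespace Pts

variable {ι : Type*} {V : ι → Subgroup G}

theorem mem_zl (P : Pts V) {i j : ι} {p : G} (hp : p ∈ V i) (hp1 : p ≠ 1) : V j ≤ o2 (cz p) := by
  rcases eq_or_ne i j with rfl | h
  · exact P.self i p hp hp1
  · exact (P.c2t i j h p hp hp1).trans (P.cQ i p hp hp1)

theorem comm (P : Pts V) {i j : ι} {p q : G} (hp : p ∈ V i) (hq : q ∈ V j) : p * q = q * p := by
  by_cases hp1 : p = 1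
  · rw [hp1, one_mul, mul_one]
  · exact (mem_cz.1 (o2_le _ (P.mem_zl hp hp1 hq))).symm

theorem conj_cent {p q w t : G} (h : w * p * w⁻¹ = q) (ht : t ∈ centralizer (o2 (cz p) : Set G)) :
    w * t * w⁻¹ ∈ centralizer (o2 (cz q) : Set G) := by
  rw [mem_centralizer_iff] at ht ⊢
  intro y hy
  have h1 : w⁻¹ * q * w⁻¹⁻¹ = p := by rw [← h]; group
  have h2 := ht _ (conj_o2_cz h1 hy)
  rw [inv_inv] at h2
  calc y * (w * t * w⁻¹) = w * (w⁻¹ * y * w * t) * w⁻¹ := by group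
    _ = w * (t * (w⁻¹ * y * w)) * w⁻¹ := by rw [h2]
    _ = w * t * w⁻¹ * y := by group

theorem conj_eq {a b : G} (h : a * b = b * a) : a * b * a⁻¹ = b := by rw [h, mul_inv_cancel_right]

/-- centralising `Q_p` and `Q_q` implies centralising `Q_{pq}` -/
theorem third (P : Pts V) {i : ι} {p q t : G} (hp : p ∈ V i) (hp1 : p ≠ 1) (hq : q ∈ V i) (hq1 : q ≠ 1)
    (hpq : q ≠ p) (h1 : t ∈ centralizer (o2 (cz p) : Set G)) (h2 : t ∈ centralizer (o2 (cz q) : Set G)) :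
    t ∈ centralizer (o2 (cz (p * q)) : Set G) := by
  obtain ⟨w, -, hwQ, hw'⟩ := P.mv i p hp hp1
  have h3 := conj_cent (hw' q hq hq1 hpq) h2
  rwa [conj_eq (mem_centralizer_iff.1 h1 w hwQ)] at h3

/-- an element centralising the `Q` of one block and two of another... of all blocks is `1` -/
theorem eq_one (P : Pts V) {i : ι} {p q t : G} (hp : p ∈ V i) (hp1 : p ≠ 1) (hq : q ∈ V i) (hq1 : q ≠ 1)
    (hpq : q ≠ p) (h4 : ∀ v ∈ V i, v = 1 ∨ v = p ∨ v = q ∨ v = p * q)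
    (h1 : t ∈ centralizer (o2 (cz p) : Set G)) (h2 : t ∈ centralizer (o2 (cz q) : Set G))
    (h3 : ∀ j, j ≠ i → ∀ r ∈ V j, r ≠ 1 → t ∈ centralizer (o2 (cz r) : Set G)) : t = 1 := by
  refine P.tot t fun j r hr hr1 => ?_
  rcases eq_or_ne j i with rfl | hj
  · rcases h4 r hr with h | h | h | h
    · exact absurd h hr1
    · rw [h]; exact h1
    · rw [h]; exact h2
    · rw [h]; exact P.third hp hp1 hq hq1 hpq h1 h2
  · exact h3 j hj r hr hr1

/-- **(1)** -/
theorem eq_of (P : Pts V) {i j : ι} {p q r t : G} (hij : j ≠ i) (hr : r ∈ V j) (hr1 : r ≠ 1) (hp : p ∈ V i)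
    (hp1 : p ≠ 1) (hq : q ∈ V i) (hq1 : q ≠ 1) (hpq : q ≠ p) (h4 : ∀ v ∈ V i, v = 1 ∨ v = p ∨ v = q ∨ v = p * q)
    (hc : ∀ j, j ≠ i → ∀ r ∈ V j, r ≠ 1 → t ∈ centralizer (o2 (cz r) : Set G))
    (hq' : t ∈ centralizer (o2 (cz q) : Set G)) : t = 1 ∨ t = q := by
  have hp2 := P.sq i p hp
  have hq2 := P.sq i q hq
  have hpq' : p * q ∈ V i := mul_mem hp hq
  have hpq1 : p * q ≠ 1 := fun h => hpq (by
    calc q = p * p * q := by rw [hp2, one_mul]
      _ = p * (p * q) := mul_assoc _ _ _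
      _ = p := by rw [h, mul_one])
  have hpqq : p * q ≠ q := fun h => hp1 (mul_eq_right.1 h)
  -- the class of elements considered
  let T : Subgroup G := (⨅ j : {j : ι // j ≠ i}, ⨅ r : {r : G // r ∈ V j ∧ r ≠ 1}, centralizer (o2 (cz (r : G)) : Set G)) ⊓
    centralizer (o2 (cz q) : Set G)
  have mT : ∀ {s : G}, s ∈ T ↔ (∀ j, j ≠ i → ∀ r ∈ V j, r ≠ 1 → s ∈ centralizer (o2 (cz r) : Set G)) ∧
      s ∈ centralizer (o2 (cz q) : Set G) := by
    intro s
    rw [mem_inf, mem_iInf]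
    constructor
    · rintro ⟨h1, h2⟩
      refine ⟨fun j hj r hr hr1 => ?_, h2⟩
      have h3 := h1 ⟨j, hj⟩
      rw [mem_iInf] at h3
      exact h3 ⟨r, hr, hr1⟩
    · rintro ⟨h1, h2⟩
      refine ⟨fun j => ?_, h2⟩
      rw [mem_iInf]
      exact fun r => h1 j j.2 r r.2.1 r.2.2
  have tT : t ∈ T := mT.2 ⟨hc, hq'⟩
  -- `V i` and `t`
  have tp : ∀ v ∈ V i, v * t = t * v := fun v hv =>
    mem_centralizer_iff.1 hq' v (P.self i q hq hq1 hv)
  -- `t` centralises `U_p = C(Q_p) ∩ {u | u * u = 1}`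
  have hU : ∀ u ∈ centralizer (o2 (cz p) : Set G), u * t = t * u := by
    intro u hu
    have huQ := P.cQ i p hp hp1 hu
    -- `u` centralises `V`
    have uV : ∀ k, ∀ v ∈ V k, u * v = v * u := fun k v hv =>
      (mem_centralizer_iff.1 hu v (P.mem_zl hp hp1 hv)).symm
    have uinv : ∀ k, ∀ v ∈ V k, u * v * u⁻¹ = v := fun k v hv => conj_eq (uV k v hv)
    have h1 : u * t * u⁻¹ * t⁻¹ = 1 := by
      refine P.eq_one hp hp1 hq hq1 hpq h4 ?_ ?_ ?_
      · -- in `C(Q_p)`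
        have h2 : t * u⁻¹ * t⁻¹ ∈ centralizer (o2 (cz p) : Set G) :=
          conj_cent (conj_eq (tp p hp).symm) (inv_mem hu)
        have e : u * t * u⁻¹ * t⁻¹ = u * (t * u⁻¹ * t⁻¹) := by group
        rw [e]
        exact mul_mem hu h2
      · exact mul_mem (conj_cent (uinv i q hq) hq') (inv_mem hq')
      · intro k hk v hv hv1
        exact mul_mem (conj_cent (uinv k v hv) (hc k hk v hv hv1)) (inv_mem (hc k hk v hv hv1))
    exact (mul_inv_eq_one.1 (by
      calc u * t * (t * u)⁻¹ = u * t * u⁻¹ * t⁻¹ := by group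
        _ = 1 := h1))
  -- `t ∈ Q_p`
  have htr : t ∈ centralizer (o2 (cz r) : Set G) := hc j hij r hr hr1
  have htQ : t ∈ o2 (cz p) := by
    set C := centralizer ((centralizer (o2 (cz p) : Set G) : Subgroup G) : Set G) with hC
    have hrC : r ∈ centralizer (o2 (cz p) : Set G) := P.c2t i j hij.symm p hp hp1 hr
    have hpC : p ∈ centralizer (o2 (cz p) : Set G) := by
      rw [mem_centralizer_iff]
      exact fun y hy => mem_cz.1 (o2_le _ hy)
    have hCp : C ≤ cz p := fun c hc => mem_cz.2 ((mem_centralizer_iff.1 hc p hpC).symm)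
    have hCr : C ≤ cz r := fun c hc => mem_cz.2 ((mem_centralizer_iff.1 hc r hrC).symm)
    have hCn : cz p ≤ normalizer (C : Set G) := by
      apply Two.le_normalizer_of
      intro c hc g hg
      rw [hC, mem_centralizer_iff] at hg ⊢
      intro y hy
      have hcinv : c⁻¹ ∈ cz p := inv_mem hc
      have h5 : c⁻¹ * p * c⁻¹⁻¹ = p := conj_eq (mem_cz.1 hcinv)
      have h6 := hg _ (conj_cent h5 hy)
      rw [inv_inv] at h6
      calc y * (c * g * c⁻¹) = c * (c⁻¹ * y * c * g) * c⁻¹ := by group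
        _ = c * (g * (c⁻¹ * y * c)) * c⁻¹ := by rw [h6]
        _ = c * g * c⁻¹ * y := by group
    -- the 2-group `C ∩ C(Q_r)`
    set N := C ⊓ centralizer (o2 (cz r) : Set G) with hN
    have hN2 : IsPGroup 2 N := (o2_isPGroup (cz r)).to_le (inf_le_right.trans (P.cQ j r hr hr1))
    have hCN : C ≤ normalizer (N : Set G) := by
      apply Two.le_normalizer_of
      intro c hc g hg
      have hgC : g ∈ C := (mem_inf.1 hg).1
      have h10 : c * g * c⁻¹ ∈ C := mul_mem (mul_mem hc hgC) (inv_mem hc)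
      exact mem_inf.2 ⟨h10, conj_cent (conj_eq (mem_cz.1 (hCr hc))) (mem_inf.1 hg).2⟩
    have h7 : N ≤ o2 C := le_o2 inf_le_left hN2 hCN
    have h8 : o2 C ≤ o2 (cz p) := by
      refine le_o2 ((o2_le C).trans hCp) (o2_isPGroup C) (hCn.trans ?_)
      intro c hc
      rw [mem_normalizer_iff_map_conj_eq] at hc ⊢
      rw [← ZN.o2_map _ (MulAut.conj c).injective]
      congr 1
    have h9 : t ∈ C := by
      rw [hC, mem_centralizer_iff]
      exact fun y hy => hU y hy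
    exact h8 (h7 ⟨h9, htr⟩)
  -- the end
  obtain ⟨w, hwK, -, hw'⟩ := P.mv i p hp hp1
  have hwq := hw' q hq hq1 hpq
  -- elements of `T` fixed by `w`
  have key : ∀ s ∈ T, w * s * w⁻¹ = s → s = 1 := by
    intro s hs hws
    have h5 := mT.1 hs
    have h6 : s ∈ centralizer (o2 (cz (p * q)) : Set G) := by
      have := conj_cent hwq h5.2
      rwa [hws] at this
    have h7 := P.third hq hq1 hpq' hpq1 hpqq h5.2 h6
    have e : q * (p * q) = p := by
      rw [P.comm hp hq, ← mul_assoc, hq2, one_mul]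
    rw [e] at h7
    exact P.eq_one hp hp1 hq hq1 hpq h4 h7 h5.2 h5.1
  have hqT : q ∈ T := by
    refine mT.2 ⟨fun k hk v hv hv1 => P.c2t k i hk v hv hv1 hq, ?_⟩
    rw [mem_centralizer_iff]
    exact fun y hy => mem_cz.1 (o2_le _ hy)
  rcases Kk_conj hp2 hwK htQ with h5 | h5
  · exact Or.inl (key t tT h5)
  · right
    have h6 : w * (t * q) * w⁻¹ = t * q := by
      calc w * (t * q) * w⁻¹ = (w * t * w⁻¹) * (w * q * w⁻¹) := by group
        _ = p * t * (p * q) := by rw [h5, hwq]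
        _ = t * p * (p * q) := by rw [tp p hp]
        _ = t * (p * p) * q := by group
        _ = t * q := by rw [hp2, mul_one]
    have h7 := key _ (mul_mem tT hqT) h6
    calc t = t * q * q := by rw [mul_assoc, hq2, mul_one]
      _ = q := by rw [h7, one_mul]

end Pts

end Cfsg.Agent.Omega.IId.Big.Red
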