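import Cfsg.Agent.Omega.ThmC.TwoK
import Cfsg.Agent.Omega.IId.Big.RedTool

/-!
# (RED) (bb OMEGA 17245 (2)): THEOREM C, `q = 2`, for a functor

`Fn S Z z o L F` : `F ≤ L` normal subgroups of `C_G(z o)`, `L / F` a 2-group, `F` centralises `E = Ω₁Z(S⁰)`.
THEOREM C is the case `F = 1`, `L = O₂(C_G(z o))`.

`K = L ∩ S`, `FK = F K`, `FKQ = F K Q`, the module `Ω₁Z(FKQ)`, `Lp = N_L(FKQ)`
(generalisation of helper732's `ThmC/TwoK`).
-/

set_option autoImplicit false
set_option linter.unusedSectionVars false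

namespace Cfsg.Agent.Omega.IId.Big.Red

open scoped Pointwise
open Subgroup Cfsg Cfsg.Agent.MinSimple.VModule Cfsg.Agent.Omega.ThmC
open Cfsg.Agent.ZN (zc o2)
open Cfsg.Agent.Omega.IITwo.Count (conj_mem conj_mem' mem_norm)

universe u

variable {G : Type u} [Group G]

/-- The functor. -/
structure Fn (S : Subgroup G) {ι : Type} (Z : ι → Subgroup G) (z : ι → G) (o : ι) (L F : Subgroup G) : Prop where
  LC : L ≤ centralizer ({z o} : Set G)
  nL : centralizer ({z o} : Set G) ≤ normalizer (L : Set G)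
  nF : centralizer ({z o} : Set G) ≤ normalizer (F : Set G)
  FL : F ≤ L
  two : ∀ w ∈ L, ∃ n : ℕ, w ^ 2 ^ n ∈ F
  FE : F ≤ centralizer (zc (S0 S Z) : Set G)

/-- `F K`, `K = L ∩ S`. -/
def FK (S L F : Subgroup G) : Subgroup G := F ⊔ (L ⊓ S)

/-- `F K Q`. -/
def FKQ (S L F Q : Subgroup G) : Subgroup G := FK S L F ⊔ Q

/-- `N_L(FKQ)`. -/
def Lp (S L F Q : Subgroup G) : Subgroup G := L ⊓ normalizer (FKQ S L F Q : Set G)

theorem pow_mul_mem {L : Subgroup G} {q w : G} (hq : q ∈ normalizer (L : Set G)) (hw : w ∈ L) (n : ℕ) :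
    ∃ w' ∈ L, (q * w) ^ n = q ^ n * w' := by
  induction n with
  | zero => exact ⟨1, one_mem _, by simp⟩
  | succ n ih =>
    obtain ⟨w', hw', e⟩ := ih
    have h1 : q⁻¹ * w' * q ∈ L := by
      have := (mem_normalizer_iff.1 (inv_mem hq) w').1 hw'
      rwa [inv_inv] at this
    refine ⟨q⁻¹ * w' * q * w, mul_mem h1 hw, ?_⟩
    rw [pow_succ, e, pow_succ]
    group

section
variable {S : Sylow 2 G} {Q : Subgroup G} {ι : Type} {Z : ι → Subgroup G} {x z : ι → G} {L F : Subgroup G}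
variable [Finite G] [Finite ι] (D : Dat S Q Z x z) {o : ι} (h : Fn (S : Subgroup G) Z z o L F)

include D

theorem X_z_ne (l : ι) : D.X l • Md.mk (z l) (D.le l (D.zm l)) ≠ Md.mk (z l) (D.le l (D.zm l)) := by
  intro e
  set a : Md Q := Md.mk (z l) (D.le l (D.zm l)) with ha
  have h1 := D.X_three (l := l) (a := a) (D.zm l)
  rw [e, e, Md.two, zero_add] at h1
  exact D.z1 l (by simpa [ha] using congrArg Md.val h1)

include h

/-- `w ∈ L ∩ S` commutes with `x l`, `l ≠ o`, on `Ω₁Z(Q)`. -/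
theorem comm_x {w : G} (hw : w ∈ L) (hs : w ∈ (S : Subgroup G)) {l : ι} (hl : l ≠ o) :
    Md.cjE (D.SN hs) * D.X l = D.X l * Md.cjE (D.SN hs) := by
  set A : MulAut ↥(zc Q) := Md.cjE (D.SN hs) with hA
  have h1 : A * D.X l * A⁻¹ = D.X (D.sg w l) ∨ A * D.X l * A⁻¹ = (D.X (D.sg w l))⁻¹ := by
    have hval : ∀ a : Md Q, ((A * D.X l * A⁻¹) • a).val = (w * x l * w⁻¹) * a.val * (w * x l * w⁻¹)⁻¹ := by
      intro a
      have h0 : A • A⁻¹ • a = a := smul_inv_smul _ _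
      have h2 : (A⁻¹ • a).val = w⁻¹ * a.val * w := by
        have h3 : w * (A⁻¹ • a).val * w⁻¹ = a.val := congrArg Md.val h0
        rw [← h3]
        generalize (A⁻¹ • a).val = b
        group
      have h4 : ((A * D.X l * A⁻¹) • a).val = w * (x l * (A⁻¹ • a).val * (x l)⁻¹) * w⁻¹ := by
        rw [mul_smul, mul_smul]; rfl
      rw [h4, h2]
      group
    rcases (D.sg_spec hs l).2 with h | h
    · left
      apply Md.ext_smul
      intro a
      exact Md.ext (by rw [hval, h _ a.val_mem, Dat.val_X])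
    · right
      apply Md.ext_smul
      intro a
      apply Md.ext
      rw [hval, h _ a.val_mem]
      have h0 : D.X (D.sg w l) • (D.X (D.sg w l))⁻¹ • a = a := smul_inv_smul _ _
      have h3 : x (D.sg w l) * ((D.X (D.sg w l))⁻¹ • a).val * (x (D.sg w l))⁻¹ = a.val := congrArg Md.val h0
      rw [← h3]
      generalize ((D.X (D.sg w l))⁻¹ • a).val = b
      group
  have hcube : ∀ m, (D.X m) ^ 3 = 1 := fun m => Md.faith (fun a => by
    rw [pow_succ, pow_two, mul_smul, mul_smul]; exact D.X_cube m a)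
  have hC3 : ((D.X l)⁻¹ * (A * D.X l * A⁻¹)) ^ 3 = 1 := by
    rcases h1 with h | h
    · rw [h]
      have hc0 : Commute (D.X l) (D.X (D.sg w l)) := D.X_comm l _
      have hc : Commute (D.X l)⁻¹ (D.X (D.sg w l)) := hc0.inv_left
      rw [hc.mul_pow, inv_pow, hcube, hcube, inv_one, one_mul]
    · rw [h]
      have hc0 : Commute (D.X l) (D.X (D.sg w l)) := D.X_comm l _
      have hc : Commute (D.X l)⁻¹ (D.X (D.sg w l))⁻¹ := hc0.inv_left.inv_right
      rw [hc.mul_pow, inv_pow, inv_pow, hcube, hcube, inv_one, one_mul]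
  have hwl : (x l)⁻¹ * w * x l ∈ L := conj_mem' (h.nL (D.x_mem_C hl)) hw
  have hc : (x l)⁻¹ * w * x l * w⁻¹ ∈ L := mul_mem hwl (inv_mem hw)
  obtain ⟨n, hn⟩ := h.two _ hc
  have hcN : (x l)⁻¹ * w * x l * w⁻¹ ∈ normalizer (zc Q : Set G) :=
    mul_mem (mul_mem (mul_mem (inv_mem (D.xN l)) (D.SN hs)) (D.xN l)) (inv_mem (D.SN hs))
  have hCe : (D.X l)⁻¹ * (A * D.X l * A⁻¹) = Md.cjE hcN := by
    have e1 : (⟨(x l)⁻¹ * w * x l * w⁻¹, hcN⟩ : normalizer (zc Q : Set G)) =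
        (⟨x l, D.xN l⟩ : normalizer (zc Q : Set G))⁻¹ * (⟨w, D.SN hs⟩ * ⟨x l, D.xN l⟩ * ⟨w, D.SN hs⟩⁻¹) := by
      apply Subtype.ext
      simp [mul_assoc]
    have e2 := congrArg (zc Q).normalizerMonoidHom e1
    simp only [map_mul, map_inv] at e2
    exact e2.symm
  -- `C ^ 2 ^ n` fixes `z l`
  set a : Md Q := Md.mk (z l) (D.le l (D.zm l)) with ha
  set C : MulAut ↥(zc Q) := (D.X l)⁻¹ * (A * D.X l * A⁻¹) with hC
  have hCn : (C ^ 2 ^ n) • a = a := by
    have e0 : C ^ 2 ^ n = Md.cjE (pow_mem hcN (2 ^ n)) := by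
      rw [hCe]
      exact ((zc Q).normalizerMonoidHom.map_pow ⟨_, hcN⟩ _).symm
    rw [e0]
    refine Md.ext ?_
    rw [Md.val_cjE]
    have e1 := mem_centralizer_iff.1 (h.FE hn) _ (D.z_mem_E l)
    rw [mul_inv_eq_iff_eq_mul]
    exact e1.symm
  have hCa : C • a = a := by
    have e1 : C = (C ^ 2 ^ n) ^ 2 ^ n := by
      rw [← pow_mul, ← Nat.mul_pow]
      have e2 : (2 * 2) ^ n = 3 * (((2 * 2) ^ n - 1) / 3) + 1 := by
        have e3 : 3 ∣ (2 * 2) ^ n - 1 := by
          have := Nat.sub_dvd_pow_sub_pow 4 1 n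
          simpa using this
        have e4 : 0 < (2 * 2) ^ n := by positivity
        rw [Nat.mul_div_cancel' e3]
        omega
      rw [e2, pow_succ, pow_mul, hC3, one_pow, one_mul]
    have e3 : ∀ k : ℕ, ((C ^ 2 ^ n) ^ k) • a = a := by
      intro k
      induction k with
      | zero => rw [pow_zero, one_smul]
      | succ k ih => rw [pow_succ, mul_smul, hCn, ih]
    rw [e1]
    exact e3 _
  have hXa : (A * D.X l * A⁻¹) • a = D.X l • a := by
    rw [hC, mul_smul, inv_smul_eq_iff] at hCa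
    exact hCa
  have hne := X_z_ne D l
  rw [← ha] at hne
  have hAX : A * D.X l * A⁻¹ = D.X l := by
    rcases h1 with h1 | h1
    · rcases eq_or_ne (D.sg w l) l with h2 | h2
      · rw [h1, h2]
      · rw [h1, D.X_other (a := a) h2 (D.zm l)] at hXa
        exact absurd hXa.symm hne
    · rw [h1] at hXa
      exfalso
      rcases eq_or_ne (D.sg w l) l with h2 | h2
      · rw [h2, inv_smul_eq_iff] at hXa
        -- `a = X X a`
        have h3 := D.X_cube l a
        rw [← hXa] at h3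
        exact hne h3
      · have h3 : (D.X (D.sg w l))⁻¹ • a = a := by
          rw [inv_smul_eq_iff]
          exact (D.X_other (a := a) h2 (D.zm l)).symm
        rw [h3] at hXa
        exact hne hXa.symm
  rw [mul_inv_eq_iff_eq_mul] at hAX
  exact hAX

theorem comm_x' {w : G} (hw : w ∈ L) (hs : w ∈ (S : Subgroup G)) {l : ι} (hl : l ≠ o) {v : G}
    (hv : v ∈ zc Q) : w * (x l * v * (x l)⁻¹) * w⁻¹ = x l * (w * v * w⁻¹) * (x l)⁻¹ := by
  have h := comm_x D h hw hs hl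
  have h1 : (Md.cjE (D.SN hs) * D.X l) • Md.mk v hv = (D.X l * Md.cjE (D.SN hs)) • Md.mk v hv := by rw [h]
  rw [mul_smul, mul_smul] at h1
  exact congrArg Md.val h1

/-- `L ∩ S ≤ S⁰`. -/
theorem inf_le_S0 : L ⊓ (S : Subgroup G) ≤ S0 (S : Subgroup G) Z := by
  intro w hw
  rw [mem_inf] at hw
  rw [D.mem_S0_iff hw.2]
  intro l
  rcases eq_or_ne l o with rfl | hl
  · exact D.sg_of_z hw.2 (mem_cs.mp (h.LC hw.1))
  · refine D.sg_eq' hw.2 fun v hv => ?_
    have h1 := comm_x' D h hw.1 hw.2 hl (D.le l hv)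
    have h2 := comm_x' D h hw.1 hw.2 hl (conj_mem (D.xN l) (D.le l hv))
    have h3 : pr (x l) (w * v * w⁻¹) = w * pr (x l) v * w⁻¹ := by
      unfold pr
      rw [← h1, ← h2]; group
    rw [D.pr_self hv] at h3
    have h4 := D.pi_mem l (Md.mk (w * v * w⁻¹) (conj_mem (D.SN hw.2) (D.le l hv)))
    rw [D.val_pi, Md.val_mk, h3] at h4
    exact h4

omit [Finite ι] h in
theorem not_dvd_S0 : ¬ 2 ∣ (S0 (S : Subgroup G) Z).relIndex (centralizer (zc (S0 (S : Subgroup G) Z) : Set G)) := by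
  have h1 : centralizer (zc (S0 (S : Subgroup G) Z) : Set G) ≤
      normalizer (zc (S0 (S : Subgroup G) Z) : Set G) := centralizer_le_normalizer _
  have h2 : (S : Subgroup G) ≤ normalizer (centralizer (zc (S0 (S : Subgroup G) Z) : Set G) : Set G) := by
    intro g hg
    refine mem_norm fun c hc => ?_
    rw [mem_centralizer_iff]
    intro v hv
    have h3 := mem_centralizer_iff.mp hc _ (conj_mem' (D.S_le_nor_E hg) hv)
    calc v * (g * c * g⁻¹) = g * ((g⁻¹ * v * g) * c) * g⁻¹ := by group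
      _ = g * (c * (g⁻¹ * v * g)) * g⁻¹ := by rw [h3]
      _ = g * c * g⁻¹ * v := by group
  have h3 := odd_inf (P := (S : Subgroup G)) D.S_le_nor_E h1 h2
    (Cfsg.Agent.MinSimple.Basic.not_dvd_relIndex S D.S_le_nor_E)
  rwa [inf_comm, D.inf_cE] at h3

/-- `C_L(E) = F K`. -/
theorem cent_E : L ⊓ centralizer (zc (S0 (S : Subgroup G) Z) : Set G) ≤ FK (S : Subgroup G) L F := by
  have h1 : S0 (S : Subgroup G) Z ≤
      normalizer ((L ⊓ centralizer (zc (S0 (S : Subgroup G) Z) : Set G) : Subgroup G) : Set G) := by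
    intro s hs
    refine mem_norm fun w hw => ?_
    rw [mem_inf] at hw ⊢
    refine ⟨conj_mem (h.nL (D.S0_le_C hs)) hw.1, ?_⟩
    exact mul_mem (mul_mem (le_centralizer_zc _ hs) hw.2) (inv_mem (le_centralizer_zc _ hs))
  have h2 := le_sup_inf (P := S0 (S : Subgroup G) Z) (F := F) (le_centralizer_zc _) inf_le_right h1
    (not_dvd_S0 D) (le_inf h.FL h.FE) (inf_le_left.trans (h.LC.trans h.nF)) (fun m hm => h.two m (mem_inf.1 hm).1)
  exact h2.trans (sup_le_sup_left (le_inf (inf_le_left.trans inf_le_left) (inf_le_right.trans Dat.S0_le)) F)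

omit D [Finite G] [Finite ι] in
theorem FK_le : FK (S : Subgroup G) L F ≤ L := sup_le h.FL inf_le_left

omit h D [Finite G] [Finite ι] in
theorem F_le_FK : F ≤ FK (S : Subgroup G) L F := le_sup_left

omit h D [Finite G] [Finite ι] in
theorem K_le_FK : L ⊓ (S : Subgroup G) ≤ FK (S : Subgroup G) L F := le_sup_right

omit h D [Finite G] [Finite ι] in
theorem FK_le_FKQ : FK (S : Subgroup G) L F ≤ FKQ (S : Subgroup G) L F Q := le_sup_left

omit h D [Finite G] [Finite ι] in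
theorem Q_le_FKQ : Q ≤ FKQ (S : Subgroup G) L F Q := le_sup_right

omit h in
theorem ZK_le : zc (FKQ (S : Subgroup G) L F Q) ≤ zc Q := zc_le_of_le D.CQ Q_le_FKQ

omit h in
theorem mem_ZK {v : G} : v ∈ zc (FKQ (S : Subgroup G) L F Q) ↔
    v ∈ zc Q ∧ ∀ s ∈ FKQ (S : Subgroup G) L F Q, s * v = v * s :=
  mem_zc_iff_of_le D.CQ Q_le_FKQ

theorem E_le_ZK : zc (S0 (S : Subgroup G) Z) ≤ zc (FKQ (S : Subgroup G) L F Q) := by
  intro v hv
  rw [mem_ZK D]
  refine ⟨D.E_le hv, ?_⟩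
  have key : FKQ (S : Subgroup G) L F Q ≤ centralizer ({v} : Set G) := by
    refine sup_le (sup_le (fun f hf => ?_) fun k hk => ?_) fun q hq => ?_
    · exact mem_cs.2 (mem_centralizer_iff.1 (h.FE hf) v hv).symm
    · exact mem_cs.2 ((D.mem_E.1 hv).2 _ (inf_le_S0 D h hk))
    · exact mem_cs.2 ((D.mem_E.1 hv).2 _ (D.Q_le_S0 hq))
  exact fun s hs => mem_cs.1 (key hs)

/-- `x l` normalises `F K`. -/
theorem x_nor_FK {l : ι} (hl : l ≠ o) : x l ∈ normalizer (FK (S : Subgroup G) L F : Set G) := by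
  refine mem_norm fun k hk => ?_
  have key : FK (S : Subgroup G) L F ≤ (FK (S : Subgroup G) L F).comap (MulAut.conj (x l)).toMonoidHom := by
    refine sup_le (fun k hk => ?_) (fun w hw => ?_)
    · exact F_le_FK (conj_mem (h.nF (D.x_mem_C hl)) hk)
    · have hw' := mem_inf.1 hw
      have h1 : x l * w * (x l)⁻¹ ∈ L := conj_mem (h.nL (D.x_mem_C hl)) hw'.1
      have h2 : x l * w * (x l)⁻¹ * w⁻¹ ∈ L ⊓ centralizer (zc (S0 (S : Subgroup G) Z) : Set G) := by
        refine mem_inf.mpr ⟨mul_mem h1 (inv_mem hw'.1), ?_⟩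
        refine centralizer_le D.E_le ?_
        rw [mem_centralizer_iff]
        intro v hv
        have hv1 : (x l)⁻¹ * (w⁻¹ * v * w) * x l ∈ zc Q := conj_mem' (D.xN l) (conj_mem' (D.SN hw'.2) hv)
        have h3 := comm_x' D h hw'.1 hw'.2 hl hv1
        have h4 : x l * ((x l)⁻¹ * (w⁻¹ * v * w) * x l) * (x l)⁻¹ = w⁻¹ * v * w := by group
        rw [h4] at h3
        have h5 : v = x l * (w * ((x l)⁻¹ * (w⁻¹ * v * w) * x l) * w⁻¹) * (x l)⁻¹ := by
          rw [← h3]; group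
        have h6 : v = (x l * w * (x l)⁻¹ * w⁻¹) * v * (x l * w * (x l)⁻¹ * w⁻¹)⁻¹ := by
          calc v = x l * (w * ((x l)⁻¹ * (w⁻¹ * v * w) * x l) * w⁻¹) * (x l)⁻¹ := h5
            _ = _ := by group
        exact (mul_inv_eq_iff_eq_mul.mp h6.symm).symm
      have h3 := cent_E D h h2
      have h4 : x l * w * (x l)⁻¹ = (x l * w * (x l)⁻¹ * w⁻¹) * w := by group
      change x l * w * (x l)⁻¹ ∈ FK (S : Subgroup G) L F
      rw [h4]
      exact mul_mem h3 (K_le_FK hw)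
  exact key hk

theorem x_nor_FKQ {l : ι} (hl : l ≠ o) : x l ∈ normalizer (FKQ (S : Subgroup G) L F Q : Set G) := by
  refine mem_norm fun k hk => ?_
  have h1 := x_nor_FK D h hl
  have h2 := D.xQ l
  have key : FKQ (S : Subgroup G) L F Q ≤
      (FKQ (S : Subgroup G) L F Q).comap (MulAut.conj (x l)).toMonoidHom := by
    refine sup_le (fun k hk => ?_) (fun k hk => ?_)
    · exact FK_le_FKQ (conj_mem h1 hk)
    · exact Q_le_FKQ (conj_mem h2 hk)
  exact key hk

theorem S0_nor_FK : S0 (S : Subgroup G) Z ≤ normalizer (FK (S : Subgroup G) L F : Set G) := by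
  intro s hs
  refine mem_norm fun k hk => ?_
  have key : FK (S : Subgroup G) L F ≤ (FK (S : Subgroup G) L F).comap (MulAut.conj s).toMonoidHom := by
    refine sup_le (fun k hk => ?_) (fun k hk => ?_)
    · exact F_le_FK (conj_mem (h.nF (D.S0_le_C hs)) hk)
    · rw [mem_inf] at hk
      exact K_le_FK (mem_inf.mpr ⟨conj_mem (h.nL (D.S0_le_C hs)) hk.1,
        mul_mem (mul_mem (Dat.S0_le hs) hk.2) (inv_mem (Dat.S0_le hs))⟩)
  exact key hk

theorem S0_nor_FKQ : S0 (S : Subgroup G) Z ≤ normalizer (FKQ (S : Subgroup G) L F Q : Set G) := by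
  intro s hs
  refine mem_norm fun k hk => ?_
  have key : FKQ (S : Subgroup G) L F Q ≤ (FKQ (S : Subgroup G) L F Q).comap (MulAut.conj s).toMonoidHom := by
    refine sup_le (fun k hk => ?_) (fun k hk => ?_)
    · exact FK_le_FKQ (conj_mem (S0_nor_FK D h hs) hk)
    · exact Q_le_FKQ (conj_mem (D.SQ (Dat.S0_le hs)) hk)
  exact key hk

theorem x_nor_ZK {l : ι} (hl : l ≠ o) : x l ∈ normalizer (zc (FKQ (S : Subgroup G) L F Q) : Set G) :=
  normalizer_le_normalizer_zc _ (x_nor_FKQ D h hl)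

theorem S0_nor_ZK : S0 (S : Subgroup G) Z ≤ normalizer (zc (FKQ (S : Subgroup G) L F Q) : Set G) :=
  fun _ hs => normalizer_le_normalizer_zc _ (S0_nor_FKQ D h hs)

theorem pr_ZK (l : ι) : ∀ v ∈ zc (FKQ (S : Subgroup G) L F Q), pr (x l) v ∈ zc (FKQ (S : Subgroup G) L F Q) := by
  classical
  have := Fintype.ofFinite ι
  have key : ∀ l, l ≠ o → ∀ v ∈ zc (FKQ (S : Subgroup G) L F Q), pr (x l) v ∈ zc (FKQ (S : Subgroup G) L F Q) :=
    fun l hl v hv => pr_mem (x_nor_ZK D h hl) hv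
  rcases eq_or_ne l o with rfl | hl
  · intro v hv
    let A : AddSubgroup (Md Q) :=
      { carrier := {a | a.val ∈ zc (FKQ (S : Subgroup G) L F Q)}
        zero_mem' := by
          change (0 : Md Q).val ∈ zc (FKQ (S : Subgroup G) L F Q)
          rw [Md.val_zero]
          exact one_mem _
        add_mem' := fun {a b} ha hb => by
          change (a + b).val ∈ zc (FKQ (S : Subgroup G) L F Q)
          rw [Md.val_add]
          exact mul_mem ha hb
        neg_mem' := fun {a} ha => by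
          change (-a).val ∈ zc (FKQ (S : Subgroup G) L F Q)
          rw [Md.neg_eq]
          exact ha }
    set a : Md Q := Md.mk v (ZK_le D hv) with ha
    have h1 : D.pi l a = a - ∑ m ∈ Finset.univ.erase l, D.pi m a := by
      rw [eq_sub_iff_add_eq]
      exact (Finset.add_sum_erase Finset.univ (fun m => D.pi m a) (Finset.mem_univ l)).trans (D.pi_sum a)
    have h2 : D.pi l a ∈ A := by
      rw [h1]
      refine sub_mem (show a ∈ A from hv) (sum_mem fun m hm => ?_)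
      exact key m (Finset.ne_of_mem_erase hm) v hv
    exact h2
  · exact key l hl

omit D h [Finite G] [Finite ι] in
theorem Lp_le : Lp (S : Subgroup G) L F Q ≤ L := inf_le_left

omit D h [Finite G] [Finite ι] in
theorem Lp_nor_ZK : Lp (S : Subgroup G) L F Q ≤ normalizer (zc (FKQ (S : Subgroup G) L F Q) : Set G) :=
  fun _ hs => normalizer_le_normalizer_zc _ hs.2

theorem x_conj_Lp {l : ι} (hl : l ≠ o) {w : G} (hw : w ∈ Lp (S : Subgroup G) L F Q) :
    x l * w * (x l)⁻¹ ∈ Lp (S : Subgroup G) L F Q :=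
  mem_inf.mpr ⟨conj_mem (h.nL (D.x_mem_C hl)) (mem_inf.mp hw).1,
    mul_mem (mul_mem (x_nor_FKQ D h hl) (mem_inf.mp hw).2) (inv_mem (x_nor_FKQ D h hl))⟩

theorem S0_conj_Lp {s : G} (hs : s ∈ S0 (S : Subgroup G) Z) {w : G} (hw : w ∈ Lp (S : Subgroup G) L F Q) :
    s * w * s⁻¹ ∈ Lp (S : Subgroup G) L F Q :=
  mem_inf.mpr ⟨conj_mem (h.nL (D.S0_le_C hs)) (mem_inf.mp hw).1,
    mul_mem (mul_mem (S0_nor_FKQ D h hs) (mem_inf.mp hw).2) (inv_mem (S0_nor_FKQ D h hs))⟩

/-- `N_L(FKQ) > FK` if `L` is not contained in `F S`. -/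
theorem exists_Lp (hL : ¬ L ≤ FK (S : Subgroup G) L F) :
    ∃ w ∈ Lp (S : Subgroup G) L F Q, w ∉ FK (S : Subgroup G) L F := by
  have hQC : Q ≤ centralizer ({z o} : Set G) := D.Q_le_C
  have hQn : Q ≤ normalizer (L : Set G) := hQC.trans h.nL
  have hQF : Q ≤ normalizer (F : Set G) := hQC.trans h.nF
  have hFR : F ≤ FKQ (S : Subgroup G) L F Q := F_le_FK.trans FK_le_FKQ
  have hRY : FKQ (S : Subgroup G) L F Q ≤ Q ⊔ L := sup_le ((FK_le h).trans le_sup_right) le_sup_left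
  have hYC : Q ⊔ L ≤ centralizer ({z o} : Set G) := sup_le hQC h.LC
  have hcoe : ∀ {y : G}, y ∈ Q ⊔ L → ∃ q ∈ Q, ∃ w ∈ L, q * w = y := by
    intro y hy
    have h1 : y ∈ (Q : Set G) * (L : Set G) := by
      rw [← coe_mul_of_left_le_normalizer_right Q L hQn]
      exact hy
    exact Set.mem_mul.1 h1
  have hne : ¬ Q ⊔ L ≤ FKQ (S : Subgroup G) L F Q := by
    intro hle
    refine hL fun w hw => ?_
    have h1 : w ∈ FKQ (S : Subgroup G) L F Q := hle (le_sup_right (α := Subgroup G) hw)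
    have h2 : FKQ (S : Subgroup G) L F Q = F ⊔ ((L ⊓ (S : Subgroup G)) ⊔ Q) := by
      rw [FKQ, FK, sup_assoc]
    rw [h2] at h1
    have hKC : (L ⊓ (S : Subgroup G)) ⊔ Q ≤ normalizer (F : Set G) :=
      sup_le ((inf_le_left.trans h.LC).trans h.nF) hQF
    have h3 : w ∈ (((L ⊓ (S : Subgroup G)) ⊔ Q : Subgroup G) : Set G) * (F : Set G) := by
      rw [← coe_mul_of_left_le_normalizer_right _ F hKC, sup_comm]
      exact h1
    obtain ⟨s, hs, f, hf, rfl⟩ := Set.mem_mul.1 h3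
    have hsS : s ∈ (S : Subgroup G) := (sup_le inf_le_right D.QS : (L ⊓ (S : Subgroup G)) ⊔ Q ≤ S) hs
    have hsL : s ∈ L := by
      have := mul_mem hw (inv_mem (h.FL hf))
      rwa [mul_inv_cancel_right] at this
    exact mul_mem (K_le_FK (mem_inf.2 ⟨hsL, hsS⟩)) (F_le_FK hf)
  have hY2 : ∀ y ∈ Q ⊔ L, ∃ n : ℕ, y ^ 2 ^ n ∈ F := by
    intro y hy
    obtain ⟨q, hq, w, hw, rfl⟩ := hcoe hy
    obtain ⟨a, ha⟩ := (S.2.to_le D.QS : IsPGroup 2 Q) ⟨q, hq⟩
    have ha' : q ^ 2 ^ a = 1 := congrArg Subtype.val ha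
    obtain ⟨w', hw', e⟩ := pow_mul_mem (hQn hq) hw (2 ^ a)
    rw [ha', one_mul] at e
    obtain ⟨b, hb⟩ := h.two w' hw'
    refine ⟨a + b, ?_⟩
    rw [pow_add, pow_mul, e]
    exact hb
  obtain ⟨n, hn, hn1, hn2⟩ := Red.exists_normalizer hFR hRY hne (hYC.trans h.nF) hY2
  obtain ⟨q, hq, w, hw, rfl⟩ := hcoe hn
  have hq1 : q ∈ FKQ (S : Subgroup G) L F Q := Q_le_FKQ hq
  have hw2 : w ∈ normalizer (FKQ (S : Subgroup G) L F Q : Set G) := by
    have := mul_mem (inv_mem (le_normalizer hq1)) hn2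
    simpa using this
  refine ⟨w, mem_inf.2 ⟨hw, hw2⟩, fun hwK => hn1 ?_⟩
  exact mul_mem hq1 (FK_le_FKQ hwK)

/-- `C_{N_L(FKQ)}(ZK) ≤ FK`. -/
theorem Lp_faith {w : G} (hw : w ∈ L) (hc : w ∈ centralizer (zc (FKQ (S : Subgroup G) L F Q) : Set G)) :
    w ∈ FK (S : Subgroup G) L F :=
  cent_E D h (mem_inf.2 ⟨hw, centralizer_le (E_le_ZK D h) hc⟩)

omit h D [Finite G] [Finite ι] in
theorem FK_le_C : FK (S : Subgroup G) L F ≤ centralizer (zc (FKQ (S : Subgroup G) L F Q) : Set G) :=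
  FK_le_FKQ.trans (le_centralizer_zc _)

end

end Cfsg.Agent.Omega.IId.Big.Red
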