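import Cfsg.Agent.Omega.IId.Big.Of
import Cfsg.Agent.Omega.IId.Big.RedFr

/-!
# (1) and (RED) of bb OMEGA 17245 for the natural factors

`M : NatK F S P (zl S P) ⊥ k`, `|F| = 2`, `CC M` (THEOREM C), some `KK v₀` moves the factor of `v₀`, `k ≥ 2`.

* `exists_rd` : the data `Rd D (fac M)`;
* `red_of` : **(RED)** : `C(v)/C_{C(v)}(U_v)` has no nontrivial normal 2-subgroup, `1 ≠ v ∈ fac M i`.
-/

set_option autoImplicit false
set_option linter.unusedSectionVars false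

namespace Cfsg.Agent.Omega.IId.Big

open Subgroup Pointwise Cfsg Cfsg.Agent.ZN Cfsg.Agent.ZN.ChoiceBase
open Cfsg.Agent.MinSimple.VModule hiding le_normalizer_zl
open Cfsg.Agent.Omega.MinPar Cfsg.Agent.Omega.FFThm Cfsg.Agent.Omega.FrameMulti
open Triangle (KK KK_conj KK_le_o2 mem_cent mem_KK mem_zpowers_iff_of_sq cent_conj o2_cent_conj)
open Supply
open Cfsg.Agent.Omega.ThmC (Dat S0)
open Cfsg.Agent.Omega.ThmC.TwoOf (exists_blk centralizer_o2_le)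
open Cfsg.Agent.Omega.IITwo.Three (Blk)

universe u

variable {G : Type u} [Group G] [Finite G] {F : Type} [Field F] [Finite F] [CharP F 2] {S : Sylow 2 G}
  {P : Subgroup G} {k : ℕ} {M : NatK F (S : Subgroup G) P (zl (S : Subgroup G) P) ⊥ k}

/-- `B.zl i ∈ line M i` -/
theorem zl_mem_line (hP : IsParS (S : Subgroup G) P) {x : Fin k → G} {z : G}
    (B : Blk (S : Subgroup G) P (ZN.o2 P) (fac M) x z) (i : Fin k) : B.zl i ∈ line M i := by
  rw [mem_line]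
  refine ⟨B.zl_mem_V i, ?_⟩
  obtain ⟨t, ht, h2⟩ := M.unip fun _ => 1
  have htn : t ∈ normalizer (fac M i : Set G) :=
    grp_normalizes M Set.univ {i} ⟨hP.le ht, _, h2, fun j hj => (hj (Set.mem_univ j)).elim⟩
  have h3 : t * B.zl i * t⁻¹ = B.zl i := by rw [B.zl_cent ht htn]; group
  have h4 := h2.1 _ (B.zl_mem_V i).1 i
  rw [h3] at h4
  have h5 := congrFun h4 0
  rw [NatPair.ap_zero'] at h5
  simpa using h5

/-- **The data.** -/
theorem exists_rd (hc : IsCharacteristicTwoType G) (hP : IsParS (S : Subgroup G) P) (hC : CC M)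
    (hF : Nat.card F = 2) (hZ : zc (S : Subgroup G) ≤ zl (S : Subgroup G) P) {i₀ : Fin k} {v₀ : G}
    (hv₀ : v₀ ∈ fac M i₀) (hv₀1 : v₀ ≠ 1)
    (hmv : ∃ x ∈ fac M i₀, ∃ g ∈ KK v₀, g * x ≠ x * g) :
    ∃ (Z : Fin k → Subgroup G) (x z : Fin k → G) (D : Dat S (ZN.o2 P) Z x z), Rd D (fac M) ∧
      ∀ l, z l ∈ line M l := by
  obtain ⟨x, z, B, hx⟩ := exists_blk hF hc hP M i₀.pos
  have hSyl := MinSimple.Basic.not_dvd_relIndex S hP.le
  have hcP := IsLoc.char2 S hc hP.isLoc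
  have hVA : zl (S : Subgroup G) P ≤ zc (ZN.o2 P) := zl_le_zc hP.le S.isPGroup' hSyl hcP
  have hSC : (S : Subgroup G) ⊓ centralizer (zc (ZN.o2 P) : Set G) ≤ ZN.o2 P :=
    (inf_le_inf_left _ (centralizer_le hVA)).trans
      (inf_centralizer_zl hP.toIsMinPar S.isPGroup' hSyl hcP hP.not_zc).le
  refine ⟨B.ML, x, B.zl, B.dat hSC (centralizer_o2_le hc S hP), ?_, zl_mem_line hP B⟩
  refine
    { fr := fr_of hc hP hC hF hZ hv₀ hv₀1 hmv
      zV := B.zl_mem_V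
      xV := fun l v hv => (mem_normalizer_iff.1 (B.xn l) v).1 hv
      VZ := B.V_le_ML
      qS := ?_ }
  intro l q hq
  obtain ⟨h1, h2⟩ := o2_le_stab hP hC hF (zl_mem_line hP B l) (B.zl_ne_one l)
  have hqS : q ∈ (S : Subgroup G) := (h1.trans (stab_le M l)) hq
  rw [ThmC.mem_S0]
  refine ⟨hqS, fun m => IITwo.Count.mem_norm fun v hv => ?_⟩
  exact B.conj_ML (B.SP hqS) (Blk.map_of_mem_norm (h2 m hq)) hv

/-- **(RED).** -/
theorem red_of (hc : IsCharacteristicTwoType G) (hP : IsParS (S : Subgroup G) P) (hC : CC M)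
    (hF : Nat.card F = 2) (hZ : zc (S : Subgroup G) ≤ zl (S : Subgroup G) P) {i₀ : Fin k} {v₀ : G}
    (hv₀ : v₀ ∈ fac M i₀) (hv₀1 : v₀ ≠ 1)
    (hmv : ∃ x ∈ fac M i₀, ∃ g ∈ KK v₀, g * x ≠ x * g) (hk : 2 ≤ k) {i : Fin k} {v : G} (hv : v ∈ fac M i)
    (hv1 : v ≠ 1) : RedAt (fac M) i v := by
  obtain ⟨Z, x, z, D, R, -⟩ := exists_rd hc hP hC hF hZ hv₀ hv₀1 hmv
  have hι : ∀ i : Fin k, ∃ j, j ≠ i := by
    have : Nontrivial (Fin k) := Fin.nontrivial_iff_two_le.2 hk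
    exact fun i => exists_ne i
  exact R.red hι hv hv1

end Cfsg.Agent.Omega.IId.Big
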