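import Cfsg.Agent.Omega.IId.Big.RedK
import Cfsg.Agent.Omega.ThmC.TwoOut

/-!
# (RED) (bb OMEGA 17245 (2)): THEOREM C, `q = 2`, for a functor: the weights (generalisation of helper732's `ThmC/TwoStep`)
-/

set_option autoImplicit false
set_option linter.unusedSectionVars false

namespace Cfsg.Agent.Omega.IId.Big.Red

open scoped Pointwise
open Subgroup Cfsg Cfsg.Agent.MinSimple.VModule Cfsg.Agent.Omega.ThmC
open Cfsg.Agent.ZN (zc o2)
open Cfsg.Agent.Omega.IITwo.Count (conj_mem conj_mem' mem_norm)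

universe u

variable {G : Type u} [Group G]

theorem img_isPGroup' {X Y F : Subgroup G} (hF : F ≤ centralizer (zc X : Set G))
    (h2 : ∀ y ∈ Y, ∃ n : ℕ, y ^ 2 ^ n ∈ F) : IsPGroup 2 (img X Y) := by
  rintro ⟨n, hn⟩
  obtain ⟨g, hg, hgY, rfl⟩ := mem_img.mp hn
  obtain ⟨k, hk⟩ := h2 g hgY
  refine ⟨k, Subtype.ext ?_⟩
  change (phi hg) ^ 2 ^ k = 1
  rw [pow_phi, phi_eq_one_iff]
  exact hF hk

theorem exists_conj_in [Finite G] {M P Y : Subgroup G} (hP : IsPGroup 2 P) (hind : ¬ 2 ∣ P.relIndex M)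
    (hY : IsPGroup 2 Y) (YM : Y ≤ M) : ∃ m ∈ M, ∀ y ∈ Y, m * y * m⁻¹ ∈ P := by
  have : Fact (Nat.Prime 2) := ⟨Nat.prime_two⟩
  have h1 : IsPGroup 2 (P.subgroupOf M) := hP.comap_of_injective M.subtype M.subtype_injective
  let P' : Sylow 2 M := h1.toSylow (by exact hind)
  obtain ⟨m, hm⟩ := TwoN.exists_conj P' (hY.comap_of_injective M.subtype M.subtype_injective)
  refine ⟨m, m.2, fun y hy => ?_⟩
  have h2 := hm ⟨y, YM hy⟩ hy
  exact mem_subgroupOf.1 h2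

section
variable {S : Sylow 2 G} {Q : Subgroup G} {ι : Type} {Z : ι → Subgroup G} {x z : ι → G} {L F : Subgroup G}
variable [Finite G] [Finite ι] (D : Dat S Q Z x z) {o : ι} (h : Fn (S : Subgroup G) Z z o L F)

open Classical in
/-- `x l` on `Ω₁Z(FKQ)`. -/
noncomputable def xh (l : ι) : ↥(NG (FKQ (S : Subgroup G) L F Q)) :=
  if hl : l ≠ o then phi (x_nor_ZK D h hl) else 1

theorem xh_eq {l : ι} (hl : l ≠ o) : xh D h l = phi (x_nor_ZK D h hl) := dif_pos hl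

/-- the projections on `Ω₁Z(FKQ)`. -/
abbrev pK (l : ι) : Md (FKQ (S : Subgroup G) L F Q) →+ Md (FKQ (S : Subgroup G) L F Q) :=
  D.pX (ZK_le D) (pr_ZK D h) l

theorem Ux {u : ↥(NG (FKQ (S : Subgroup G) L F Q))}
    (hu : u ∈ img (FKQ (S : Subgroup G) L F Q) (S0 (S : Subgroup G) Z)) {l : ι}
    (hl : l ≠ o) : u * xh D h l * u⁻¹ = xh D h l ∨ u * xh D h l * u⁻¹ = (xh D h l)⁻¹ := by
  obtain ⟨s, hsN, hs, rfl⟩ := mem_img.mp hu
  rw [xh_eq D h hl, phi_mul, phi_inv, phi_mul, phi_inv, phi_eq_iff, phi_eq_iff]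
  have h1 := (D.sg_spec (Dat.S0_le hs) l).2
  rw [(D.mem_S0_iff (Dat.S0_le hs)).mp hs l] at h1
  rcases h1 with h1 | h1
  · exact Or.inl fun v hv => h1 v (ZK_le D hv)
  · exact Or.inr fun v hv => by rw [inv_inv]; exact h1 v (ZK_le D hv)

/-- the elements of the image of `Lp` commuting with all `x l`, `l ≠ o`. -/
def CX : Subgroup ↥(NG (FKQ (S : Subgroup G) L F Q)) where
  carrier := {g | g ∈ img (FKQ (S : Subgroup G) L F Q) (Lp (S : Subgroup G) L F Q) ∧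
    ∀ l, l ≠ o → Commute g (xh D h l)}
  one_mem' := ⟨one_mem _, fun _ _ => Commute.one_left _⟩
  mul_mem' := fun ha hb => ⟨mul_mem ha.1 hb.1, fun l hl => (ha.2 l hl).mul_left (hb.2 l hl)⟩
  inv_mem' := fun ha => ⟨inv_mem ha.1, fun l hl => (ha.2 l hl).inv_left⟩

theorem mem_CX {g : ↥(NG (FKQ (S : Subgroup G) L F Q))} : g ∈ CX D h ↔
    g ∈ img (FKQ (S : Subgroup G) L F Q) (Lp (S : Subgroup G) L F Q) ∧ ∀ l, l ≠ o → Commute g (xh D h l) := Iff.rfl

include D h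

theorem H2 : IsPGroup 2 (img (FKQ (S : Subgroup G) L F Q) (Lp (S : Subgroup G) L F Q)) :=
  img_isPGroup' (F := F) (F_le_FK.trans FK_le_C) fun y hy => h.two y (Lp_le hy)

omit h in
theorem U2 : IsPGroup 2 (img (FKQ (S : Subgroup G) L F Q) (S0 (S : Subgroup G) Z)) :=
  img_isPGroup (S.2.to_le Dat.S0_le)

theorem UH {u : ↥(NG (FKQ (S : Subgroup G) L F Q))}
    (hu : u ∈ img (FKQ (S : Subgroup G) L F Q) (S0 (S : Subgroup G) Z)) {g : ↥(NG (FKQ (S : Subgroup G) L F Q))}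
    (hg : g ∈ img (FKQ (S : Subgroup G) L F Q) (Lp (S : Subgroup G) L F Q)) :
    u * g * u⁻¹ ∈ img (FKQ (S : Subgroup G) L F Q) (Lp (S : Subgroup G) L F Q) := by
  obtain ⟨w, hwN, hw, rfl⟩ := mem_img.mp hg
  obtain ⟨s, hsN, hs, rfl⟩ := mem_img.mp hu
  rw [phi_mul, phi_inv, phi_mul]
  exact phi_mem_img _ (S0_conj_Lp D h hs hw)

/-- a lift of an element of the image of `Lp` commuting with `S⁰` normalises `E`. -/
theorem nor_E_of {w : G} (hw : w ∈ Lp (S : Subgroup G) L F Q)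
    (hc : ∀ u : ↥(NG (FKQ (S : Subgroup G) L F Q)), u ∈ img (FKQ (S : Subgroup G) L F Q) (S0 (S : Subgroup G) Z) →
      u * phi (Lp_nor_ZK hw) * u⁻¹ = phi (Lp_nor_ZK hw)) :
    w ∈ normalizer (zc (S0 (S : Subgroup G) Z) : Set G) := by
  refine mem_norm fun v hv => ?_
  have hvK := E_le_ZK D h hv
  have h1 : w * v * w⁻¹ ∈ zc (FKQ (S : Subgroup G) L F Q) := conj_mem (Lp_nor_ZK hw) hvK
  rw [D.mem_E]
  refine ⟨ZK_le D h1, fun s hs => ?_⟩
  have hsN := S0_nor_ZK D h hs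
  have h2 := hc _ (phi_mem_img hsN hs)
  rw [mul_inv_eq_iff_eq_mul, phi_mul, phi_mul, phi_eq_iff] at h2
  have h3 := h2 v hvK
  have h4 : s * v * s⁻¹ = v := by rw [(D.mem_E.1 hv).2 s hs]; group
  have h5 : s * (w * v * w⁻¹) * s⁻¹ = w * v * w⁻¹ := by
    calc s * (w * v * w⁻¹) * s⁻¹ = s * w * v * (s * w)⁻¹ := by group
      _ = w * s * v * (w * s)⁻¹ := h3
      _ = w * (s * v * s⁻¹) * w⁻¹ := by group
      _ = _ := by rw [h4]
  exact mul_inv_eq_iff_eq_mul.mp h5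

theorem CX_bot : CX D h = ⊥ := by
  classical
  have := Fintype.ofFinite ι
  by_contra hne
  have hU : img (FKQ (S : Subgroup G) L F Q) (S0 (S : Subgroup G) Z) ≤
      normalizer (CX D h : Set ↥(NG (FKQ (S : Subgroup G) L F Q))) := by
    intro u hu
    refine mem_norm fun c hc => ?_
    refine ⟨UH D h hu hc.1, fun l hl => ?_⟩
    have h2 : Commute c (u⁻¹ * xh D h l * u⁻¹⁻¹) := by
      rcases Ux D h (inv_mem hu) hl with h1 | h1
      · rw [h1]; exact hc.2 l hl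
      · rw [h1]; exact (hc.2 l hl).inv_right
    have h3 := (Commute.conj_iff u).mpr h2
    have h4 : u * (u⁻¹ * xh D h l * u⁻¹⁻¹) * u⁻¹ = xh D h l := by group
    rw [h4] at h3
    exact h3
  obtain ⟨c, hc, hc1, hcU⟩ := Half.exists_fixed (V := CX D h) ((H2 D h).to_le fun g hg => hg.1) hne (U2 D) hU
  obtain ⟨hcH, hcx⟩ := hc
  obtain ⟨w, hwK, hw, rfl⟩ := mem_img.mp hcH
  have hwE : w ∈ normalizer (zc (S0 (S : Subgroup G) Z) : Set G) := nor_E_of D h hw hcU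
  apply hc1
  rw [phi_eq_one_iff]
  refine FK_le_C (cent_E D h (mem_inf.2 ⟨Lp_le hw, ?_⟩))
  rw [← phi_eq_one_iff hwE]
  have hcomm : ∀ l, l ≠ o → ∀ v ∈ zc (FKQ (S : Subgroup G) L F Q), w * pr (x l) v * w⁻¹ = pr (x l) (w * v * w⁻¹) := by
    intro l hl v hv
    have h1 : ∀ v ∈ zc (FKQ (S : Subgroup G) L F Q), w * (x l * v * (x l)⁻¹) * w⁻¹ = x l * (w * v * w⁻¹) * (x l)⁻¹ := by
      have h2 := (hcx l hl).eq
      rw [xh_eq D h hl, phi_mul, phi_mul, phi_eq_iff] at h2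
      intro v hv
      calc w * (x l * v * (x l)⁻¹) * w⁻¹ = w * x l * v * (w * x l)⁻¹ := by group
        _ = _ := h2 v hv
        _ = _ := by group
    have h2 := h1 v hv
    have h3 := h1 _ (conj_mem (x_nor_ZK D h hl) hv)
    unfold pr
    rw [← h2, ← h3]; group
  obtain ⟨n, hn⟩ := h.two w (Lp_le hw)
  refine TwoN.eq_one D.ndat ⟨n, ?_⟩ ?_
  · rw [pow_phi, phi_eq_one_iff]; exact h.FE hn
  · have hl0 : ∀ l, l ≠ o → ∀ a, phi hwE • D.pE l a = D.pE l (phi hwE • a) := by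
      intro l hl a
      apply Md.ext
      rw [val_phi, Dat.val_pX, Dat.val_pX, val_phi]
      exact hcomm l hl _ (E_le_ZK D h a.val_mem)
    intro l a
    rcases eq_or_ne l o with rfl | hl
    · have h1 := D.pX_sum (hX := D.E_le) (h := D.pr_E) a
      have h2 := D.pX_sum (hX := D.E_le) (h := D.pr_E) (phi hwE • a)
      rw [← Finset.add_sum_erase _ _ (Finset.mem_univ l)] at h1 h2
      have h3 := congrArg (fun b => phi hwE • b) h1
      simp only [smul_add, Finset.smul_sum] at h3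
      have h4 : ∑ m ∈ Finset.univ.erase l, phi hwE • D.pE m a = ∑ m ∈ Finset.univ.erase l, D.pE m (phi hwE • a) :=
        Finset.sum_congr rfl fun m hm => hl0 m (Finset.ne_of_mem_erase hm) a
      rw [h4] at h3
      exact add_right_cancel (h3.trans h2.symm)
    · exact hl0 l hl a

theorem wdat [Fintype ι] : TwoW.WDat o (pK D h) (xh D h)
    (img (FKQ (S : Subgroup G) L F Q) (Lp (S : Subgroup G) L F Q))
    (img (FKQ (S : Subgroup G) L F Q) (S0 (S : Subgroup G) Z)) where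
  two := Md.two
  faith _ h := NG_faith h
  idem l a := D.pX_idem l a
  orth l m h a := D.pX_orth h a
  sum a := D.pX_sum a
  px := by
    intro l hl a
    rw [xh_eq D h hl]
    exact Md.ext rfl
  xt := by
    intro l hl m hm a
    rw [xh_eq D h hl]
    apply Md.ext
    rw [val_phi]
    exact D.triv l m hm.symm _ (D.pX_mem m a)
  H2 := H2 D h
  U2 := U2 D
  xH := by
    intro l hl g hh
    obtain ⟨w, hwN, hw, rfl⟩ := mem_img.mp hh
    rw [xh_eq D h hl, phi_mul, phi_inv, phi_mul]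
    exact phi_mem_img _ (x_conj_Lp D h hl hw)
  UH := fun u hu g hg => UH D h hu hg
  Ux := fun u hu l hl => Ux D h hu hl
  Uπ := by
    intro u hu l a
    obtain ⟨s, hsN, hs, rfl⟩ := mem_img.mp hu
    apply Md.ext
    rw [val_phi, Dat.val_pX, Dat.val_pX, val_phi]
    exact D.pr_comm_S0 hs l (ZK_le D a.val_mem)
  CH := by
    intro g hg hc
    have h1 : g ∈ CX D h := ⟨hg, fun l hl => hc l hl⟩
    rw [CX_bot D h] at h1
    exact h1

/-- an element of `Lp` commuting with `S⁰` on `Ω₁Z(FKQ)` acts as an element of `L ∩ N(S⁰)`. -/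
theorem nor_S0_of {w : G} (hw : w ∈ Lp (S : Subgroup G) L F Q)
    (hc : ∀ u : ↥(NG (FKQ (S : Subgroup G) L F Q)), u ∈ img (FKQ (S : Subgroup G) L F Q) (S0 (S : Subgroup G) Z) →
      u * phi (Lp_nor_ZK hw) * u⁻¹ = phi (Lp_nor_ZK hw)) :
    ∃ (w' : G) (hw' : w' ∈ Lp (S : Subgroup G) L F Q), w' ∈ normalizer (S0 (S : Subgroup G) Z : Set G) ∧
      phi (Lp_nor_ZK hw') = phi (Lp_nor_ZK hw) := by
  have hL := Lp_le hw
  have hwF : w ∈ normalizer (F : Set G) := h.nF (h.LC hL)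
  have hSF : S0 (S : Subgroup G) Z ≤ normalizer (F : Set G) := D.S0_le_C.trans h.nF
  have hK : FK (S : Subgroup G) L F ≤ S0 (S : Subgroup G) Z ⊔ F :=
    sup_le le_sup_right ((inf_le_S0 D h).trans le_sup_left)
  have hS : ∀ s ∈ S0 (S : Subgroup G) Z, w * s * w⁻¹ ∈ S0 (S : Subgroup G) Z ⊔ F := by
    intro s hs
    have hsN := S0_nor_ZK D h hs
    have h1 := hc _ (phi_mem_img hsN hs)
    have h2 : w * s * w⁻¹ * s⁻¹ ∈ Lp (S : Subgroup G) L F Q := by
      have := mul_mem hw (S0_conj_Lp D h hs (inv_mem hw))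
      have e : w * (s * w⁻¹ * s⁻¹) = w * s * w⁻¹ * s⁻¹ := by group
      rwa [e] at this
    have h3 : w * s * w⁻¹ * s⁻¹ ∈ centralizer (zc (FKQ (S : Subgroup G) L F Q) : Set G) := by
      rw [← phi_eq_one_iff (Lp_nor_ZK h2)]
      have h4 : phi (Lp_nor_ZK h2) = phi (Lp_nor_ZK hw) * (phi hsN * phi (Lp_nor_ZK hw) * (phi hsN)⁻¹)⁻¹ := by
        rw [phi_mul, phi_inv, phi_mul, phi_inv, phi_mul]
        rw [phi_eq_iff]
        intro v _
        group
      rw [h4, h1, mul_inv_cancel]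
    have h5 := hK (Lp_faith D h (Lp_le h2) h3)
    have h6 : w * s * w⁻¹ = (w * s * w⁻¹ * s⁻¹) * s := by group
    rw [h6]
    exact mul_mem h5 (le_sup_left (α := Subgroup G) hs)
  have hME : S0 (S : Subgroup G) Z ⊔ F ≤ centralizer (zc (S0 (S : Subgroup G) Z) : Set G) :=
    sup_le (le_centralizer_zc _) h.FE
  have hind : ¬ 2 ∣ (S0 (S : Subgroup G) Z).relIndex (S0 (S : Subgroup G) Z ⊔ F) := fun h2 =>
    not_dvd_S0 D (h2.trans (Dvd.intro _ (relIndex_mul_relIndex _ _ _ le_sup_left hME)))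
  obtain ⟨m, hm, hm2⟩ := exists_conj_in (S.2.to_le Dat.S0_le : IsPGroup 2 ↥(S0 (S : Subgroup G) Z)) hind
    (Y := (S0 (S : Subgroup G) Z).map (MulAut.conj w).toMonoidHom)
    ((S.2.to_le Dat.S0_le : IsPGroup 2 ↥(S0 (S : Subgroup G) Z)).map _) (by
      rintro _ ⟨s, hs, rfl⟩
      exact hS s hs)
  have h1 : m ∈ ((S0 (S : Subgroup G) Z : Subgroup G) : Set G) * (F : Set G) := by
    rw [← coe_mul_of_left_le_normalizer_right _ F hSF]
    exact hm
  obtain ⟨s, hs, f, hf, rfl⟩ := Set.mem_mul.1 h1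
  have hfL : f ∈ Lp (S : Subgroup G) L F Q :=
    mem_inf.2 ⟨h.FL hf, le_normalizer (FK_le_FKQ (F_le_FK hf))⟩
  refine ⟨f * w, mul_mem hfL hw, mem_norm fun t ht => ?_, ?_⟩
  · have h2 := hm2 (w * t * w⁻¹) ⟨t, ht, rfl⟩
    have h3 : f * w * t * (f * w)⁻¹ = s⁻¹ * (s * f * (w * t * w⁻¹) * (s * f)⁻¹) * s := by group
    change f * w * t * (f * w)⁻¹ ∈ S0 (S : Subgroup G) Z
    rw [h3]
    exact mul_mem (mul_mem (inv_mem hs) h2) hs
  · rw [← phi_mul (Lp_nor_ZK hfL) (Lp_nor_ZK hw), (phi_eq_one_iff (Lp_nor_ZK hfL)).2 (FK_le_C (F_le_FK hf)), one_mul]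

end

end Cfsg.Agent.Omega.IId.Big.Red
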