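import Cfsg.Agent.Omega.ThmC.TwoSeven

/-!
# #15785 (a): `O₂(C_G(v))` lies in the intersection of all `N_S(V l)`

The case `p = id` of (7) of THEOREM C: if `W v = O₂(C_G(v))` centralises `V l` for all `1 ≠ v ∈ V i`, `l ≠ i`, then
`W z ≤ S` and `W z` normalises all `V l` (`1 ≠ z ∈ V i₀` fixed by `N_S(V i₀)`).
-/

set_option autoImplicit false

namespace Cfsg.Agent.Omega.IId.Big

open Subgroup Cfsg Cfsg.Agent.ZN Cfsg.Agent.MinSimple.Geo
open Cfsg.Agent.Omega.ThmC.TwoSeven

universe u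

variable {G : Type u} [Group G] {ι : Type*}

/-- **#15785 (a).** -/
theorem seven_id [Finite G] {V : ι → Subgroup G} (S : Sylow 2 G)
    (hW : ∀ i l, l ≠ i → ∀ v ∈ V i, v ≠ 1 → W v ≤ centralizer (V l : Set G))
    (hS : ∀ s ∈ S, ∀ i, ∃ j, cj s (V i) = V j) (htr : ∀ i j, ∃ s ∈ S, cj s (V i) = V j)
    {i₀ : ι} {z : G} (hz : z ∈ V i₀) (hz1 : z ≠ 1)
    (hT : ∀ s ∈ S, cj s (V i₀) = V i₀ → s ∈ centralizer ({z} : Set G)) :
    W z ≤ (S : Subgroup G) ∧ ∀ l, W z ≤ normalizer (V l : Set G) := by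
  have : Fact (Nat.Prime 2) := ⟨Nat.prime_two⟩
  have hW' : ∀ i l, l ≠ i → l ≠ id i → ∀ v ∈ V i, v ≠ 1 → W v ≤ centralizer (V l : Set G) :=
    fun i l h _ => hW i l h
  have hp : ∀ i : ι, id (id i) = i := fun _ => rfl
  have hS' : ∀ s ∈ S, ∀ i, ∃ j, cj s (V i) = V j ∧ cj s (V (id i)) = V (id j) := fun s hs i => by
    obtain ⟨j, hj⟩ := hS s hs i
    exact ⟨j, hj, hj⟩
  have hcentN : ∀ l, l ≠ i₀ → W z ≤ normalizer (V l : Set G) := fun l hl =>
    (hW i₀ l hl z hz hz1).trans (Subgroup.centralizer_le_normalizer _)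
  by_cases hd : ∀ j l, D V id j = D V id l → j = l
  swap
  · push Not at hd
    obtain ⟨j, l, hj, h1⟩ := hd
    have h3 := two_of_eq hp hW' h1 h1 hj
    have h4 : ∀ l, IsPGroup 2 (D V id l) := by
      intro l
      obtain ⟨s, hs, e1⟩ := htr j l
      have h5 : cj s (D V id j) = D V id l := by
        refine le_antisymm (cj_D_le e1.le e1.le) ?_
        have h1' : cj s⁻¹ (V l) ≤ V j := by rw [← e1, cj_inv_cj]
        have := cj_D_le (p := id) h1' h1'
        rwa [cj_le_iff, inv_inv] at this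
      rw [← h5]
      exact h3.map _
    have h5 : IsPGroup 2 (DD V id) := isPGroup_iSup _ h4 fun i l => D_le_normalizer_D hp hW' i l
    have h6 : IsPGroup 2 ((S : Subgroup G) ⊔ DD V id : Subgroup G) :=
      IsPGroup.to_sup_of_normal_right' S.isPGroup' h5 (S_le_normalizer_DD S hS')
    have h7 : DD V id ≤ (S : Subgroup G) := by
      have := sylow_eq_of_le S h6 le_sup_left
      exact le_sup_right.trans this.le
    have h8 : W z ≤ (S : Subgroup G) := ((le_D hz1 (Or.inl hz)).trans (le_iSup (D V id) i₀)).trans h7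
    refine ⟨h8, fun m => ?_⟩
    by_cases hm : m = i₀
    · subst hm
      intro s hs
      rw [mem_normalizer_iff_cj]
      obtain ⟨n, hn⟩ := hS s (h8 hs) m
      by_cases hnm : n = m
      · rw [hnm] at hn
        exact hn
      · have h9 : cj s (V n) = V n := mem_normalizer_iff_cj.mp (hcentN n hnm hs)
        have h10 : V m = V n := by
          rw [← cj_inv_cj (g := s) (H := V m), hn]
          calc cj s⁻¹ (V n) = cj s⁻¹ (cj s (V n)) := by rw [h9]
            _ = V n := cj_inv_cj ..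
        rw [hn, ← h10]
    · exact hcentN m hm
  -- `M := S DD`, `K` the kernel of `M` on the `D`'s
  set N : Subgroup G := ⨅ i, normalizer (D V id i : Set G) with hN
  have hmN : ∀ {g}, g ∈ N ↔ ∀ i, cj g (D V id i) = D V id i := by
    intro g
    rw [hN, mem_iInf]
    exact forall_congr' fun i => mem_normalizer_iff_cj
  have hDN : DD V id ≤ N := le_iInf fun l => DD_le_normalizer hp hW' l
  set M : Subgroup G := (S : Subgroup G) ⊔ DD V id with hM
  have hSM : (S : Subgroup G) ≤ M := le_sup_left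
  have hDM : DD V id ≤ M := le_sup_right
  have hMN : M ≤ normalizer (N : Set G) := by
    refine sup_le ?_ (hDN.trans le_normalizer)
    have key : ∀ s ∈ S, cj s N ≤ N := by
      intro s hs g hg
      rw [mem_cj, hmN] at hg
      rw [hmN]
      intro i
      obtain ⟨j, -, h⟩ := cj_D (p := id) S hS' (inv_mem hs) i
      have h1 := hg j
      rw [← h, cj_cj] at h1
      have h2 := congrArg (cj s) h1
      rw [cj_cj, cj_cj, mul_inv_cancel, cj_one] at h2
      have e : s * (s⁻¹ * g * s * s⁻¹) = g := by group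
      rwa [e] at h2
    intro s hs
    rw [mem_normalizer_iff_cj]
    refine le_antisymm (key s hs) ?_
    have := key s⁻¹ (inv_mem hs)
    rwa [cj_le_iff, inv_inv] at this
  have hWK : W z ≤ M ⊓ N :=
    ((le_D hz1 (Or.inl hz)).trans (le_iSup (D V id) i₀)).trans (le_inf hDM hDN)
  set T : Subgroup G := (S : Subgroup G) ⊓ N with hTd
  have hTV : ∀ s ∈ T, ∀ l, cj s (V l) = V l := by
    intro s hs l
    obtain ⟨j, e1, e2⟩ := cj_D (p := id) S hS' (mem_inf.1 hs).1 l
    rw [hmN.1 (mem_inf.1 hs).2 l] at e2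
    rw [hd j l e2.symm] at e1
    exact e1
  have hTz : T ≤ centralizer {z} := fun s hs => hT s (mem_inf.1 hs).1 (hTV s hs i₀)
  have hTW : T ≤ normalizer (W z : Set G) := hTz.trans (centralizer_le_normalizer_W z)
  have hT2 : IsPGroup 2 T := S.isPGroup'.to_le inf_le_left
  have h2 : IsPGroup 2 (T ⊔ W z : Subgroup G) := IsPGroup.to_sup_of_normal_right' hT2 (W_two z) hTW
  have hTK : T ⊔ W z ≤ M ⊓ N := sup_le (le_inf (inf_le_left.trans hSM) inf_le_right) hWK
  have h3 : Nat.card (T ⊔ W z : Subgroup G) ≤ Nat.card T := by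
    obtain ⟨c, hc, hc'⟩ := exists_cj_le S hSM h2 (hTK.trans inf_le_left)
    rw [← card_cj c]
    refine card_le_of_le (le_inf hc' ?_)
    have := cj_mono (g := c) (hTK.trans inf_le_right)
    rwa [mem_normalizer_iff_cj.mp (hMN hc)] at this
  have h4 : T = T ⊔ W z := eq_of_le_of_card_ge le_sup_left h3
  have h5 : W z ≤ T := by
    rw [h4]
    exact le_sup_right
  exact ⟨h5.trans inf_le_left, fun l s hs => mem_normalizer_iff_cj.mpr (hTV s (h5 hs) l)⟩

end Cfsg.Agent.Omega.IId.Big
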