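import Cfsg.Agent.Omega.IId.Big.Base

/-!
# II.d, THEOREM A (bb OMEGA 16750, 17530): (G')

`Fr.cent_U` : for at least three blocks and (H2), an element of `W_a` (`a ∈ V i`) which centralises `D_i`
centralises all `U_v`, `v ∈ V j`, `j ≠ i`.
-/

set_option autoImplicit false
set_option linter.unusedSectionVars false

namespace Cfsg.Agent.Omega.IId.Big

open Subgroup Cfsg
open Cfsg.Agent.ZN (o2 zc)
open Cfsg.Agent.MinSimple.VModule (le_o2 le_normalizer_o2 mem_zc o2_isPGroup o2_le)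
open Triangle (KK KK_conj KK_le_o2 mem_cent mem_KK mem_zpowers_iff_of_sq cent_conj o2_cent_conj)

universe u

variable {G : Type u} [Group G]

/-! ### Functionals -/

section phi

open Classical in
/-- the functional of `g` on `U` -/
noncomputable def phi (U : Subgroup G) (g : G) : U → ZMod 2 := fun u => if g * u = u * g then 0 else 1

variable {U : Subgroup G}

theorem phi_eq {g : G} {u : U} : phi U g u = 0 ↔ g * u = u * g := by
  unfold phi
  split_ifs with h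
  · exact ⟨fun _ => h, fun _ => rfl⟩
  · exact ⟨fun h1 => absurd h1 (by decide), fun h1 => absurd h1 h⟩

theorem phi_one {g : G} {u : U} (h : ¬ g * u = u * g) : phi U g u = 1 := by
  unfold phi
  rw [if_neg h]

theorem phi_zero {g : G} {u : U} (h : g * u = u * g) : phi U g u = 0 := phi_eq.2 h

/-- `g` is a transvection of `U` with centre `w` -/
def Tv (U : Subgroup G) (w g : G) : Prop := g * w = w * g ∧ ∀ u ∈ U, g * u * g⁻¹ = u ∨ g * u * g⁻¹ = w * u

theorem Tv.conj_one {w g : G} (h : Tv U w g) {u : G} (hu : u ∈ U) (h1 : ¬ g * u = u * g) :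
    g * u * g⁻¹ = w * u := (h.2 u hu).resolve_left fun h2 => h1 (comm_of_conj h2)

theorem Tv.conj_w {w g : G} (h : Tv U w g) : g * w * g⁻¹ = w := conj_of_comm h.1

theorem phi_mul {w g k : G} (hw1 : w ≠ 1) (hww : w * w = 1) (hg : Tv U w g) (hk : Tv U w k) :
    phi U (g * k) = phi U g + phi U k := by
  funext u
  rw [Pi.add_apply]
  have e : g * k * u * (g * k)⁻¹ = g * (k * u * k⁻¹) * g⁻¹ := by group
  by_cases h1 : g * u = u * g
  · by_cases h2 : k * u = u * k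
    · rw [phi_zero h1, phi_zero h2, phi_zero]
      · decide
      · apply comm_of_conj
        rw [e, conj_of_comm h2, conj_of_comm h1]
    · rw [phi_zero h1, phi_one h2, phi_one]
      · decide
      · intro h3
        apply hw1
        have h4 := conj_of_comm h3
        rw [e, hk.conj_one u.2 h2] at h4
        have h5 : g * (w * u) * g⁻¹ = (g * w * g⁻¹) * (g * u * g⁻¹) := by group
        rw [h5, hg.conj_w, conj_of_comm h1] at h4
        exact mul_eq_right.1 h4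
  · by_cases h2 : k * u = u * k
    · rw [phi_one h1, phi_zero h2, phi_one]
      · decide
      · intro h3
        apply h1
        have h4 := conj_of_comm h3
        rw [e, conj_of_comm h2] at h4
        exact comm_of_conj h4
    · rw [phi_one h1, phi_one h2, phi_zero]
      · decide
      · apply comm_of_conj
        have h5 : g * (w * u) * g⁻¹ = (g * w * g⁻¹) * (g * u * g⁻¹) := by group
        rw [e, hk.conj_one u.2 h2, h5, hg.conj_w, hg.conj_one u.2 h1, ← mul_assoc, hww, one_mul]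

theorem phi_add {w g : G} (hw1 : w ≠ 1) (hww : w * w = 1) (hg : Tv U w g)
    (hU : ∀ u ∈ U, w * u = u * w) (u v : U) : phi U g (u * v) = phi U g u + phi U g v := by
  have e : g * (u * v : G) * g⁻¹ = (g * u * g⁻¹) * (g * v * g⁻¹) := by group
  by_cases h1 : g * u = u * g
  · by_cases h2 : g * v = v * g
    · rw [phi_zero h1, phi_zero h2, phi_zero]
      · decide
      · apply comm_of_conj
        rw [coe_mul, e, conj_of_comm h2, conj_of_comm h1]
    · rw [phi_zero h1, phi_one h2, phi_one]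
      · decide
      · intro h3
        apply hw1
        have h4 := conj_of_comm h3
        rw [coe_mul, e, hg.conj_one v.2 h2, conj_of_comm h1, ← mul_assoc, ← hU u u.2, mul_assoc] at h4
        exact mul_eq_right.1 h4
  · by_cases h2 : g * v = v * g
    · rw [phi_one h1, phi_zero h2, phi_one]
      · decide
      · intro h3
        apply hw1
        have h4 := conj_of_comm h3
        rw [coe_mul, e, hg.conj_one u.2 h1, conj_of_comm h2, mul_assoc] at h4
        exact mul_eq_right.1 h4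
    · rw [phi_one h1, phi_one h2, phi_zero]
      · decide
      · apply comm_of_conj
        rw [coe_mul, e, hg.conj_one u.2 h1, hg.conj_one v.2 h2]
        calc w * u * (w * v) = w * (w * u) * v := by rw [mul_assoc, ← mul_assoc (u : G) w v, ← hU u u.2]; group
          _ = (w * w) * (u * v) := by group
          _ = u * v := by rw [hww, one_mul]

/-- conjugation: `phi (g k g⁻¹) = phi k + phi g` -/
theorem phi_cj {w w' g k : G} (hw1' : w' ≠ 1) (hww : w * w = 1) (hww' : w' * w' = 1) (hwU : w ∈ U)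
    (hg : Tv U w g) (hk : Tv U w' k) (hc : w * w' = w' * w) (hkw : ¬ k * w = w * k) :
    phi U (g * k * g⁻¹) = phi U k + phi U g := by
  funext u
  rw [Pi.add_apply]
  have e0 : (g * k * g⁻¹) * u = u * (g * k * g⁻¹) ↔ k * (g⁻¹ * u * g) = (g⁻¹ * u * g) * k := by
    constructor
    · intro h
      calc k * (g⁻¹ * u * g) = g⁻¹ * ((g * k * g⁻¹) * u) * g := by group
        _ = (g⁻¹ * u * g) * k := by rw [h]; group
    · intro h
      calc (g * k * g⁻¹) * u = g * (k * (g⁻¹ * u * g)) * g⁻¹ := by group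
        _ = u * (g * k * g⁻¹) := by rw [h]; group
  by_cases h1 : g * u = u * g
  · have h2 : g⁻¹ * u * g = u := by
      calc g⁻¹ * u * g = g⁻¹ * (u * g) := by group
        _ = u := by rw [← h1]; group
    rw [h2] at e0
    rw [phi_zero h1, add_zero]
    by_cases h3 : k * u = u * k
    · rw [phi_zero h3, phi_zero (e0.2 h3)]
    · rw [phi_one h3, phi_one fun h4 => h3 (e0.1 h4)]
  · have h2 : g⁻¹ * u * g = w * u := by
      have h3 := hg.conj_one u.2 h1
      have h4 : g⁻¹ * (w * u) * g = u := by rw [← h3]; group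
      have h5 : g⁻¹ * w * g = w := by
        calc g⁻¹ * w * g = g⁻¹ * (w * g) := by group
          _ = w := by rw [← hg.1]; group
      have h6 : g⁻¹ * (w * u) * g = (g⁻¹ * w * g) * (g⁻¹ * u * g) := by group
      rw [h6, h5] at h4
      calc g⁻¹ * u * g = (w * w) * (g⁻¹ * u * g) := by rw [hww, one_mul]
        _ = w * u := by rw [mul_assoc, h4]
    rw [h2] at e0
    have e : k * (w * u : G) * k⁻¹ = (k * w * k⁻¹) * (k * u * k⁻¹) := by group
    have h3 := hk.conj_one hwU hkw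
    rw [phi_one h1]
    by_cases h4 : k * u = u * k
    · rw [phi_zero h4, phi_one]
      · decide
      · intro h5
        have h6 := conj_of_comm (e0.1 h5)
        rw [e, h3, conj_of_comm h4, mul_assoc] at h6
        exact hw1' (mul_eq_right.1 h6)
    · rw [phi_one h4, phi_zero]
      · decide
      · apply e0.2
        apply comm_of_conj
        rw [e, h3, hk.conj_one u.2 h4]
        calc w' * w * (w' * u) = w' * (w * w') * u := by group
          _ = (w' * w') * (w * u) := by rw [hc]; group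
          _ = w * u := by rw [hww', one_mul]

end phi

/-! ### The data at a base point -/

namespace Fr

variable {ι : Type} {S : Subgroup G} {V : ι → Subgroup G} [Finite G] (h : Fr S V)

/-- the centres of the block `i` in `U_v` -/
def Ks (V : ι → Subgroup G) (i j : ι) (v : G) : Set (UU V j v) :=
  {c | ∃ x ∈ cz v, ∃ a ∈ V i, a ≠ 1 ∧ (c : G) = x * a * x⁻¹}

/-- the functionals -/
def Fs (V : ι → Subgroup G) (j : ι) (v : G) (c : UU V j v) : Set (UU V j v → ZMod 2) :=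
  {φ | ∃ g ∈ KK (c : G), φ = phi (UU V j v) g}

include h

omit [Finite G] in
theorem U_le_qc (hH : H2 V) {i j : ι} (hij : j ≠ i) {v x a : G} (hv : v ∈ V j) (hv1 : v ≠ 1)
    (ha : a ∈ V i) (ha1 : a ≠ 1) (hx : x ∈ cz v) : UU V j v ≤ qz (x * a * x⁻¹) := by
  intro u hu
  have h1 : x⁻¹ * u * x ∈ UU V j v := by
    have := conj_mem cz_norm_UU (inv_mem hx) hu
    rwa [inv_inv] at this
  have h2 := hH j i hij v hv hv1 a ha ha1 h1
  show u ∈ ZN.o2 (centralizer ({x * a * x⁻¹} : Set G))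
  rw [o2_cent_conj]
  exact ⟨x⁻¹ * u * x, h2, by simp [mul_assoc]⟩

omit [Finite G] in
theorem sqc {i : ι} {x a : G} (ha : a ∈ V i) : x * a * x⁻¹ * (x * a * x⁻¹) = 1 := by
  calc x * a * x⁻¹ * (x * a * x⁻¹) = x * (a * a) * x⁻¹ := by group
    _ = 1 := by rw [h.sq i a ha]; group

omit [Finite G] h in
theorem ne_c {x a : G} (ha1 : a ≠ 1) : x * a * x⁻¹ ≠ 1 := by
  intro h1
  apply ha1
  have : a = x⁻¹ * (x * a * x⁻¹) * x := by group
  rw [this, h1]; group

omit [Finite G] in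
theorem tv (hH : H2 V) {i j : ι} (hij : j ≠ i) {v x a g : G} (hv : v ∈ V j) (hv1 : v ≠ 1)
    (ha : a ∈ V i) (ha1 : a ≠ 1) (hx : x ∈ cz v) (hg : g ∈ KK (x * a * x⁻¹)) :
    Tv (UU V j v) (x * a * x⁻¹) g := by
  refine ⟨(mem_KK.1 hg).1, fun u hu => ?_⟩
  have h1 := (mem_KK.1 hg).2 u (h.U_le_qc hH hij hv hv1 ha ha1 hx hu)
  rcases (mem_zpowers_iff_of_sq (h.sqc ha)).1 h1 with h2 | h2
  · left; exact mul_inv_eq_one.1 h2
  · right; exact mul_inv_eq_iff_eq_mul.1 h2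

/-- two centres of the same block are conjugate in `C_v` -/
theorem conj_c {i j : ι} (hij : j ≠ i) {v x a x' a' : G} (hv : v ∈ V j)
    (ha : a ∈ V i) (ha1 : a ≠ 1) (hx : x ∈ cz v) (ha' : a' ∈ V i) (ha1' : a' ≠ 1) (hx' : x' ∈ cz v) :
    ∃ y ∈ cz v, y * (x * a * x⁻¹) * y⁻¹ = x' * a' * x'⁻¹ := by
  by_cases haa : a = a'
  · subst haa
    refine ⟨x' * x⁻¹, mul_mem hx' (inv_mem hx), by group⟩
  · have hb : a * a' ∈ V i := mul_mem ha ha'
    have hb1 : a * a' ≠ 1 := by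
      intro h1
      apply haa
      exact mul_left_cancel ((h.sq i a ha).trans h1.symm)
    have hba : a * a' ≠ a := fun h1 => ha1' (mul_eq_left.1 h1)
    obtain ⟨g, hg, h1⟩ := h.move hb ha hb1 ha1 hba
    have h2 : a * a' * a = a' := by
      rw [h.comm i i a ha a' ha', mul_assoc, h.sq i a ha, mul_one]
    rw [h2] at h1
    refine ⟨x' * g * x⁻¹, mul_mem (mul_mem hx' (h.KK_le hij hb hb1 hv hg)) (inv_mem hx), ?_⟩
    calc x' * g * x⁻¹ * (x * a * x⁻¹) * (x' * g * x⁻¹)⁻¹ = x' * (g * a * g⁻¹) * x'⁻¹ := by group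
      _ = x' * a' * x'⁻¹ := by rw [h1]

theorem card_le {j : ι} {v : G} {c c' : UU V j v} {y : G} (hy : y ∈ cz v)
    (hc : y * (c : G) * y⁻¹ = c') : Nat.card (Fs V j v c) ≤ Nat.card (Fs V j v c') := by
  have hyU : ∀ u ∈ UU V j v, y⁻¹ * u * y ∈ UU V j v := fun u hu => by
    have := conj_mem cz_norm_UU (inv_mem hy) hu
    rwa [inv_inv] at this
  have hyU' : ∀ u ∈ UU V j v, y * u * y⁻¹ ∈ UU V j v := fun u hu => conj_mem cz_norm_UU hy hu
  let T : (UU V j v → ZMod 2) → (UU V j v → ZMod 2) := fun φ u => φ ⟨y⁻¹ * u * y, hyU u u.2⟩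
  have hT : Function.Injective T := by
    intro φ ψ hφψ
    funext u
    have h1 := congrFun hφψ ⟨y * u * y⁻¹, hyU' u u.2⟩
    have h2 : (⟨y⁻¹ * (y * u * y⁻¹) * y, hyU _ (hyU' u u.2)⟩ : UU V j v) = u := Subtype.ext (by
      show y⁻¹ * (y * u * y⁻¹) * y = u
      group)
    simp only [T, h2] at h1
    exact h1
  rw [Nat.card_coe_set_eq, Nat.card_coe_set_eq]
  refine Set.ncard_le_ncard_of_injOn T ?_ hT.injOn ?_
  · rintro _ ⟨g, hg, rfl⟩
    refine ⟨y * g * y⁻¹, ?_, ?_⟩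
    · have := KK_conj (h := y) hg
      rwa [hc] at this
    · funext u
      show phi _ g ⟨y⁻¹ * u * y, _⟩ = _
      have e0 : (y * g * y⁻¹) * u = u * (y * g * y⁻¹) ↔ g * (y⁻¹ * u * y) = (y⁻¹ * u * y) * g := by
        constructor
        · intro h
          calc g * (y⁻¹ * u * y) = y⁻¹ * ((y * g * y⁻¹) * u) * y := by group
            _ = (y⁻¹ * u * y) * g := by rw [h]; group
        · intro h
          calc (y * g * y⁻¹) * u = y * (g * (y⁻¹ * u * y)) * y⁻¹ := by group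
            _ = u * (y * g * y⁻¹) := by rw [h]; group
      by_cases h1 : (y * g * y⁻¹) * u = u * (y * g * y⁻¹)
      · rw [phi_zero h1, phi_zero (e0.1 h1)]
      · rw [phi_one h1, phi_one fun h2 => h1 (e0.2 h2)]
  · have h1 : Fs V j v c' ⊆ Set.range fun g : KK (c' : G) => phi (UU V j v) g := by
      rintro _ ⟨g, hg, rfl⟩
      exact ⟨⟨g, hg⟩, rfl⟩
    exact (Set.toFinite _).subset h1

/-- **The data of `TL`.** -/
theorem dat (hH : H2 V) {i j : ι} (hij : j ≠ i) {v : G} (hv : v ∈ V j) (hv1 : v ≠ 1) :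
    TL.Dat (Ks V i j v) (Fs V j v) where
  add := by
    rintro c ⟨x, hx, a, ha, ha1, hc⟩ _ ⟨g, hg, rfl⟩ _ ⟨k, hk, rfl⟩
    refine ⟨g * k, mul_mem hg hk, ?_⟩
    rw [hc] at hg hk
    exact (phi_mul (ne_c ha1) (h.sqc ha) (h.tv hH hij hv hv1 ha ha1 hx hg)
      (h.tv hH hij hv hv1 ha ha1 hx hk)).symm
  kill := by
    rintro c _ _ ⟨g, hg, rfl⟩
    exact phi_zero (mem_KK.1 hg).1
  cj := by
    rintro c ⟨x, hx, a, ha, ha1, hc⟩ c' ⟨x', hx', a', ha', ha1', hc'⟩ _ ⟨g, hg, rfl⟩ _ ⟨k, hk, rfl⟩ h1 h2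
    rw [phi_eq] at h1
    have h2' : ¬ k * c = c * k := fun h3 => h2 (phi_zero h3)
    refine ⟨g * k * g⁻¹, ?_, ?_⟩
    · have h3 := KK_conj (h := g) hk
      rwa [conj_of_comm h1] at h3
    · have hcc : (c : G) * c' = c' * c := h.U_comm hv hv1 c.2 c'.2
      have hcU := c.2
      rw [hc] at hg hcU hcc h2'
      rw [hc'] at hk hcc
      exact (phi_cj (ne_c ha1') (h.sqc ha) (h.sqc ha') hcU (h.tv hH hij hv hv1 ha ha1 hx hg)
        (h.tv hH hij hv hv1 ha' ha1' hx' hk) hcc h2').symm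
  fin := by
    intro c _
    have h1 : Fs V j v c ⊆ Set.range fun g : KK (c : G) => phi (UU V j v) g := by
      rintro _ ⟨g, hg, rfl⟩
      exact ⟨⟨g, hg⟩, rfl⟩
    exact (Set.toFinite _).subset h1
  card := by
    rintro c ⟨x, hx, a, ha, ha1, hc⟩ c' ⟨x', hx', a', ha', ha1', hc'⟩
    obtain ⟨y, hy, h1⟩ := h.conj_c hij hv ha ha1 hx ha' ha1' hx'
    obtain ⟨y', hy', h1'⟩ := h.conj_c hij hv ha' ha1' hx' ha ha1 hx
    rw [← hc, ← hc'] at h1
    rw [← hc, ← hc'] at h1'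
    exact le_antisymm (h.card_le hy h1) (h.card_le hy' h1')
  sep := by
    rintro c ⟨x, hx, a, ha, ha1, hc⟩ _ ⟨g, hg, rfl⟩ hne
    by_contra hcon
    push Not at hcon
    apply hne
    have h1 : g ∈ qz v := by
      refine h.zero (N := cl (V i) (cz v)) hij hv ha ha1 hx cl_norm (conj_mem_cl hx ha) ⟨hc ▸ hg, ?_⟩
      refine mem_centralizer_iff.2 fun y hy => ?_
      refine (cent_of_cl ?_ hy).symm
      intro z hz b hb
      by_cases hb1 : b = 1
      · subst hb1; simp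
      · have hbU : z * b * z⁻¹ ∈ UU V j v := conj_mem cz_norm_UU hz (V_le_UU (Ne.symm hij) hb)
        exact phi_eq.1 (hcon ⟨_, hbU⟩ ⟨z, hz, b, hb, hb1, rfl⟩)
    funext u
    exact phi_zero (h.U_cent hv hv1 u.2 h1)

/-- neighbours centralise the other blocks -/
theorem nbr (hH : H2 V) {i j : ι} (hij : j ≠ i) {v a g₁ g : G} (hv : v ∈ V j) (hv1 : v ≠ 1)
    (ha : a ∈ V i) (ha1 : a ≠ 1) (hg₁ : g₁ ∈ KK a) (hg₁V : ∀ x ∈ V i, g₁ * x = x * g₁)
    (hg₁U : ∃ u ∈ UU V j v, g₁ * u ≠ u * g₁) {c : UU V j v} (hc : c ∈ Ks V i j v)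
    (hg : g ∈ KK a) (hgc : g * (c : G) ≠ c * g) {l : ι} (hli : l ≠ i) (hlj : l ≠ j) :
    ∀ k ∈ KK (c : G), ∀ p ∈ V l, k * p = p * k := by
  intro k hk p hp
  have D := h.dat hH hij hv hv1
  obtain ⟨b, hb, hb1, hab⟩ := h.exists_other (i := i) a
  obtain ⟨g₂, hg₂, h2⟩ := h.move ha hb ha1 hb1 hab
  have hd1 : a * b ≠ 1 := fun h3 => hab (mul_left_cancel ((h.sq i a ha).trans h3.symm))
  have hU : ∀ {x : G}, x ∈ V i → x ∈ UU V j v := fun hx => V_le_UU (Ne.symm hij) hx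
  have hK : ∀ {x : G} (hx : x ∈ V i), x ≠ 1 → (⟨x, hU hx⟩ : UU V j v) ∈ Ks V i j v := fun hx hx1 =>
    ⟨1, one_mem _, _, hx, hx1, by simp⟩
  have h2b : ¬ g₂ * b = b * g₂ := by
    intro h3
    rw [conj_of_comm h3] at h2
    exact ha1 (mul_eq_right.1 h2.symm)
  have h2d : ¬ g₂ * (a * b) = a * b * g₂ := by
    intro h3
    apply h2b
    have h4 := (mem_KK.1 hg₂).1
    have h5 : a * (g₂ * b) = a * (b * g₂) := by
      calc a * (g₂ * b) = (a * g₂) * b := by group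
        _ = g₂ * (a * b) := by rw [← h4]; group
        _ = a * (b * g₂) := by rw [h3]; group
    exact mul_left_cancel h5
  have hpU : p ∈ UU V j v := V_le_UU hlj hp
  have hkill : ∀ {x : G} (hx : x ∈ V i) (hx1 : x ≠ 1), ∀ φ ∈ Fs V j v ⟨x, hU hx⟩,
      φ ⟨p, hpU⟩ = 0 := by
    rintro x hx hx1 _ ⟨m, hm, rfl⟩
    exact phi_zero (mem_cent.1 (h.KK_le hli hx hx1 hp hm))
  obtain ⟨u, hu, hgu⟩ := hg₁U
  have hker := D.exists_ker (hK ha ha1) hc (φ₁ := phi _ g₁) (φ₂ := phi _ g₂) ⟨g₁, hg₁, rfl⟩ ⟨g₂, hg₂, rfl⟩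
    (fun h3 => hgu (phi_eq.1 (congrFun h3 ⟨u, hu⟩)))
    (fun h3 => h2b (phi_eq.1 (congrFun h3 ⟨b, hU hb⟩)))
    (fun h3 => by
      have h4 := congrFun h3 ⟨b, hU hb⟩
      rw [phi_zero (hg₁V b hb)] at h4
      exact h2b (phi_eq.1 h4.symm)) ⟨a, hU ha⟩
  refine phi_eq.1 (D.main (hK ha ha1) (hK hb hb1) (hK (mul_mem ha hb) hd1) hc ?_
    ⟨_, ⟨g₂, hg₂, rfl⟩, fun h3 => h2b (phi_eq.1 h3)⟩ ⟨_, ⟨g₂, hg₂, rfl⟩, fun h3 => h2d (phi_eq.1 h3)⟩
    (hkill ha ha1) (hkill hb hb1) (hkill (mul_mem ha hb) hd1)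
    ⟨_, ⟨g, hg, rfl⟩, fun h3 => hgc (phi_eq.1 h3)⟩ hker _ ⟨k, hk, rfl⟩ (p := ⟨p, hpU⟩))
  rintro _ ⟨m, hm, rfl⟩
  obtain ⟨x, hx, a', ha', ha1', hc'⟩ := hc
  rw [hc'] at hm
  have h3 := phi_add (ne_c ha1') (h.sqc ha') (h.tv hH hij hv hv1 ha' ha1' hx hm) (fun y hy =>
    h.U_comm hv hv1 (hc' ▸ c.2) hy) ⟨a, hU ha⟩ ⟨b, hU hb⟩
  rw [show (⟨a * b, hU (mul_mem ha hb)⟩ : UU V j v) = ⟨a, hU ha⟩ * ⟨b, hU hb⟩ from rfl, h3]
  exact CharTwo.add_self_eq_zero _

/-- **(G').** -/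
theorem cent_U (hH : H2 V) (hk : ∀ i j : ι, ∃ l, l ≠ i ∧ l ≠ j) {i j : ι} (hij : j ≠ i) {v a g : G}
    (hv : v ∈ V j) (hv1 : v ≠ 1) (ha : a ∈ V i) (ha1 : a ≠ 1) (hg : g ∈ KK a)
    (hgD : ∀ x ∈ DD V i, g * x = x * g) : ∀ u ∈ UU V j v, g * u = u * g := by
  by_contra hcon
  push Not at hcon
  obtain ⟨u, hu, hgu⟩ := hcon
  have hVD : V i ≤ DD V i := fun x hx => mem_DD.2 fun l hl p _ _ => V_le_UU (Ne.symm hl) hx
  have hgV : ∀ x ∈ V i, g * x = x * g := fun x hx => hgD x (hVD hx)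
  have D := h.dat hH hij hv hv1
  have haU : ∀ {l : ι} {p : G}, l ≠ i → a ∈ UU V l p := fun hl => V_le_UU (Ne.symm hl) ha
  have haK : (⟨a, haU hij⟩ : UU V j v) ∈ Ks V i j v := ⟨1, one_mem _, a, ha, ha1, by simp⟩
  obtain ⟨c, hc, hgc⟩ := D.sep ⟨a, haU hij⟩ haK (phi _ g) ⟨g, hg, rfl⟩
    (fun h3 => hgu (phi_eq.1 (congrFun h3 ⟨u, hu⟩)))
  have hgc' : ¬ g * (c : G) = c * g := fun h3 => hgc (phi_zero h3)
  obtain ⟨ψ, ⟨k, hkc, rfl⟩, hka⟩ := D.adj_symm hc haK ⟨_, ⟨g, hg, rfl⟩, hgc⟩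
  have hka' : ¬ k * a = a * k := fun h3 => hka (phi_zero h3)
  have hcU := c.2
  obtain ⟨x, hx, a', ha', ha1', hc'⟩ := id hc
  -- `y a y⁻¹ = c`
  have hya : (g * k) * a * (g * k)⁻¹ = c := by
    have h1 : k * a * k⁻¹ = c * a := by
      have h2 := h.tv hH hij hv hv1 ha' ha1' hx (hc' ▸ hkc)
      have h3 := h2.conj_one (haU hij) hka'
      rwa [← hc'] at h3
    have h2 : g * (c : G) * g⁻¹ = a * c := by
      have h3 := h.tv hH hij hv hv1 ha ha1 (one_mem _) (g := g) (by simpa using hg)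
      have h4 := h3.conj_one hcU hgc'
      simpa using h4
    have h3 : g * a * g⁻¹ = a := conj_of_comm (mem_KK.1 hg).1
    calc (g * k) * a * (g * k)⁻¹ = g * (k * a * k⁻¹) * g⁻¹ := by group
      _ = (g * (c : G) * g⁻¹) * (g * a * g⁻¹) := by rw [h1]; group
      _ = (a * a) * c := by
          rw [h2, h3, mul_assoc, h.U_comm hv hv1 hcU (haU hij)]; group
      _ = c := by rw [h.sq i a ha, one_mul]
  -- membership
  have hmem : ∀ {l : ι} {p : G}, l ≠ i → p ∈ V l → (∀ m ∈ KK (c : G), m * p = p * m) →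
      (g * k) ∈ cz p ∧ (c : G) ∈ UU V l p := by
    intro l p hl hp hm
    have h1 : g * k ∈ cz p := mul_mem (h.KK_le hl ha ha1 hp hg) (mem_cent.2 (hm k hkc))
    refine ⟨h1, ?_⟩
    rw [← hya]
    exact conj_mem cz_norm_UU h1 (haU hl)
  have hn1 : ∀ l, l ≠ i → l ≠ j → ∀ m ∈ KK (c : G), ∀ p ∈ V l, m * p = p * m := fun l hl hlj =>
    h.nbr hH hij hv hv1 ha ha1 hg hgV ⟨u, hu, hgu⟩ hc hg hgc' hl hlj
  -- the second base
  have hn2 : ∀ m ∈ KK (c : G), ∀ p ∈ V j, m * p = p * m := by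
    obtain ⟨l, hli, hlj⟩ := hk i j
    obtain ⟨p, hp, -, -, hp1, -, -⟩ := h.exists_two l
    obtain ⟨h1, h2⟩ := hmem hli hp fun m hm => hn1 l hli hlj m hm p hp
    exact h.nbr hH hli hp hp1 ha ha1 hg hgV ⟨c, h2, hgc'⟩ (c := ⟨c, h2⟩) ⟨g * k, h1, a, ha, ha1, hya.symm⟩ hg
      hgc' hij (Ne.symm hlj)
  have hcD : (c : G) ∈ DD V i := by
    refine mem_DD.2 fun l hl p hp _ => (hmem hl hp fun m hm => ?_).2
    by_cases hlj : l = j
    · subst hlj; exact hn2 m hm p hp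
    · exact hn1 l hl hlj m hm p hp
  exact hgc' (hgD c hcD)

end Fr

end Cfsg.Agent.Omega.IId.Big
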