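import Cfsg.Agent.Omega.IId.Big.Base

/-!
# WrBig, `q = 2`, CASE 2 is impossible (bb OMEGA 18977, helper245), I: the frame and `Ω₁Z(O₂(P)) = V`

`V i` (`i ∈ ι`) the natural four-groups, `v i ∈ V i` the fixed point of `N_S(V i)`, `Q = O₂(P) = C_S(V)`.

* `YY p` : the stabiliser of the chain `Q_p ≥ Z(Q_p) ≥ 1` in `C_G(p)`, a subgroup of `Q_p = O₂(C_G(p))`;
* `Sc S Q V v` : the frame;
* `Sc.zv` : **(ZV)** : an involution centralising `Q` lies in `V = ⨆ V i`;
* `Sc.one` : **LEMMA 1** : `y ∈ Ω₁Z(Q_{v i})`, `[y, Q] = ⟨a⟩` of order 2 ⇒ `a = v i`.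
-/

set_option autoImplicit false
set_option linter.unusedSectionVars false

namespace Cfsg.Agent.Omega.IId.Big.Syl

open Subgroup Cfsg
open Cfsg.Agent.ZN (o2 zc)
open Cfsg.Agent.MinSimple.VModule (le_o2 le_normalizer_o2 mem_zc o2_isPGroup o2_le)
open Triangle (KK KK_conj KK_le_o2 mem_cent mem_KK mem_zpowers_iff_of_sq cent_conj o2_cent_conj)

universe u

variable {G : Type u} [Group G]

/-! ### The chain stabiliser -/

/-- the stabiliser of the chain `Q_p ≥ Z(Q_p) ≥ 1` in `C_G(p)` -/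
def YY (p : G) : Subgroup G where
  carrier := {g | g ∈ cz p ∧ (∀ r ∈ qz p, g * r * g⁻¹ * r⁻¹ ∈ centralizer (qz p : Set G)) ∧
    ∀ r ∈ qz p, r ∈ centralizer (qz p : Set G) → g * r * g⁻¹ = r}
  one_mem' := ⟨one_mem _, fun r _ => by simp [one_mem], fun r _ _ => by simp⟩
  mul_mem' := by
    rintro g k ⟨hg, hg1, hg2⟩ ⟨hk, hk1, hk2⟩
    refine ⟨mul_mem hg hk, fun r hr => ?_, fun r hr hr2 => ?_⟩
    · have h0 : k * r * k⁻¹ * r⁻¹ ∈ qz p := mul_mem (conj_mem (le_normalizer_o2 _) hk hr) (inv_mem hr)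
      have e : g * k * r * (g * k)⁻¹ * r⁻¹ = (g * (k * r * k⁻¹ * r⁻¹) * g⁻¹) * (g * r * g⁻¹ * r⁻¹) := by
        group
      rw [e, hg2 _ h0 (hk1 r hr)]
      exact mul_mem (hk1 r hr) (hg1 r hr)
    · have e : g * k * r * (g * k)⁻¹ = g * (k * r * k⁻¹) * g⁻¹ := by group
      rw [e, hk2 r hr hr2, hg2 r hr hr2]
  inv_mem' := by
    rintro g ⟨hg, hg1, hg2⟩
    have h0 : ∀ r ∈ qz p, r ∈ centralizer (qz p : Set G) → g⁻¹ * r * g = r := fun r hr hr2 => by
      calc g⁻¹ * r * g = g⁻¹ * (g * r * g⁻¹) * g := by rw [hg2 r hr hr2]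
        _ = r := by group
    refine ⟨inv_mem hg, fun r hr => ?_, fun r hr hr2 => ?_⟩
    · have h1 : g * r * g⁻¹ * r⁻¹ ∈ qz p := mul_mem (conj_mem (le_normalizer_o2 _) hg hr) (inv_mem hr)
      have e : g⁻¹ * r * g⁻¹⁻¹ * r⁻¹ = g⁻¹ * (g * r * g⁻¹ * r⁻¹)⁻¹ * g := by group
      rw [e, h0 _ (inv_mem h1) (inv_mem (hg1 r hr))]
      exact inv_mem (hg1 r hr)
    · rw [inv_inv]
      exact h0 r hr hr2

theorem mem_YY {p g : G} : g ∈ YY p ↔ g ∈ cz p ∧
    (∀ r ∈ qz p, g * r * g⁻¹ * r⁻¹ ∈ centralizer (qz p : Set G)) ∧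
    ∀ r ∈ qz p, r ∈ centralizer (qz p : Set G) → g * r * g⁻¹ = r := Iff.rfl

theorem cz_cent {p c x : G} (hc : c ∈ cz p) (hx : x ∈ centralizer (qz p : Set G)) :
    c * x * c⁻¹ ∈ centralizer (qz p : Set G) := by
  refine mem_centralizer_iff.2 fun r hr => ?_
  have hr' : c⁻¹ * r * c ∈ qz p := by
    have := conj_mem (le_normalizer_o2 (cz p)) (inv_mem hc) hr
    rwa [inv_inv] at this
  have h1 := mem_centralizer_iff.1 hx _ hr'
  calc r * (c * x * c⁻¹) = c * ((c⁻¹ * r * c) * x) * c⁻¹ := by group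
    _ = c * x * c⁻¹ * r := by rw [h1]; group

theorem cz_norm_YY {p : G} : cz p ≤ normalizer (YY p : Set G) := by
  apply norm_of
  rintro c hc g ⟨hg, hg1, hg2⟩
  have hci : ∀ r ∈ qz p, c⁻¹ * r * c ∈ qz p := fun r hr => by
    have := conj_mem (le_normalizer_o2 (cz p)) (inv_mem hc) hr
    rwa [inv_inv] at this
  refine ⟨mul_mem (mul_mem hc hg) (inv_mem hc), fun r hr => ?_, fun r hr hr2 => ?_⟩
  · have e : c * g * c⁻¹ * r * (c * g * c⁻¹)⁻¹ * r⁻¹ =
        c * (g * (c⁻¹ * r * c) * g⁻¹ * (c⁻¹ * r * c)⁻¹) * c⁻¹ := by group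
    rw [e]
    exact cz_cent hc (hg1 _ (hci r hr))
  · have h1 : c⁻¹ * r * c ∈ centralizer (qz p : Set G) := by
      have := cz_cent ((cz p).inv_mem hc) hr2
      rwa [inv_inv] at this
    calc c * g * c⁻¹ * r * (c * g * c⁻¹)⁻¹ = c * (g * (c⁻¹ * r * c) * g⁻¹) * c⁻¹ := by group
      _ = c * (c⁻¹ * r * c) * c⁻¹ := by rw [hg2 _ (hci r hr) h1]
      _ = r := by group

/-- **`YY p ≤ O₂(C_G(p))`** -/
theorem YY_le [Finite G] {p : G} (hc : cz p ⊓ centralizer (qz p : Set G) ≤ qz p) : YY p ≤ qz p := by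
  have hf : Fact (Nat.Prime 2) := ⟨Nat.prime_two⟩
  refine le_o2 (fun g hg => hg.1) ?_ cz_norm_YY
  obtain ⟨n, hn⟩ := IsPGroup.iff_card.1 (o2_isPGroup (cz p))
  have hpow : ∀ r ∈ qz p, r ^ 2 ^ n = 1 := by
    intro r hr
    have h1 : (⟨r, hr⟩ : qz p) ^ Nat.card (qz p) = 1 := pow_card_eq_one'
    rw [hn] at h1
    simpa using congrArg Subtype.val h1
  rintro ⟨g, hg⟩
  have key : ∀ r ∈ qz p, ∀ m : ℕ, g ^ m * r * (g ^ m)⁻¹ = (g * r * g⁻¹ * r⁻¹) ^ m * r := by
    intro r hr m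
    have h0 : g * r * g⁻¹ * r⁻¹ ∈ qz p := mul_mem (conj_mem (le_normalizer_o2 _) hg.1 hr) (inv_mem hr)
    have hfix : ∀ m : ℕ, g * (g * r * g⁻¹ * r⁻¹) ^ m * g⁻¹ = (g * r * g⁻¹ * r⁻¹) ^ m := fun m =>
      hg.2.2 _ (pow_mem h0 _) (pow_mem (hg.2.1 r hr) _)
    induction m with
    | zero => simp
    | succ m ih =>
      calc g ^ (m + 1) * r * (g ^ (m + 1))⁻¹ = g * (g ^ m * r * (g ^ m)⁻¹) * g⁻¹ := by
            rw [pow_succ']; group
        _ = (g * (g * r * g⁻¹ * r⁻¹) ^ m * g⁻¹) * (g * r * g⁻¹ * r⁻¹) * r := by rw [ih]; group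
        _ = (g * r * g⁻¹ * r⁻¹) ^ (m + 1) * r := by rw [hfix, pow_succ]
  have h1 : g ^ 2 ^ n ∈ qz p := by
    refine hc ⟨pow_mem hg.1 _, mem_centralizer_iff.2 fun r hr => ?_⟩
    have h0 : g * r * g⁻¹ * r⁻¹ ∈ qz p := mul_mem (conj_mem (le_normalizer_o2 _) hg.1 hr) (inv_mem hr)
    have h2 := key r hr (2 ^ n)
    rw [hpow _ h0, one_mul] at h2
    exact (comm_of_conj h2).symm
  refine ⟨n + n, Subtype.ext ?_⟩
  show g ^ 2 ^ (n + n) = 1
  rw [pow_add, pow_mul]
  exact hpow _ h1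

/-- A nontrivial normal subgroup of a 2-group meets `Ω₁Z`. -/
theorem exists_mem_zc [Finite G] {S X : Subgroup G} (hS : IsPGroup 2 S) (hX : X ≤ S) (hn : S ≤ normalizer (X : Set G))
    (hX1 : X ≠ ⊥) : ∃ z ∈ X, z ∈ zc S ∧ z ≠ 1 := by
  have hX2 : IsPGroup 2 X := hS.to_le hX
  obtain ⟨z, hz, hz1, hzS⟩ := Half.exists_fixed (V := zc X) (hX2.to_le (MinSimple.VModule.zc_le X))
    (MinSimple.Basic.zc_ne_bot hX2 hX1) hS (hn.trans (MinSimple.VModule.normalizer_le_normalizer_zc X))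
  have hz' := mem_zc.1 hz
  exact ⟨z, hz'.1, mem_zc.2 ⟨hX hz'.1, fun y hy => mul_inv_eq_iff_eq_mul.1 (hzS y hy), hz'.2.2⟩, hz1⟩

/-! ### The frame -/

/-- The frame. -/
structure Sc {ι : Type} (S Q : Subgroup G) (V : ι → Subgroup G) (v : ι → G) : Prop where
  fr : Fr S V
  vV : ∀ i, v i ∈ V i
  v1 : ∀ i, v i ≠ 1
  perm : ∀ s ∈ S, ∀ i, ∃ j, (∀ x ∈ V i, s * x * s⁻¹ ∈ V j) ∧ s * v i * s⁻¹ = v j
  tr : ∀ i j, ∃ s ∈ S, s * v i * s⁻¹ = v j
  VK : ∀ i j, ∀ p ∈ V i, p ≠ 1 → V j ≤ KK p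
  KS : ∀ i, KK (v i) ≤ S
  QS : Q ≤ S
  QV : ∀ i, ∀ x ∈ V i, ∀ q ∈ Q, q * x = x * q
  QQ : centralizer (Q : Set G) ≤ Q
  NQ : ∀ N : Subgroup G, IsPGroup 2 N → (∀ i, ∀ x ∈ V i, ∀ n ∈ N, n * x = x * n) →
    (∀ c : G, (∀ i, ∀ x ∈ V i, c * x = x * c) → ∀ n ∈ N, c * n * c⁻¹ ∈ N) → N ≤ Q
  KQ : ∀ i, ∀ p ∈ V i, p ≠ 1 → KK p ≤ normalizer (Q : Set G)
  SQ : S ≤ normalizer (Q : Set G)

namespace Sc

variable {ι : Type} {S Q : Subgroup G} {V : ι → Subgroup G} {v : ι → G} (h : Sc S Q V v)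
include h

/-! #### The sum of the factors -/

theorem comm_Vo {j : ι} {a b : G} (ha : a ∈ V j) (hb : b ∈ Vo V j) : a * b = b * a := by
  refine cent_of_closure ?_ hb
  rintro y ⟨l, -, hy⟩
  exact h.fr.comm j l a ha y hy

theorem decomp (j : ι) {x : G} (hx : x ∈ ⨆ i, V i) : ∃ a ∈ V j, ∃ b ∈ Vo V j, x = a * b := by
  let D : Subgroup G :=
    { carrier := {x | ∃ a ∈ V j, ∃ b ∈ Vo V j, x = a * b}
      one_mem' := ⟨1, one_mem _, 1, one_mem _, by simp⟩
      mul_mem' := by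
        rintro _ _ ⟨a, ha, b, hb, rfl⟩ ⟨a', ha', b', hb', rfl⟩
        refine ⟨a * a', mul_mem ha ha', b * b', mul_mem hb hb', ?_⟩
        calc a * b * (a' * b') = a * (b * a') * b' := by group
          _ = a * (a' * b) * b' := by rw [h.comm_Vo ha' hb]
          _ = a * a' * (b * b') := by group
      inv_mem' := by
        rintro _ ⟨a, ha, b, hb, rfl⟩
        refine ⟨a⁻¹, inv_mem ha, b⁻¹, inv_mem hb, ?_⟩
        rw [← mul_inv_rev, h.comm_Vo ha hb] }
  have h1 : (⨆ i, V i) ≤ D := by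
    refine iSup_le fun i y hy => ?_
    by_cases hij : i = j
    · subst hij
      exact ⟨y, hy, 1, one_mem _, by simp⟩
    · exact ⟨1, one_mem _, y, le_Vo hij hy, by simp⟩
  exact h1 hx

theorem cent_sup {g x : G} (hg : ∀ i, ∀ x ∈ V i, g * x = x * g) (hx : x ∈ ⨆ i, V i) : g * x = x * g := by
  have h1 : (⨆ i, V i) ≤ centralizer ({g} : Set G) := iSup_le fun i x hx => mem_cent.2 (hg i x hx).symm
  exact (mem_cent.1 (h1 hx)).symm

theorem sup_comm {x y : G} (hx : x ∈ ⨆ i, V i) (hy : y ∈ ⨆ i, V i) : x * y = y * x := by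
  refine h.cent_sup (fun i z hz => ?_) hy
  exact (h.cent_sup (g := z) (fun j w hw => h.fr.comm i j z hz w hw) hx).symm

theorem sup_sq {x : G} (hx : x ∈ ⨆ i, V i) : x * x = 1 := by
  rw [iSup_eq_closure] at hx
  refine sq_of_closure ?_ ?_ hx
  · intro y hy
    obtain ⟨i, hi⟩ := Set.mem_iUnion.1 hy
    exact h.fr.sq i y hi
  · intro a ha b hb
    rw [← iSup_eq_closure] at ha hb
    exact h.sup_comm ha hb

theorem Q_sup {q x : G} (hq : q ∈ Q) (hx : x ∈ ⨆ i, V i) : q * x = x * q :=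
  h.cent_sup (fun i x hx => h.QV i x hx q hq) hx

variable [Finite G]

theorem KK_Vo {j : ι} {p g b : G} (hp : p ∈ V j) (hp1 : p ≠ 1) (hg : g ∈ KK p) (hb : b ∈ Vo V j) :
    g * b = b * g := h.fr.Vo_cent hp hp1 hb (h.fr.KK_le_q hp hp1 hg)

/-- an element of `⨆ V i` centralised by all `W_p` is trivial -/
theorem tot [Finite ι] {x : G} (hx : x ∈ ⨆ i, V i) (hK : ∀ j, ∀ p ∈ V j, p ≠ 1 → ∀ g ∈ KK p, g * x = x * g) :
    x = 1 := by
  classical
  have := Fintype.ofFinite ι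
  have key : ∀ s : Finset ι, ∀ x : G, x ∈ closure {x | ∃ j ∈ s, x ∈ V j} →
      (∀ j, ∀ p ∈ V j, p ≠ 1 → ∀ g ∈ KK p, g * x = x * g) → x = 1 := by
    intro s
    induction s using Finset.induction_on with
    | empty =>
      intro x hx _
      have : ({x | ∃ j ∈ (∅ : Finset ι), x ∈ V j} : Set G) = ∅ := by
        ext y
        simp
      rw [this, Subgroup.closure_empty, mem_bot] at hx
      exact hx
    | insert i s his ih =>
      intro x hx hK
      let D : Subgroup G :=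
        { carrier := {x | ∃ a ∈ V i, ∃ b ∈ closure {x | ∃ j ∈ s, x ∈ V j}, x = a * b}
          one_mem' := ⟨1, one_mem _, 1, one_mem _, by simp⟩
          mul_mem' := by
            rintro _ _ ⟨a, ha, b, hb, rfl⟩ ⟨a', ha', b', hb', rfl⟩
            refine ⟨a * a', mul_mem ha ha', b * b', mul_mem hb hb', ?_⟩
            have h1 : a' * b = b * a' := by
              refine cent_of_closure ?_ hb
              rintro y ⟨l, -, hy⟩
              exact h.fr.comm i l a' ha' y hy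
            calc a * b * (a' * b') = a * (b * a') * b' := by group
              _ = a * (a' * b) * b' := by rw [h1]
              _ = a * a' * (b * b') := by group
          inv_mem' := by
            rintro _ ⟨a, ha, b, hb, rfl⟩
            refine ⟨a⁻¹, inv_mem ha, b⁻¹, inv_mem hb, ?_⟩
            have h1 : a * b = b * a := by
              refine cent_of_closure ?_ hb
              rintro y ⟨l, -, hy⟩
              exact h.fr.comm i l a ha y hy
            rw [← mul_inv_rev, h1] }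
      have hD : closure {x | ∃ j ∈ insert i s, x ∈ V j} ≤ D := by
        rw [closure_le]
        rintro y ⟨j, hj, hy⟩
        rcases Finset.mem_insert.1 hj with rfl | hj
        · exact ⟨y, hy, 1, one_mem _, by simp⟩
        · exact ⟨1, one_mem _, y, subset_closure ⟨j, hj, hy⟩, by simp⟩
      obtain ⟨a, ha, b, hb, rfl⟩ := hD hx
      have hbVo : b ∈ Vo V i := by
        have h2 : closure {x | ∃ j ∈ s, x ∈ V j} ≤ Vo V i := by
          rw [closure_le]
          rintro y ⟨j, hj, hy⟩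
          exact le_Vo (by rintro rfl; exact his hj) hy
        exact h2 hb
      have ha1 : a = 1 := by
        by_contra ha1
        obtain ⟨p, hp, hp1, hap⟩ := h.fr.exists_other (i := i) a
        obtain ⟨g, hg, hgp⟩ := h.fr.move hp ha hp1 ha1 (Ne.symm hap)
        have h2 := hK i p hp hp1 g hg
        have h3 := h.KK_Vo hp hp1 hg hbVo
        have h4 : g * a = a * g := by
          have h5 : g * a * b = a * g * b := by
            calc g * a * b = g * (a * b) := by group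
              _ = a * b * g := h2
              _ = a * (b * g) := by group
              _ = a * g * b := by rw [← h3]; group
          exact mul_right_cancel h5
        rw [conj_of_comm h4] at hgp
        exact hp1 (by
          have := hgp.symm
          rwa [mul_eq_right] at this)
      subst ha1
      rw [one_mul]
      refine ih b hb fun j p hp hp1 g hg => ?_
      have := hK j p hp hp1 g hg
      rwa [one_mul] at this
  refine key Finset.univ x ?_ hK
  have h1 : (⨆ i, V i) ≤ closure {x | ∃ j ∈ (Finset.univ : Finset ι), x ∈ V j} :=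
    iSup_le fun i y hy => subset_closure ⟨i, Finset.mem_univ _, hy⟩
  exact h1 hx

/-! #### (F) -/

theorem V_le_Q (i : ι) : V i ≤ Q := by
  refine h.NQ _ (isPGroup_of_sq fun x hx => h.fr.sq i x hx) (fun j x hx n hn => h.fr.comm i j n hn x hx)
    fun c hc n hn => ?_
  rw [conj_of_comm (hc i n hn)]
  exact hn

theorem sup_le_Q : (⨆ i, V i) ≤ Q := iSup_le h.V_le_Q

omit [Finite G] in
theorem V_le_zc {i j : ι} (hij : j ≠ i) {p : G} (hp : p ∈ V i) (hp1 : p ≠ 1) : V j ≤ zc (qz p) := fun x hx =>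
  mem_zc.2 ⟨h.fr.VQ i j p hp hp1 hx, fun q hq => h.fr.Qc i j hij p hp hp1 q hq x hx, by
    rw [pow_two]; exact h.fr.sq j x hx⟩

/-- an element of `C_G(p)` normalises `Ω₁Z(Q_p)` -/
theorem zc_conj {p c x : G} (hc : c * p = p * c) (hx : x ∈ zc (qz p)) : c * x * c⁻¹ ∈ zc (qz p) :=
  conj_mem ((le_normalizer_o2 (cz p)).trans (MinSimple.VModule.normalizer_le_normalizer_zc _)) (mem_cent.2 hc) hx

omit [Finite G] in
theorem zc_V {i : ι} {p : G} (hp : p ∈ V i) (hp1 : p ≠ 1) {y : G} (hy : y ∈ zc (qz p)) (j : ι) {x : G}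
    (hx : x ∈ V j) : y * x = x * y := ((mem_zc.1 hy).2.1 x (h.fr.VQ i j p hp hp1 hx)).symm

theorem zc_le_Q {i : ι} {p : G} (hp : p ∈ V i) (hp1 : p ≠ 1) : zc (qz p) ≤ Q := by
  refine h.NQ _ ((o2_isPGroup _).to_le (MinSimple.VModule.zc_le _)) (fun j x hx n hn => h.zc_V hp hp1 hn j hx)
    fun c hc n hn => h.zc_conj (hc i p hp) hn

theorem qz_inf_le {i : ι} {p : G} (hp : p ∈ V i) {r : G} (hr : r ∈ qz p)
    (hrV : ∀ j, ∀ x ∈ V j, r * x = x * r) : r ∈ Q := by
  have h1 : qz p ⊓ centralizer ((⨆ i, V i : Subgroup G) : Set G) ≤ Q := by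
    refine h.NQ _ ((o2_isPGroup _).to_le inf_le_left) (fun j x hx n hn => ?_) fun c hc n hn => ?_
    · exact (mem_centralizer_iff.1 hn.2 x ((le_iSup V j) hx)).symm
    · refine ⟨conj_mem (le_normalizer_o2 _) (mem_cent.2 (hc i p hp)) hn.1, mem_centralizer_iff.2 fun x hx => ?_⟩
      have h2 := mem_centralizer_iff.1 hn.2 x hx
      have h3 : c * x = x * c := h.cent_sup hc hx
      have h4 : c⁻¹ * x = x * c⁻¹ := ((show Commute c x from h3).inv_left).eq
      calc x * (c * n * c⁻¹) = (x * c) * n * c⁻¹ := by group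
        _ = c * (x * n) * c⁻¹ := by rw [← h3]; group
        _ = c * n * (x * c⁻¹) := by rw [h2]; group
        _ = c * n * c⁻¹ * x := by rw [← h4]; group
  exact h1 ⟨hr, mem_centralizer_iff.2 fun x hx => (h.cent_sup hrV hx).symm⟩

/-- `U_r ∩ C(U_p) ≤ Q_p`, `p ∈ V j`, `r ∈ V i`, `i ≠ j` -/
theorem mem_qz_of {i j : ι} (hij : i ≠ j) {r p y : G} (hr : r ∈ V i) (hr1 : r ≠ 1) (hp : p ∈ V j)
    (hp1 : p ≠ 1) (hy : y ∈ zc (qz r)) (hyp : ∀ c ∈ zc (qz p), y * c = c * y) : y ∈ qz p := by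
  set N : Subgroup G := cz p ⊓ centralizer (zc (qz p) : Set G) with hN
  set A : Subgroup G := zc (qz r) ⊓ centralizer (zc (qz p) : Set G) with hA
  have hrp : r ∈ zc (qz p) := h.V_le_zc hij hp hp1 hr
  have hAN : A ≤ N := fun a ha => ⟨mem_cent.2 (h.zc_V hr hr1 ha.1 j hp), ha.2⟩
  have key : A ≤ qz p := by
    refine le_o2_of ((o2_isPGroup _).to_le (inf_le_left.trans (MinSimple.VModule.zc_le _))) hAN ?_ inf_le_left ?_
    · apply norm_of
      rintro n ⟨-, hn2⟩ a ⟨ha1, ha2⟩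
      refine ⟨h.zc_conj (mem_centralizer_iff.1 hn2 r hrp).symm ha1, ?_⟩
      exact (centralizer (zc (qz p) : Set G)).mul_mem (mul_mem hn2 ha2)
        ((centralizer (zc (qz p) : Set G)).inv_mem hn2)
    · apply norm_of
      rintro c hc n ⟨hn1, hn2⟩
      refine ⟨mul_mem (mul_mem hc hn1) ((cz p).inv_mem hc), mem_centralizer_iff.2 fun x hx => ?_⟩
      have hx' : c⁻¹ * x * c ∈ zc (qz p) := by
        have := h.zc_conj (c := c⁻¹) (mem_cent.1 ((cz p).inv_mem hc)) hx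
        rwa [inv_inv] at this
      have h1 := mem_centralizer_iff.1 hn2 _ hx'
      calc x * (c * n * c⁻¹) = c * ((c⁻¹ * x * c) * n) * c⁻¹ := by group
        _ = c * n * c⁻¹ * x := by rw [h1]; group
  exact key ⟨hy, mem_centralizer_iff.2 fun c hc => (hyp c hc).symm⟩

/-! #### (ZV) -/

omit [Finite G] in
theorem fixV [Finite G] {i : ι} {p b r : G} (hp : p ∈ V i) (hp1 : p ≠ 1) (hb : b ∈ V i) (hb1 : b ≠ 1) (hpb : p ≠ b)
    (hrp : r * p = p * r) (hrb : r * b = b * r) {x : G} (hx : x ∈ V i) : r * x = x * r := by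
  rcases h.fr.cases4 hp hb hp1 hb1 hpb hx with rfl | rfl | rfl | rfl
  · simp
  · exact hrp
  · exact hrb
  · calc r * (p * b) = (r * p) * b := by group
      _ = p * (r * b) := by rw [hrp]; group
      _ = p * b * r := by rw [hrb]; group

theorem mem_Q_of {i : ι} {p b r : G} (hp : p ∈ V i) (hp1 : p ≠ 1) (hb : b ∈ V i) (hb1 : b ≠ 1) (hpb : p ≠ b)
    (hr : r ∈ qz p) (hrb : r * b = b * r) : r ∈ Q := by
  refine h.qz_inf_le hp hr fun j x hx => ?_
  by_cases hj : j = i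
  · subst hj
    exact h.fixV hp hp1 hb hb1 hpb (mem_cent.1 (o2_le _ hr)) hrb hx
  · exact h.fr.Qc i j hj p hp hp1 r hr x hx

/-- `w ∈ W_p` moves `b ∈ V i`: `Q_p ⊆ Q ∪ w Q`. -/
theorem split {i : ι} {p b w : G} (hp : p ∈ V i) (hp1 : p ≠ 1) (hb : b ∈ V i) (hb1 : b ≠ 1) (hpb : p ≠ b)
    (hw : w ∈ KK p) (hwb : w * b * w⁻¹ = p * b) {r : G} (hr : r ∈ qz p) : r ∈ Q ∨ w⁻¹ * r ∈ Q := by
  have hwq := h.fr.KK_le_q hp hp1 hw
  have hpp := h.fr.sq i p hp
  have hpi : p⁻¹ = p := inv_eq_of_mul_eq_one_left hpp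
  have h2 := (mem_KK.1 (h.VK i i p hp hp1 hb)).2 r hr
  rcases (mem_zpowers_iff_of_sq hpp).1 h2 with h3 | h3
  · left
    refine h.mem_Q_of hp hp1 hb hb1 hpb hr ?_
    calc r * b = (b * r * b⁻¹ * r⁻¹)⁻¹ * (b * r) := by group
      _ = b * r := by rw [h3]; group
  · right
    refine h.mem_Q_of hp hp1 hb hb1 hpb (mul_mem (inv_mem hwq) hr) ?_
    have h4 : r * b * r⁻¹ = p * b := by
      calc r * b * r⁻¹ = (b * r * b⁻¹ * r⁻¹)⁻¹ * b := by group
        _ = p * b := by rw [h3, hpi]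
    apply comm_of_conj
    calc w⁻¹ * r * b * (w⁻¹ * r)⁻¹ = w⁻¹ * (r * b * r⁻¹) * w := by group
      _ = w⁻¹ * (w * b * w⁻¹) * w := by rw [h4, hwb]
      _ = b := by group

/-- `Ω₁Z(Q) ≤ Q_p` -/
theorem zz_mem_qz {i : ι} {p : G} (hp : p ∈ V i) (hp1 : p ≠ 1) {z : G} (hzz : z * z = 1)
    (hz : ∀ q ∈ Q, q * z = z * q) : z ∈ qz p := by
  obtain ⟨b, hb, hb1, hpb⟩ := h.fr.exists_other (i := i) p
  obtain ⟨w, hw, hwb⟩ := h.fr.move hp hb hp1 hb1 hpb
  have hzQ : z ∈ Q := h.QQ (mem_centralizer_iff.2 hz)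
  have hwq := h.fr.KK_le_q hp hp1 hw
  have hwn := h.KQ i p hp hp1 hw
  have hpp := h.fr.sq i p hp
  obtain ⟨z', hz'⟩ : ∃ z', z' = w * z * w⁻¹ := ⟨_, rfl⟩
  have hz'Q : z' ∈ Q := by rw [hz']; exact (mem_normalizer_iff.1 hwn z).1 hzQ
  have hz'c : ∀ q ∈ Q, q * z' = z' * q := by
    intro q hq
    have h1 : w⁻¹ * q * w ∈ Q := by
      have := (mem_normalizer_iff.1 (inv_mem hwn) q).1 hq
      rwa [inv_inv] at this
    have h2 := hz _ h1
    calc q * z' = w * ((w⁻¹ * q * w) * z) * w⁻¹ := by rw [hz']; group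
      _ = z' * q := by rw [h2, hz']; group
  have hzz' : z' * z' = 1 := by
    calc z' * z' = w * (z * z) * w⁻¹ := by rw [hz']; group
      _ = 1 := by rw [hzz]; group
  have hwp : w * p * w⁻¹ = p := conj_of_comm (Fr.KK_comm hw)
  have hww : w * w ∈ Q := by
    refine h.mem_Q_of hp hp1 hb hb1 hpb (mul_mem hwq hwq) (comm_of_conj ?_)
    calc w * w * b * (w * w)⁻¹ = w * (w * b * w⁻¹) * w⁻¹ := by group
      _ = w * (p * b) * w⁻¹ := by rw [hwb]
      _ = (w * p * w⁻¹) * (w * b * w⁻¹) := by group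
      _ = (p * p) * b := by rw [hwp, hwb]; group
      _ = b := by rw [hpp, one_mul]
  have hcz : z' * z = z * z' := hz z' hz'Q
  have hcQ : ∀ q ∈ Q, q * (z' * z) = z' * z * q := by
    intro q hq
    calc q * (z' * z) = (q * z') * z := by group
      _ = z' * (q * z) := by rw [hz'c q hq]; group
      _ = z' * z * q := by rw [hz q hq]; group
  have hwc : w * (z' * z) = z' * z * w := by
    apply comm_of_conj
    have h1 : w * w * z * (w * w)⁻¹ = z := conj_of_comm (hz _ hww)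
    calc w * (z' * z) * w⁻¹ = (w * w * z * (w * w)⁻¹) * (w * z * w⁻¹) := by rw [hz']; group
      _ = z * z' := by rw [h1, hz']
      _ = z' * z := hcz.symm
  have hcR : ∀ r ∈ qz p, r * (z' * z) = z' * z * r := by
    intro r hr
    rcases h.split hp hp1 hb hb1 hpb hw hwb hr with h1 | h1
    · exact hcQ r h1
    · calc r * (z' * z) = w * ((w⁻¹ * r) * (z' * z)) := by group
        _ = w * (z' * z) * (w⁻¹ * r) := by rw [hcQ _ h1]; group
        _ = z' * z * r := by rw [hwc]; group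
  apply YY_le (h.fr.c2 i p hp hp1)
  refine mem_YY.2 ⟨mem_cent.2 (h.QV i p hp z hzQ), fun r hr => ?_, fun r hr hr2 => ?_⟩
  · rcases h.split hp hp1 hb hb1 hpb hw hwb hr with h1 | h1
    · have h2 : z * r * z⁻¹ * r⁻¹ = 1 := by rw [← hz r h1]; group
      rw [h2]
      exact one_mem _
    · have h2 : z * r * z⁻¹ * r⁻¹ = z' * z := by
        have h3 := hz _ (inv_mem h1)
        have hzi : z⁻¹ = z := inv_eq_of_mul_eq_one_left hzz
        calc z * r * z⁻¹ * r⁻¹ = z * w * (w⁻¹ * r) * (z⁻¹ * (w⁻¹ * r)⁻¹) * w⁻¹ := by group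
          _ = z * w * (w⁻¹ * r) * ((w⁻¹ * r)⁻¹ * z) * w⁻¹ := by rw [hzi, ← h3]
          _ = z * (w * z * w⁻¹) := by group
          _ = z' * z := by rw [← hz', hcz]
      rw [h2]
      exact mem_centralizer_iff.2 hcR
  · refine conj_of_comm (hz r ?_).symm
    exact h.qz_inf_le hp hr fun j x hx => (mem_centralizer_iff.1 hr2 x (h.fr.VQ i j p hp hp1 hx)).symm

/-- an involution `z` centralising `Q` is centralised by all `W_p`, `p ∈ V j`, modulo `V j` -/
theorem exists_mod {j : ι} {z : G} (hzz : z * z = 1) (hz : ∀ q ∈ Q, q * z = z * q) :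
    ∃ e ∈ V j, ∀ p ∈ V j, p ≠ 1 → ∀ g ∈ KK p, g * (e * z) = e * z * g := by
  obtain ⟨a, ha, b, hb, ha1, hb1, hab⟩ := h.fr.exists_two j
  obtain ⟨wa, hwa, hwab⟩ := h.fr.move ha hb ha1 hb1 hab
  obtain ⟨wb, hwb, hwba⟩ := h.fr.move hb ha hb1 ha1 hab.symm
  have haz := h.fr.KK_act ha hwa (h.zz_mem_qz ha ha1 hzz hz)
  have hbz := h.fr.KK_act hb hwb (h.zz_mem_qz hb hb1 hzz hz)
  have haa := h.fr.sq j a ha
  have hbb := h.fr.sq j b hb
  have hcab := h.fr.comm j j a ha b hb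
  have h1 : wa * a * wa⁻¹ = a := conj_of_comm (Fr.KK_comm hwa)
  have h2 : wb * b * wb⁻¹ = b := conj_of_comm (Fr.KK_comm hwb)
  have key : ∃ e ∈ V j, wa * (e * z) * wa⁻¹ = e * z ∧ wb * (e * z) * wb⁻¹ = e * z := by
    rcases haz with haz | haz <;> rcases hbz with hbz | hbz
    · exact ⟨1, one_mem _, by rw [one_mul]; exact haz, by rw [one_mul]; exact hbz⟩
    · refine ⟨a, ha, ?_, ?_⟩
      · calc wa * (a * z) * wa⁻¹ = (wa * a * wa⁻¹) * (wa * z * wa⁻¹) := by group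
          _ = a * z := by rw [h1, haz]
      · calc wb * (a * z) * wb⁻¹ = (wb * a * wb⁻¹) * (wb * z * wb⁻¹) := by group
          _ = a * (b * b) * z := by rw [hwba, hbz, ← hcab]; group
          _ = a * z := by rw [hbb, mul_one]
    · refine ⟨b, hb, ?_, ?_⟩
      · calc wa * (b * z) * wa⁻¹ = (wa * b * wa⁻¹) * (wa * z * wa⁻¹) := by group
          _ = b * (a * a) * z := by rw [hwab, haz, hcab]; group
          _ = b * z := by rw [haa, mul_one]
      · calc wb * (b * z) * wb⁻¹ = (wb * b * wb⁻¹) * (wb * z * wb⁻¹) := by group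
          _ = b * z := by rw [h2, hbz]
    · refine ⟨a * b, mul_mem ha hb, ?_, ?_⟩
      · calc wa * (a * b * z) * wa⁻¹ = (wa * a * wa⁻¹) * (wa * b * wa⁻¹) * (wa * z * wa⁻¹) := by group
          _ = (a * a) * (b * a) * z := by rw [h1, hwab, haz]; group
          _ = a * b * z := by rw [haa, one_mul, hcab]
      · calc wb * (a * b * z) * wb⁻¹ = (wb * a * wb⁻¹) * (wb * b * wb⁻¹) * (wb * z * wb⁻¹) := by group
          _ = (b * a) * (b * b) * z := by rw [h2, hwba, hbz]; group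
          _ = a * b * z := by rw [hbb, mul_one, hcab]
  obtain ⟨e, he, h3, h4⟩ := key
  have hQz : ∀ q ∈ Q, q * (e * z) = e * z * q := by
    intro q hq
    calc q * (e * z) = (q * e) * z := by group
      _ = e * (q * z) := by rw [h.QV j e he q hq]; group
      _ = e * z * q := by rw [hz q hq]; group
  have h3' := comm_of_conj h3
  have h4' := comm_of_conj h4
  have key2 : ∀ p ∈ V j, p ≠ 1 → ∀ c ∈ V j, c ≠ 1 → p ≠ c → ∀ w ∈ KK p, w * c * w⁻¹ = p * c →
      w * (e * z) = e * z * w → ∀ g ∈ KK p, g * (e * z) = e * z * g := by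
    intro p hp hp1 c hc hc1 hpc w hw hwc hwz g hg
    rcases h.split hp hp1 hc hc1 hpc hw hwc (h.fr.KK_le_q hp hp1 hg) with h5 | h5
    · exact hQz g h5
    · calc g * (e * z) = w * ((w⁻¹ * g) * (e * z)) := by group
        _ = (w * (e * z)) * (w⁻¹ * g) := by rw [hQz _ h5]; group
        _ = e * z * g := by rw [hwz]; group
  have hA := key2 a ha ha1 b hb hb1 hab wa hwa hwab h3'
  have hB := key2 b hb hb1 a ha ha1 hab.symm wb hwb hwba h4'
  refine ⟨e, he, fun p hp hp1 g hg => ?_⟩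
  rcases h.fr.cases4 ha hb ha1 hb1 hab hp with h5 | rfl | rfl | rfl
  · exact absurd h5 hp1
  · exact hA g hg
  · exact hB g hg
  · have h6 : wb⁻¹ * (a * b) * wb⁻¹⁻¹ = a := by
      calc wb⁻¹ * (a * b) * wb⁻¹⁻¹ = wb⁻¹ * (wb * a * wb⁻¹) * wb := by rw [hwba, hcab]; group
        _ = a := by group
    have h7 := KK_conj (h := wb⁻¹) hg
    rw [h6] at h7
    have h8 := hA _ h7
    calc g * (e * z) = wb * ((wb⁻¹ * g * wb⁻¹⁻¹) * (wb⁻¹ * (e * z) * wb)) * wb⁻¹ := by group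
      _ = wb * ((wb⁻¹ * g * wb⁻¹⁻¹) * (wb⁻¹ * (wb * (e * z) * wb⁻¹) * wb)) * wb⁻¹ := by rw [h4]
      _ = wb * ((wb⁻¹ * g * wb⁻¹⁻¹) * (e * z)) * wb⁻¹ := by group
      _ = wb * (e * z * (wb⁻¹ * g * wb⁻¹⁻¹)) * wb⁻¹ := by rw [h8]
      _ = (wb * (e * z) * wb⁻¹) * g := by group
      _ = e * z * g := by rw [h4]

theorem exists_mod_all [Finite ι] {z : G} (hzz : z * z = 1) (hz : ∀ q ∈ Q, q * z = z * q) :
    ∃ e ∈ ⨆ i, V i, ∀ j, ∀ p ∈ V j, p ≠ 1 → ∀ g ∈ KK p, g * (e * z) = e * z * g := by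
  classical
  have := Fintype.ofFinite ι
  have key : ∀ s : Finset ι, ∃ e ∈ ⨆ i, V i, ∀ j ∈ s, ∀ p ∈ V j, p ≠ 1 → ∀ g ∈ KK p,
      g * (e * z) = e * z * g := by
    intro s
    induction s using Finset.induction_on with
    | empty => exact ⟨1, one_mem _, fun j hj => absurd hj (Finset.notMem_empty j)⟩
    | insert i s his ih =>
      obtain ⟨e, he, h1⟩ := ih
      have hzQ : z ∈ Q := h.QQ (mem_centralizer_iff.2 hz)
      have hez : e * z = z * e := hz e (h.sup_le_Q he)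
      have h2 : e * z * (e * z) = 1 := by
        calc e * z * (e * z) = (e * z) * (z * e) := by rw [hez]
          _ = e * (z * z) * e := by group
          _ = 1 := by rw [hzz, mul_one, h.sup_sq he]
      have h3 : ∀ q ∈ Q, q * (e * z) = e * z * q := by
        intro q hq
        calc q * (e * z) = (q * e) * z := by group
          _ = e * (q * z) := by rw [h.Q_sup hq he]; group
          _ = e * z * q := by rw [hz q hq]; group
      obtain ⟨f, hf, h4⟩ := h.exists_mod (j := i) h2 h3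
      refine ⟨f * e, mul_mem ((le_iSup V i) hf) he, fun j hj p hp hp1 g hg => ?_⟩
      rw [mul_assoc]
      rcases Finset.mem_insert.1 hj with rfl | hj
      · exact h4 p hp hp1 g hg
      · have hji : i ≠ j := fun e' => his (e' ▸ hj)
        have h5 : g * f = f * g := h.KK_Vo hp hp1 hg (le_Vo hji hf)
        calc g * (f * (e * z)) = (g * f) * (e * z) := by group
          _ = f * (g * (e * z)) := by rw [h5]; group
          _ = f * (e * z) * g := by rw [h1 j hj p hp hp1 g hg]; group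
  obtain ⟨e, he, h1⟩ := key Finset.univ
  exact ⟨e, he, fun j => h1 j (Finset.mem_univ j)⟩

/-- **(ZV)**: `Ω₁Z(Q) = V`. -/
theorem zv [Finite ι] {z : G} (hzz : z * z = 1) (hz : ∀ q ∈ Q, q * z = z * q) : z ∈ ⨆ i, V i := by
  obtain ⟨e, he, h1⟩ := h.exists_mod_all hzz hz
  set Y : Subgroup G := centralizer ((Q : Set G) ∪ {g | ∃ j, ∃ p ∈ V j, p ≠ 1 ∧ g ∈ KK p}) with hY
  have hYQ : Y ≤ Q := (centralizer_le Set.subset_union_left).trans h.QQ
  have hSY : S ≤ normalizer (Y : Set G) := by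
    apply norm_of
    intro s hs y hy
    refine mem_centralizer_iff.2 fun t ht => ?_
    have h2 : s⁻¹ * t * s ∈ ((Q : Set G) ∪ {g | ∃ j, ∃ p ∈ V j, p ≠ 1 ∧ g ∈ KK p}) := by
      rcases ht with ht | ⟨j, p, hp, hp1, ht⟩
      · left
        have := (mem_normalizer_iff.1 (h.SQ (inv_mem hs)) t).1 ht
        rwa [inv_inv] at this
      · right
        obtain ⟨l, hl, -⟩ := h.perm s⁻¹ (inv_mem hs) j
        refine ⟨l, s⁻¹ * p * s⁻¹⁻¹, hl p hp, fun h0 => hp1 ?_, ?_⟩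
        · calc p = s * (s⁻¹ * p * s⁻¹⁻¹) * s⁻¹ := by group
            _ = 1 := by rw [h0]; group
        · have := KK_conj (h := s⁻¹) ht
          rwa [inv_inv] at this ⊢
    have h3 := mem_centralizer_iff.1 hy _ h2
    calc t * (s * y * s⁻¹) = s * ((s⁻¹ * t * s) * y) * s⁻¹ := by group
      _ = s * y * s⁻¹ * t := by rw [h3]; group
  have hYb : Y = ⊥ := by
    by_contra hYb
    obtain ⟨c, hc, hcS, hc1⟩ := exists_mem_zc h.fr.S2 (hYQ.trans h.QS) hSY hYb
    apply hc1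
    exact h.tot (h.fr.zS hcS) fun j p hp hp1 g hg =>
      mem_centralizer_iff.1 hc g (Or.inr ⟨j, p, hp, hp1, hg⟩)
  have hez : e * z ∈ Y := by
    refine mem_centralizer_iff.2 fun t ht => ?_
    rcases ht with ht | ⟨j, p, hp, hp1, ht⟩
    · calc t * (e * z) = (t * e) * z := by group
        _ = e * (t * z) := by rw [h.Q_sup ht he]; group
        _ = e * z * t := by rw [hz t ht]; group
    · exact h1 j p hp hp1 t ht
  rw [hYb, mem_bot] at hez
  have h2 : z = e⁻¹ := eq_inv_of_mul_eq_one_right hez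
  rw [h2]
  exact inv_mem he

/-! #### LEMMA 1 -/

/-- **LEMMA 1.** -/
theorem one [Finite ι] {i : ι} {y a : G} (hy : y ∈ zc (qz (v i))) (ha1 : a ≠ 1)
    (hQ : ∀ q ∈ Q, q * y * q⁻¹ = y ∨ q * y * q⁻¹ = a * y) (hex : ∃ q ∈ Q, q * y * q⁻¹ = a * y) :
    a = v i := by
  obtain ⟨q₀, hq₀, hq₀y⟩ := hex
  have hvi := h.vV i
  have hvi1 := h.v1 i
  have hQv : ∀ q ∈ Q, q * v i = v i * q := fun q hq => h.QV i _ hvi q hq
  have haU : a ∈ zc (qz (v i)) := by
    have h1 : a = (q₀ * y * q₀⁻¹) * y⁻¹ := by rw [hq₀y]; group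
    rw [h1]
    exact mul_mem (h.zc_conj (hQv q₀ hq₀) hy) (inv_mem hy)
  have haa : a * a = 1 := by
    have := (mem_zc.1 haU).2.2
    rwa [pow_two] at this
  have hai : a⁻¹ = a := inv_eq_of_mul_eq_one_left haa
  have haQ : ∀ r ∈ Q, r * a = a * r := by
    intro r hr
    apply comm_of_conj
    have e1 : r * q₀ * y * (r * q₀)⁻¹ = (r * a * r⁻¹) * (r * y * r⁻¹) := by
      calc r * q₀ * y * (r * q₀)⁻¹ = r * (q₀ * y * q₀⁻¹) * r⁻¹ := by group
        _ = (r * a * r⁻¹) * (r * y * r⁻¹) := by rw [hq₀y]; group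
    have hne : r * a * r⁻¹ ≠ 1 := fun h0 => ha1 (by
      calc a = r⁻¹ * (r * a * r⁻¹) * r := by group
        _ = 1 := by rw [h0]; group)
    rcases hQ r hr with h1 | h1 <;> rcases hQ (r * q₀) (mul_mem hr hq₀) with h2 | h2
    · exfalso
      rw [e1, h1] at h2
      exact hne (mul_eq_right.1 h2)
    · rw [e1, h1] at h2
      exact mul_right_cancel h2
    · rw [e1, h1, ← mul_assoc] at h2
      have h3 := mul_eq_right.1 h2
      exact (eq_inv_of_mul_eq_one_left h3).trans hai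
    · exfalso
      rw [e1, h1] at h2
      exact hne (mul_eq_right.1 h2)
  have haV := h.zv haa haQ
  have hyV : ∀ j, ∀ x ∈ V j, y * x = x * y := fun j x hx => h.zc_V hvi hvi1 hy j hx
  -- the projections to `V j`, `j ≠ i`
  have claim : ∀ j, j ≠ i → a ∈ Vo V j := by
    intro j hj
    obtain ⟨a', ha', b, hb, hab⟩ := h.decomp j haV
    by_cases ha'1 : a' = 1
    · rw [hab, ha'1, one_mul]
      exact hb
    exfalso
    obtain ⟨p, hp, hp1, hap⟩ := h.fr.exists_other (i := j) a'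
    obtain ⟨w, hw, hwa⟩ := h.fr.move hp ha' hp1 ha'1 (Ne.symm hap)
    have hwq := h.fr.KK_le_q hp hp1 hw
    have hwp : w * p * w⁻¹ = p := conj_of_comm (Fr.KK_comm hw)
    have hpp := h.fr.sq j p hp
    have hwb : w * b * w⁻¹ = b := conj_of_comm (h.KK_Vo hp hp1 hw hb)
    have hwaa : w * a * w⁻¹ = p * a := by
      calc w * a * w⁻¹ = (w * a' * w⁻¹) * (w * b * w⁻¹) := by rw [hab]; group
        _ = p * a := by rw [hwa, hwb, hab]; group
    have hpa : p ≠ a := by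
      intro h0
      rw [← h0, hwp, hpp] at hwaa
      exact hp1 hwaa
    have hyp : y * p = p * y := hyV j p hp
    -- (1)
    have s1 : ∀ c ∈ zc (qz p), y * c = c * y := by
      intro c hc
      have hcQ := h.zc_le_Q hp hp1 hc
      rcases hQ c hcQ with h1 | h1
      · exact (comm_of_conj h1).symm
      · exfalso
        have h2 : a ∈ zc (qz p) := by
          have h3 : a = c * (y * c⁻¹ * y⁻¹) := by
            calc a = (a * y) * y⁻¹ := by group
              _ = c * (y * c⁻¹ * y⁻¹) := by rw [← h1]; group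
          rw [h3]
          exact mul_mem hc (h.zc_conj hyp (inv_mem hc))
        have h3 : w * a * w⁻¹ = a := conj_of_comm ((mem_zc.1 h2).2.1 w hwq)
        rw [h3] at hwaa
        exact hp1 (mul_eq_right.1 hwaa.symm)
    -- (2)
    have hyq : y ∈ qz p := h.mem_qz_of hj.symm hvi hvi1 hp hp1 hy s1
    -- (3), (4)
    have hea : ∀ e ∈ V j, e * a = a * e := fun e he => h.sup_comm ((le_iSup V j) he) haV
    obtain ⟨e, he, hwz⟩ : ∃ e ∈ V j, w * (e * y) * w⁻¹ = e * y := by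
      rcases h.fr.KK_act hp hw hyq with h1 | h1
      · exact ⟨1, one_mem _, by rw [one_mul]; exact h1⟩
      · refine ⟨a', ha', ?_⟩
        have h2 : p * a' = a' * p := h.fr.comm j j p hp a' ha'
        calc w * (a' * y) * w⁻¹ = (w * a' * w⁻¹) * (w * y * w⁻¹) := by group
          _ = a' * (p * p) * y := by rw [hwa, h1, h2]; group
          _ = a' * y := by rw [hpp, mul_one]
    have hwn := h.KQ j p hp hp1 hw
    have hq₁ : w * q₀ * w⁻¹ ∈ Q := (mem_normalizer_iff.1 hwn q₀).1 hq₀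
    have hwz' : w⁻¹ * (e * y) * w = e * y := by
      calc w⁻¹ * (e * y) * w = w⁻¹ * (w * (e * y) * w⁻¹) * w := by rw [hwz]
        _ = e * y := by group
    have orb : ∀ q ∈ Q, ∀ b : G, q * y * q⁻¹ = b * y → e * b = b * e → q * (e * y) * q⁻¹ = b * (e * y) := by
      intro q hq b h1 h2
      have h3 : q * e * q⁻¹ = e := conj_of_comm (h.QV j e he q hq)
      calc q * (e * y) * q⁻¹ = (q * e * q⁻¹) * (q * y * q⁻¹) := by group
        _ = (e * b) * y := by rw [h3, h1]; group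
        _ = b * (e * y) := by rw [h2]; group
    have h5 : (w * q₀ * w⁻¹) * (e * y) * (w * q₀ * w⁻¹)⁻¹ = p * a * (e * y) := by
      calc (w * q₀ * w⁻¹) * (e * y) * (w * q₀ * w⁻¹)⁻¹
          = w * (q₀ * (w⁻¹ * (e * y) * w) * q₀⁻¹) * w⁻¹ := by group
        _ = w * (a * (e * y)) * w⁻¹ := by rw [hwz', orb q₀ hq₀ a hq₀y (hea e he)]
        _ = (w * a * w⁻¹) * (w * (e * y) * w⁻¹) := by group
        _ = p * a * (e * y) := by rw [hwaa, hwz]
    rcases hQ _ hq₁ with h6 | h6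
    · have h7 := orb _ hq₁ 1 (by rw [one_mul]; exact h6) (by simp)
      rw [h5] at h7
      have h8 := mul_right_cancel h7
      exact hpa ((eq_inv_of_mul_eq_one_left h8).trans hai)
    · have h7 := orb _ hq₁ a h6 (hea e he)
      rw [h5] at h7
      have h8 := mul_right_cancel h7
      exact hp1 (mul_eq_right.1 h8)
  -- the projection to `V i`
  obtain ⟨a', ha', b, hb, hab⟩ := h.decomp i haV
  have hb1 : b = 1 := by
    have hbV : b ∈ ⨆ i, V i := (Vo_le (V := V) fun j _ => le_iSup V j) hb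
    refine h.tot hbV fun j p hp hp1 g hg => ?_
    by_cases hji : j = i
    · subst hji
      exact h.KK_Vo hp hp1 hg hb
    · have h1 : g * a = a * g := h.KK_Vo hp hp1 hg (claim j hji)
      have h2 : g * a' = a' * g := h.KK_Vo hp hp1 hg (le_Vo (Ne.symm hji) ha')
      have h3 : a' * (g * b) = a' * (b * g) := by
        calc a' * (g * b) = (a' * g) * b := by group
          _ = g * a := by rw [← h2, hab]; group
          _ = a' * (b * g) := by rw [h1, hab]; group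
      exact mul_left_cancel h3
  rw [hb1, mul_one] at hab
  by_contra hne
  obtain ⟨w, hw, hwa⟩ := h.fr.move hvi (hab ▸ ha') hvi1 ha1 (Ne.symm hne)
  have h1 : w * a * w⁻¹ = a := conj_of_comm ((mem_zc.1 haU).2.1 w (h.fr.KK_le_q hvi hvi1 hw))
  rw [h1] at hwa
  exact hvi1 (mul_eq_right.1 hwa.symm)

end Sc

end Cfsg.Agent.Omega.IId.Big.Syl
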