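import Mathlib

/-!
# A permutation of a 2-group on an elementary abelian group: an orbit of length two (bb OMEGA 18977, LEMMA 2)

* `exists_half` : a proper subgroup of a 2-group lies in a subgroup of index 2;
* `block` : the product over half of an orbit.
-/

set_option autoImplicit false

namespace Cfsg.Agent.Omega.IId.Big.Syl

open Subgroup

universe u

variable {G : Type u} [Group G]

/-- A proper subgroup of a finite 2-group lies in a subgroup of index 2. -/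
theorem exists_half [Finite G] {Q H : Subgroup G} (hQ : IsPGroup 2 Q) (hHQ : H ≤ Q) (hne : H ≠ Q) :
    ∃ R : Subgroup G, H ≤ R ∧ R ≤ Q ∧ R ≠ Q ∧ ∀ a ∈ Q, ∀ b ∈ Q, a ∉ R → b ∉ R → a * b ∈ R := by
  have hf : Fact (Nat.Prime 2) := ⟨Nat.prime_two⟩
  obtain ⟨n, hn⟩ := IsPGroup.iff_card.1 hQ
  obtain ⟨m, hm⟩ := IsPGroup.iff_card.1 (hQ.to_subgroup (H.subgroupOf Q))
  have hlt : m < n := by
    by_contra hcon
    have h1 : Nat.card Q ≤ Nat.card (H.subgroupOf Q) := by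
      rw [hn, hm]
      exact Nat.pow_le_pow_right (by norm_num) (not_lt.1 hcon)
    have h2 : H.subgroupOf Q = ⊤ := eq_top_of_le_card _ h1
    exact hne (le_antisymm hHQ (subgroupOf_eq_top.1 h2))
  obtain ⟨K, hK, hHK⟩ := Sylow.exists_subgroup_card_pow_prime_le (p := 2) (m := n - 1)
    (by rw [hn]; exact pow_dvd_pow 2 (Nat.sub_le n 1)) (H.subgroupOf Q) hm (by omega)
  have hidx : K.index = 2 := by
    have h1 := K.card_mul_index
    rw [hK, hn] at h1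
    have h2 : 2 ^ n = 2 ^ (n - 1) * 2 := by
      rw [← pow_succ]
      congr 1
      omega
    rw [h2] at h1
    exact Nat.eq_of_mul_eq_mul_left (pow_pos (by norm_num) _) h1
  refine ⟨K.map Q.subtype, ?_, ?_, ?_, ?_⟩
  · intro x hx
    exact ⟨⟨x, hHQ hx⟩, hHK (mem_subgroupOf.2 hx), rfl⟩
  · rintro _ ⟨x, -, rfl⟩
    exact x.2
  · intro h0
    have h1 : K = ⊤ := by
      rw [eq_top_iff]
      rintro x -
      have h2 : (x : G) ∈ K.map Q.subtype := by rw [h0]; exact x.2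
      obtain ⟨y, hy, hyx⟩ := h2
      have : y = x := Subtype.ext hyx
      exact this ▸ hy
    rw [h1, index_top] at hidx
    omega
  · intro a ha b hb haK hbK
    have h1 : (⟨a, ha⟩ : Q) ∉ K := fun h0 => haK ⟨_, h0, rfl⟩
    have h2 : (⟨b, hb⟩ : Q) ∉ K := fun h0 => hbK ⟨_, h0, rfl⟩
    have h3 : (⟨a, ha⟩ * ⟨b, hb⟩ : Q) ∈ K := by
      rw [mul_mem_iff_of_index_two hidx]
      exact iff_of_false h1 h2
    exact ⟨_, h3, rfl⟩

/-- **The product over half of an orbit.** -/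
theorem block [Finite G] {A Q N : Subgroup G} (hA : ∀ x ∈ A, ∀ y ∈ A, x * y = y * x) (hQ : IsPGroup 2 Q)
    (hn : ∀ q ∈ Q, ∀ x ∈ A, q * x * q⁻¹ ∈ A) {x : G} (hx : x ∈ A) (hmv : ∃ q ∈ Q, q * x * q⁻¹ ≠ x)
    (hN : x ∉ N) (hN' : ∀ q ∈ Q, q * x * q⁻¹ ≠ x → q * x * q⁻¹ ∈ N) :
    ∃ ν ∈ A, ∃ b ∈ A, b ≠ 1 ∧ (∀ q ∈ Q, q * ν * q⁻¹ = ν ∨ q * ν * q⁻¹ = b * ν) ∧
      ∃ q ∈ Q, q * ν * q⁻¹ = b * ν := by
  classical
  letI : CommGroup A := { (inferInstance : Group A) with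
    mul_comm := fun x y => Subtype.ext (hA x x.2 y y.2) }
  have hfin : Fintype A := Fintype.ofFinite A
  obtain ⟨q₀, hq₀, hq₀x⟩ := hmv
  have hcx : ∀ r : G, r ∈ centralizer ({x} : Set G) ↔ r * x * r⁻¹ = x := by
    intro r
    rw [mem_centralizer_iff]
    constructor
    · intro h1
      have h2 := h1 x rfl
      rw [← h2]
      group
    · intro h1 y hy
      rw [Set.mem_singleton_iff.1 hy]
      exact (mul_inv_eq_iff_eq_mul.1 h1).symm
  have hH : Q ⊓ centralizer ({x} : Set G) ≠ Q := by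
    intro h0
    have h1 : q₀ ∈ Q ⊓ centralizer ({x} : Set G) := by rw [h0]; exact hq₀
    exact hq₀x ((hcx q₀).1 h1.2)
  obtain ⟨R, hHR, hRQ, hRne, hR2⟩ := exists_half hQ inf_le_left hH
  have hR : ∀ r ∈ Q, r * x * r⁻¹ = x → r ∈ R := fun r hr h1 => hHR ⟨hr, (hcx r).2 h1⟩
  let φ : Q → A →* A := fun q =>
    { toFun := fun y => ⟨q * y * (q : G)⁻¹, hn q q.2 y y.2⟩
      map_one' := Subtype.ext (by simp)
      map_mul' := fun y z => Subtype.ext (by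
        show (q : G) * (y * z) * (q : G)⁻¹ = q * y * (q : G)⁻¹ * (q * z * (q : G)⁻¹)
        group) }
  have hφ : ∀ (q : Q) (y : A), ((φ q y : A) : G) = q * y * (q : G)⁻¹ := fun _ _ => rfl
  let B : Finset A := Finset.univ.filter (fun y => ∃ r ∈ R, (y : G) = r * x * r⁻¹)
  let B' : Finset A := Finset.univ.filter (fun y => ∃ r ∈ Q, r ∉ R ∧ (y : G) = r * x * r⁻¹)
  have mB : ∀ y : A, y ∈ B ↔ ∃ r ∈ R, (y : G) = r * x * r⁻¹ := fun y => by simp [B]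
  have mB' : ∀ y : A, y ∈ B' ↔ ∃ r ∈ Q, r ∉ R ∧ (y : G) = r * x * r⁻¹ := fun y => by simp [B']
  have key : ∀ (q : Q) (C D : Finset A), (∀ y ∈ C, φ q y ∈ D) → (∀ y ∈ D, ∃ z ∈ C, φ q z = y) →
      φ q (∏ y ∈ C, y) = ∏ y ∈ D, y := by
    intro q C D h1 h2
    rw [map_prod]
    refine Finset.prod_bij (fun y _ => φ q y) h1 ?_ (fun y hy => ?_) (fun _ _ => rfl)
    · intro y _ z _ h3
      have h4 : (q : G) * y * (q : G)⁻¹ = q * z * (q : G)⁻¹ := congrArg Subtype.val h3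
      exact Subtype.ext (mul_left_cancel (mul_right_cancel h4))
    · obtain ⟨z, hz, hzy⟩ := h2 y hy
      exact ⟨z, hz, hzy⟩
  obtain ⟨ν, hν⟩ : ∃ ν : A, ν = ∏ y ∈ B, y := ⟨_, rfl⟩
  obtain ⟨ν', hν'⟩ : ∃ ν' : A, ν' = ∏ y ∈ B', y := ⟨_, rfl⟩
  have k1 : ∀ q : Q, (q : G) ∈ R → φ q ν = ν := by
    intro q hq
    rw [hν]
    refine key q B B (fun y hy => ?_) fun y hy => ?_
    · obtain ⟨r, hr, hyr⟩ := (mB y).1 hy
      refine (mB _).2 ⟨q * r, mul_mem hq hr, ?_⟩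
      rw [hφ, hyr]
      group
    · obtain ⟨r, hr, hyr⟩ := (mB y).1 hy
      refine ⟨φ q⁻¹ y, (mB _).2 ⟨(q : G)⁻¹ * r, mul_mem (inv_mem hq) hr, ?_⟩, Subtype.ext ?_⟩
      · rw [hφ, hyr]
        simp [mul_assoc]
      · rw [hφ, hφ]
        simp [mul_assoc]
  have k2 : ∀ q : Q, (q : G) ∉ R → φ q ν = ν' := by
    intro q hq
    rw [hν, hν']
    refine key q B B' (fun y hy => ?_) fun y hy => ?_
    · obtain ⟨r, hr, hyr⟩ := (mB y).1 hy
      refine (mB' _).2 ⟨q * r, mul_mem q.2 (hRQ hr), fun h0 => hq ?_, ?_⟩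
      · have := mul_mem h0 (inv_mem hr)
        rwa [mul_inv_cancel_right] at this
      · rw [hφ, hyr]
        group
    · obtain ⟨r, hrQ, hr, hyr⟩ := (mB' y).1 hy
      refine ⟨φ q⁻¹ y, (mB _).2 ⟨(q : G)⁻¹ * r, hR2 _ (inv_mem q.2) _ hrQ (fun h0 => hq ?_) hr, ?_⟩,
        Subtype.ext ?_⟩
      · have := inv_mem h0
        rwa [inv_inv] at this
      · rw [hφ, hyr]
        simp [mul_assoc]
      · rw [hφ, hφ]
        simp [mul_assoc]
  have hxB : (⟨x, hx⟩ : A) ∈ B := (mB _).2 ⟨1, one_mem _, by simp⟩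
  have hνN : ν = ⟨x, hx⟩ * ∏ y ∈ B.erase ⟨x, hx⟩, y := by
    rw [hν, Finset.mul_prod_erase B (fun y => y) hxB]
  have h1 : (∏ y ∈ B.erase ⟨x, hx⟩, y) ∈ N.subgroupOf A := by
    refine Subgroup.prod_mem _ fun y hy => ?_
    obtain ⟨hyx, hyB⟩ := Finset.mem_erase.1 hy
    obtain ⟨r, hr, hyr⟩ := (mB y).1 hyB
    rw [mem_subgroupOf, hyr]
    exact hN' r (hRQ hr) fun h0 => hyx (Subtype.ext (by rw [hyr, h0]))
  have h2 : ν' ∈ N.subgroupOf A := by
    rw [hν']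
    refine Subgroup.prod_mem _ fun y hy => ?_
    obtain ⟨r, hrQ, hr, hyr⟩ := (mB' y).1 hy
    rw [mem_subgroupOf, hyr]
    exact hN' r hrQ fun h0 => hr (hR r hrQ h0)
  have hbne : ν' * ν⁻¹ ≠ 1 := by
    intro h0
    have h3 : ν' = ν := mul_inv_eq_one.1 h0
    rw [h3, hνN] at h2
    have h4 : (⟨x, hx⟩ : A) ∈ N.subgroupOf A := by
      have := mul_mem h2 (inv_mem h1)
      rwa [mul_inv_cancel_right] at this
    exact hN (mem_subgroupOf.1 h4)
  have e1 : ((ν' * ν⁻¹ : A) : G) * (ν : G) = ν' := by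
    simp
  refine ⟨ν, ν.2, (ν' * ν⁻¹ : A), (ν' * ν⁻¹ : A).2, fun h0 => hbne (Subtype.ext h0), fun q hq => ?_, ?_⟩
  · rw [e1]
    by_cases hqR : q ∈ R
    · left
      have := congrArg Subtype.val (k1 ⟨q, hq⟩ hqR)
      exact this
    · right
      have := congrArg Subtype.val (k2 ⟨q, hq⟩ hqR)
      exact this
  · obtain ⟨q, hq, hqR⟩ : ∃ q ∈ Q, q ∉ R := by
      by_contra hcon
      push Not at hcon
      exact hRne (le_antisymm hRQ hcon)
    refine ⟨q, hq, ?_⟩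
    rw [e1]
    have := congrArg Subtype.val (k2 ⟨q, hq⟩ hqR)
    exact this

end Cfsg.Agent.Omega.IId.Big.Syl
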