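import Cfsg.Agent.Omega.IId.Big.SylA
import Cfsg.Agent.Omega.IId.Big.SylBlock
import Cfsg.Agent.Omega.IId.Big.RedTool

/-!
# WrBig, `q = 2`, CASE 2 is impossible (bb OMEGA 18977, helper245), II: LEMMA 2, LEMMA 3 and the theorem

In the frame `Sc S Q V v`, `t ∈ C_G(v i)` normalising `N_S(V i) = C_S(v i)`:

* `Sc.cent_Vo` : `Q^t` centralises `V^i = Vo V i`;
* `Sc.perm_t` : **LEMMA 2** : `t` permutes the `v l`, `l ≠ i`;
* `Sc.norm_sup` : **LEMMA 3** : `t` normalises `V`;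
* `Sc.sylow` : **THEOREM** : `C_S(v i)` is a Sylow 2-subgroup of `C_G(v i)`.
-/

set_option autoImplicit false
set_option linter.unusedSectionVars false

namespace Cfsg.Agent.Omega.IId.Big.Syl

open Subgroup Cfsg
open Cfsg.Agent.ZN (o2 zc)
open Cfsg.Agent.MinSimple.VModule (le_o2 le_normalizer_o2 mem_zc o2_isPGroup o2_le)
open Triangle (KK KK_conj KK_le_o2 mem_cent mem_KK mem_zpowers_iff_of_sq cent_conj o2_cent_conj)

universe u

variable {G : Type u} [Group G]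

theorem exists_conj_le [Finite G] (S : Sylow 2 G) {K X : Subgroup G} (hSK : (S : Subgroup G) ≤ K)
    (hX : IsPGroup 2 X) (hXK : X ≤ K) : ∃ k ∈ K, ∀ x ∈ X, k * x * k⁻¹ ∈ (S : Subgroup G) := by
  have hp : Fact (Nat.Prime 2) := ⟨Nat.prime_two⟩
  obtain ⟨T, hT⟩ := (S.isPGroup'.comap_subtype (K := K)).exists_le_sylow
  have hTU : ∀ t : K, t ∈ T → (t : G) ∈ (S : Subgroup G) := by
    intro t ht
    have h1 : (T : Subgroup K).map K.subtype = (S : Subgroup G) := by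
      refine S.is_maximal' (T.isPGroup'.map _) fun u hu => ?_
      exact ⟨⟨u, hSK hu⟩, hT (mem_subgroupOf.2 hu), rfl⟩
    rw [← h1]
    exact ⟨t, ht, rfl⟩
  obtain ⟨R, hR⟩ := (hX.comap_subtype (K := K)).exists_le_sylow
  obtain ⟨g, hg⟩ := MulAction.exists_smul_eq K R T
  refine ⟨g, g.2, fun v hv => ?_⟩
  have h1 : (⟨v, hXK hv⟩ : K) ∈ R := hR (mem_subgroupOf.2 hv)
  have h2 : g * (⟨v, hXK hv⟩ : K) * g⁻¹ ∈ (T : Subgroup K) := by
    rw [← hg]
    exact smul_mem_pointwise_smul _ (MulAut.conj g) _ h1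
  exact hTU _ h2

namespace Sc

variable {ι : Type} {S Q : Subgroup G} {V : ι → Subgroup G} {v : ι → G} (h : Sc S Q V v)
include h

theorem Vo_le_sup {i : ι} : Vo V i ≤ ⨆ i, V i := Vo_le (V := V) fun j _ => le_iSup V j

theorem S_sup {s : G} (hs : s ∈ S) {x : G} (hx : x ∈ ⨆ i, V i) : s * x * s⁻¹ ∈ ⨆ i, V i := by
  have h1 : (⨆ i, V i) ≤ (⨆ i, V i).comap (MulAut.conj s).toMonoidHom := by
    refine iSup_le fun i y hy => ?_
    obtain ⟨j, hj, -⟩ := h.perm s hs i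
    exact (le_iSup V j) (hj y hy)
  exact h1 hx

variable [Finite G]

theorem disjVo {l : ι} {x : G} (hx : x ∈ V l) (hx' : x ∈ Vo V l) : x = 1 := by
  by_contra hx1
  obtain ⟨p, hp, hp1, hxp⟩ := h.fr.exists_other (i := l) x
  obtain ⟨w, hw, hwx⟩ := h.fr.move hp hx hp1 hx1 (Ne.symm hxp)
  rw [conj_of_comm (h.KK_Vo hp hp1 hw hx')] at hwx
  exact hp1 (mul_eq_right.1 hwx.symm)

theorem v_inj {i j : ι} (hij : v i = v j) : i = j := by
  by_contra hne
  exact h.v1 i (h.fr.disj hne (h.vV i) (hij ▸ h.vV j))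

theorem fix_line {s : G} (hs : s ∈ S) {i : ι} (hsi : s * v i = v i * s) {x : G} (hx : x ∈ V i) :
    s * x * s⁻¹ ∈ V i := by
  obtain ⟨j, hj, hvj⟩ := h.perm s hs i
  rw [conj_of_comm hsi] at hvj
  have := h.v_inj hvj
  subst this
  exact hj x hx

theorem fix_act {s : G} (hs : s ∈ S) {i : ι} (hsi : s * v i = v i * s) {x : G} (hx : x ∈ V i) :
    s * x * s⁻¹ = x ∨ s * x * s⁻¹ = v i * x := by
  by_cases hx1 : x = 1
  · left
    rw [hx1]
    simp
  by_cases hxv : x = v i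
  · left
    rw [hxv]
    exact conj_of_comm hsi
  rcases h.fr.cases4 (h.vV i) hx (h.v1 i) hx1 (Ne.symm hxv) (h.fix_line hs hsi hx) with h1 | h1 | h1 | h1
  · exfalso
    apply hx1
    calc x = s⁻¹ * (s * x * s⁻¹) * s := by group
      _ = 1 := by rw [h1]; group
  · exfalso
    apply hxv
    calc x = s⁻¹ * (s * x * s⁻¹) * s := by group
      _ = s⁻¹ * (v i * s) := by rw [h1]; group
      _ = v i := by rw [← hsi]; group
  · exact Or.inl h1
  · exact Or.inr h1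

theorem sup_le_qz {i : ι} {p : G} (hp : p ∈ V i) (hp1 : p ≠ 1) : (⨆ i, V i) ≤ qz p :=
  iSup_le fun j => h.fr.VQ i j p hp hp1

theorem KK_sup {i : ι} {p w y : G} (hp : p ∈ V i) (hp1 : p ≠ 1) (hw : w ∈ KK p) (hy : y ∈ ⨆ i, V i) :
    w * y * w⁻¹ = y ∨ w * y * w⁻¹ = p * y := h.fr.KK_act hp hw (h.sup_le_qz hp hp1 hy)

theorem Vo_le_zc (i : ι) : Vo V i ≤ zc (qz (v i)) := Vo_le fun _ hj => h.V_le_zc hj (h.vV i) (h.v1 i)

theorem T_Vo {s : G} (hs : s ∈ S) {i : ι} (hsi : s * v i = v i * s) {x : G} (hx : x ∈ Vo V i) :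
    s * x * s⁻¹ ∈ Vo V i := by
  have h1 : Vo V i ≤ (Vo V i).comap (MulAut.conj s).toMonoidHom := by
    refine Vo_le fun j hj y hy => ?_
    obtain ⟨m, hm, hvm⟩ := h.perm s hs j
    have hmi : m ≠ i := by
      rintro rfl
      apply hj
      apply h.v_inj
      calc v j = s⁻¹ * (s * v j * s⁻¹) * s := by group
        _ = s⁻¹ * (v m * s) := by rw [hvm]; group
        _ = v m := by rw [← hsi]; group
    exact le_Vo hmi (hm y hy)
  exact h1 hx

/-- The centres of the elements of `S` acting as transvections on `∏_{m ∈ I} V m`. -/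
theorem tv {I : Set ι} {s u : G} (hs : s ∈ S)
    (h1 : ∀ m ∈ I, ∀ x ∈ V m, s * x * s⁻¹ = x ∨ s * x * s⁻¹ = u * x)
    (h2 : ∃ m ∈ I, ∃ x ∈ V m, s * x * s⁻¹ ≠ x) : ∃ m ∈ I, u = v m := by
  obtain ⟨m, hm, x, hx, hxs⟩ := h2
  have hux : s * x * s⁻¹ = u * x := (h1 m hm x hx).resolve_left hxs
  have hu1 : u ≠ 1 := fun h0 => hxs (by rw [hux, h0, one_mul])
  obtain ⟨n, hn, hvn⟩ := h.perm s hs m
  by_cases hnm : n = m
  · subst hnm
    refine ⟨n, hm, ?_⟩
    rcases h.fix_act hs (comm_of_conj hvn) hx with h3 | h3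
    · exact absurd h3 hxs
    · rw [hux] at h3
      exact mul_right_cancel h3
  · exfalso
    have key : ∀ y ∈ V m, y ≠ 1 → s * y * s⁻¹ = u * y := by
      intro y hy hy1
      refine (h1 m hm y hy).resolve_left fun h0 => hy1 ?_
      exact h.fr.disj (Ne.symm hnm) hy (h0 ▸ hn y hy)
    obtain ⟨a, ha, b, hb, ha1, hb1, hab⟩ := h.fr.exists_two m
    have hab1 : a * b ≠ 1 := by
      intro h0
      apply hab
      rw [eq_inv_of_mul_eq_one_left h0]
      exact inv_eq_of_mul_eq_one_left (h.fr.sq m b hb)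
    have e1 := key a ha ha1
    have e2 := key b hb hb1
    have e3 := key (a * b) (mul_mem ha hb) hab1
    have e4 : u * (a * b) = u * a * (u * b) := by
      rw [← e3, ← e1, ← e2]
      group
    apply hu1
    have e5 : a * b = a * (u * b) := by
      apply mul_left_cancel (a := u)
      rw [e4]
      group
    exact (mul_eq_right.1 (mul_left_cancel e5).symm)

variable [Finite ι] {i : ι} {t : G} (ht : t * v i = v i * t)
  (htn : t ∈ normalizer ((S ⊓ cz (v i) : Subgroup G) : Set G))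

omit [Finite ι] in
include ht htn in
theorem conj_T {s : G} (hs : s ∈ S) (hsi : s * v i = v i * s) :
    t * s * t⁻¹ ∈ S ∧ t * s * t⁻¹ * v i = v i * (t * s * t⁻¹) := by
  have h1 := (mem_normalizer_iff.1 htn s).1 (mem_inf.2 ⟨hs, mem_cent.2 hsi⟩)
  exact ⟨h1.1, mem_cent.1 h1.2⟩

omit h [Finite G] [Finite ι] in
include ht in
theorem inv_ht : t⁻¹ * v i = v i * t⁻¹ := ((show Commute t (v i) from ht).inv_left).eq

include ht htn in
/-- `Q^t` centralises `V^i`. -/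
theorem cent_Vo {x : G} (hx : x ∈ Vo V i) {q : G} (hq : q ∈ Q) : t * q * t⁻¹ * x = x * (t * q * t⁻¹) := by
  by_contra hcon
  set Q' : Subgroup G := Q.map (MulAut.conj t).toMonoidHom with hQ'
  have hQS : ∀ q' ∈ Q', q' ∈ S ∧ q' * v i = v i * q' := by
    rintro _ ⟨r, hr, rfl⟩
    exact h.conj_T ht htn (h.QS hr) (h.QV i _ (h.vV i) r hr)
  have hQ'2 : IsPGroup 2 Q' := (h.fr.S2.to_le h.QS).map _
  obtain ⟨l, hli, y, hy, q', hq', hqy⟩ : ∃ l, l ≠ i ∧ ∃ y ∈ V l, ∃ q' ∈ Q', q' * y ≠ y * q' := by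
    by_contra hc
    push Not at hc
    apply hcon
    refine cent_of_closure ?_ hx
    rintro y ⟨l, hl, hy⟩
    exact hc l hl y hy _ ⟨q, hq, rfl⟩
  obtain ⟨ν, hν, b, hb, hb1, h1, q₁, hq₁, h2⟩ : ∃ ν ∈ Vo V i, ∃ b ∈ Vo V i, b ≠ 1 ∧
      (∀ q ∈ Q', q * ν * q⁻¹ = ν ∨ q * ν * q⁻¹ = b * ν) ∧ ∃ q ∈ Q', q * ν * q⁻¹ = b * ν := by
    by_cases hmv : ∃ q ∈ Q', q * v l * q⁻¹ ≠ v l
    · refine block (A := Vo V i) (N := Vo V l) (fun x hx y hy => h.sup_comm (h.Vo_le_sup hx) (h.Vo_le_sup hy))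
        hQ'2 (fun q hq x hx => h.T_Vo (hQS q hq).1 (hQS q hq).2 hx) (le_Vo hli (h.vV l)) hmv
        (fun h0 => h.v1 l (h.disjVo (h.vV l) h0)) fun q hq hne => ?_
      obtain ⟨m, hm, hvm⟩ := h.perm q (hQS q hq).1 l
      rw [hvm]
      refine le_Vo (fun e => hne ?_) (h.vV m)
      rw [hvm, e]
    · push Not at hmv
      refine ⟨y, le_Vo hli hy, v l, le_Vo hli (h.vV l), h.v1 l,
        fun q hq => h.fix_act (hQS q hq).1 (comm_of_conj (hmv q hq)) hy, q', hq', ?_⟩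
      exact (h.fix_act (hQS q' hq').1 (comm_of_conj (hmv q' hq')) hy).resolve_left
        fun h0 => hqy (comm_of_conj h0)
  have hν' : t⁻¹ * ν * t ∈ zc (qz (v i)) := by
    have := h.zc_conj (inv_ht ht) (h.Vo_le_zc i hν)
    rwa [inv_inv] at this
  have h3 : t⁻¹ * b * t = v i := by
    refine h.one hν' ?_ ?_ ?_
    · intro h0
      apply hb1
      calc b = t * (t⁻¹ * b * t) * t⁻¹ := by group
        _ = 1 := by rw [h0]; group
    · intro r hr
      rcases h1 (t * r * t⁻¹) ⟨r, hr, rfl⟩ with h4 | h4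
      · left
        calc r * (t⁻¹ * ν * t) * r⁻¹ = t⁻¹ * (t * r * t⁻¹ * ν * (t * r * t⁻¹)⁻¹) * t := by group
          _ = t⁻¹ * ν * t := by rw [h4]
      · right
        calc r * (t⁻¹ * ν * t) * r⁻¹ = t⁻¹ * (t * r * t⁻¹ * ν * (t * r * t⁻¹)⁻¹) * t := by group
          _ = t⁻¹ * b * t * (t⁻¹ * ν * t) := by rw [h4]; group
    · obtain ⟨r, hr, rfl⟩ := hq₁
      have h4 : t * r * t⁻¹ * ν * (t * r * t⁻¹)⁻¹ = b * ν := h2
      refine ⟨r, hr, ?_⟩
      calc r * (t⁻¹ * ν * t) * r⁻¹ = t⁻¹ * (t * r * t⁻¹ * ν * (t * r * t⁻¹)⁻¹) * t := by group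
        _ = t⁻¹ * b * t * (t⁻¹ * ν * t) := by rw [h4]; group
  have h4 : b = v i := by
    calc b = t * (t⁻¹ * b * t) * t⁻¹ := by group
      _ = t * v i * t⁻¹ := by rw [h3]
      _ = v i := conj_of_comm ht
  exact h.v1 i (h.disjVo (h.vV i) (h4 ▸ hb))

include ht htn in
theorem conj_Vo' {x : G} (hx : x ∈ Vo V i) : t⁻¹ * x * t ∈ ⨆ i, V i := by
  refine h.zv ?_ fun q hq => ?_
  · calc t⁻¹ * x * t * (t⁻¹ * x * t) = t⁻¹ * (x * x) * t := by group
      _ = 1 := by rw [h.sup_sq (h.Vo_le_sup hx)]; group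
  · have h1 := h.cent_Vo ht htn hx hq
    calc q * (t⁻¹ * x * t) = t⁻¹ * (t * q * t⁻¹ * x) * t := by group
      _ = t⁻¹ * x * t * q := by rw [h1]; group

include ht htn in
theorem conj_Vo {x : G} (hx : x ∈ Vo V i) : t * x * t⁻¹ ∈ ⨆ i, V i := by
  have := h.conj_Vo' (inv_ht ht) (inv_mem htn) hx
  rwa [inv_inv] at this

omit [Finite ι] in
theorem Vm {x : G} (hx : x ∈ ⨆ i, V i) (hz : x ∈ zc (qz (v i))) : ∃ b ∈ Vo V i, x = b ∨ x = v i * b := by
  obtain ⟨a, ha, b, hb, hab⟩ := h.decomp i hx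
  have haz : a ∈ zc (qz (v i)) := by
    have h1 : a = x * b⁻¹ := by rw [hab]; group
    rw [h1]
    exact mul_mem hz (inv_mem (h.Vo_le_zc i hb))
  refine ⟨b, hb, ?_⟩
  by_cases ha1 : a = 1
  · left
    rw [hab, ha1, one_mul]
  · right
    rw [hab]
    congr 1
    by_contra hne
    obtain ⟨w, hw, hwa⟩ := h.fr.move (h.vV i) ha (h.v1 i) ha1 (Ne.symm hne)
    rw [conj_of_comm ((mem_zc.1 haz).2.1 w (h.fr.KK_le_q (h.vV i) (h.v1 i) hw))] at hwa
    exact h.v1 i (mul_eq_right.1 hwa.symm)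

include ht htn in
/-- **LEMMA 2.** -/
theorem perm_t {l : ι} (hl : l ≠ i) : ∃ m, m ≠ i ∧ t * v l * t⁻¹ = v m := by
  obtain ⟨b, hb, hb1, hvb⟩ := h.fr.exists_other (i := l) (v l)
  obtain ⟨w, hw, hwb⟩ := h.fr.move (h.vV l) hb (h.v1 l) hb1 hvb
  have hwi : w * v i = v i * w := h.KK_Vo (h.vV l) (h.v1 l) hw (le_Vo hl.symm (h.vV i))
  obtain ⟨hgS, hgi⟩ := h.conj_T ht htn (h.KS l hw) hwi
  obtain ⟨m, hm, hum⟩ := h.tv (I := {m | m ≠ i}) (u := t * v l * t⁻¹) hgS (fun m hm x hx => by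
    have hy := h.conj_Vo' ht htn (le_Vo hm hx)
    rcases h.KK_sup (h.vV l) (h.v1 l) hw hy with h1 | h1
    · left
      calc t * w * t⁻¹ * x * (t * w * t⁻¹)⁻¹ = t * (w * (t⁻¹ * x * t) * w⁻¹) * t⁻¹ := by group
        _ = x := by rw [h1]; group
    · right
      calc t * w * t⁻¹ * x * (t * w * t⁻¹)⁻¹ = t * (w * (t⁻¹ * x * t) * w⁻¹) * t⁻¹ := by group
        _ = t * v l * t⁻¹ * x := by rw [h1]; group) (by
    by_contra hc
    push Not at hc
    have h1 : ∀ x ∈ Vo V i, t * w * t⁻¹ * x = x * (t * w * t⁻¹) := by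
      intro x hx
      refine cent_of_closure ?_ hx
      rintro y ⟨m, hm, hy⟩
      exact comm_of_conj (hc m hm y hy)
    have h2 := h.conj_Vo ht htn (le_Vo hl hb)
    have h3 := h.zc_conj ht (h.Vo_le_zc i (le_Vo hl hb))
    obtain ⟨b', hb', h4⟩ := h.Vm h2 h3
    have h5 : t * w * t⁻¹ * (t * b * t⁻¹) = t * b * t⁻¹ * (t * w * t⁻¹) := by
      rcases h4 with h4 | h4
      · rw [h4]
        exact h1 b' hb'
      · rw [h4]
        calc t * w * t⁻¹ * (v i * b') = (t * w * t⁻¹ * v i) * b' := by group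
          _ = v i * (t * w * t⁻¹ * b') := by rw [hgi]; group
          _ = v i * b' * (t * w * t⁻¹) := by rw [h1 b' hb']; group
    have h6 : w * b * w⁻¹ = b := by
      calc w * b * w⁻¹ = t⁻¹ * ((t * w * t⁻¹ * (t * b * t⁻¹)) * (t * w * t⁻¹)⁻¹) * t := by group
        _ = b := by rw [h5]; group
    rw [h6] at hwb
    exact h.v1 l (mul_eq_right.1 hwb.symm))
  exact ⟨m, hm, hum⟩

include ht htn in
/-- **LEMMA 3.** -/
theorem norm_sup [Nontrivial ι] {x : G} (hx : x ∈ ⨆ i, V i) : t * x * t⁻¹ ∈ ⨆ i, V i := by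
  obtain ⟨a, ha, b, hb, rfl⟩ := h.decomp i hx
  have e : t * (a * b) * t⁻¹ = (t * a * t⁻¹) * (t * b * t⁻¹) := by group
  rw [e]
  refine mul_mem ?_ (h.conj_Vo ht htn hb)
  obtain ⟨l, hl⟩ := exists_ne i
  obtain ⟨m, hm, hvm⟩ := h.perm_t ht htn hl
  have hz : t * a * t⁻¹ ∈ zc (qz (v m)) := by
    have h1 := mem_zc.1 (h.V_le_zc hl.symm (h.vV l) (h.v1 l) ha)
    rw [← hvm]
    have h2 : qz (t * v l * t⁻¹) = (qz (v l)).map (MulAut.conj t).toMonoidHom := o2_cent_conj t (v l)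
    rw [h2]
    refine mem_zc.2 ⟨⟨a, h1.1, rfl⟩, ?_, ?_⟩
    · rintro _ ⟨r, hr, rfl⟩
      show t * r * t⁻¹ * (t * a * t⁻¹) = t * a * t⁻¹ * (t * r * t⁻¹)
      calc t * r * t⁻¹ * (t * a * t⁻¹) = t * (r * a) * t⁻¹ := by group
        _ = t * a * t⁻¹ * (t * r * t⁻¹) := by rw [h1.2.1 r hr]; group
    · rw [pow_two]
      calc t * a * t⁻¹ * (t * a * t⁻¹) = t * (a * a) * t⁻¹ := by group
        _ = 1 := by rw [h.fr.sq i a ha]; group
  have hQz : ∀ q ∈ Q, q * (t * a * t⁻¹) * q⁻¹ = t * a * t⁻¹ ∨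
      q * (t * a * t⁻¹) * q⁻¹ = v i * (t * a * t⁻¹) := by
    intro q hq
    obtain ⟨h1, h2⟩ := h.conj_T (inv_ht ht) (inv_mem htn) (h.QS hq) (h.QV i _ (h.vV i) q hq)
    rw [inv_inv] at h1 h2
    rcases h.fix_act h1 h2 ha with h3 | h3
    · left
      calc q * (t * a * t⁻¹) * q⁻¹ = t * (t⁻¹ * q * t * a * (t⁻¹ * q * t)⁻¹) * t⁻¹ := by group
        _ = t * a * t⁻¹ := by rw [h3]
    · right
      calc q * (t * a * t⁻¹) * q⁻¹ = t * (t⁻¹ * q * t * a * (t⁻¹ * q * t)⁻¹) * t⁻¹ := by group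
        _ = (t * v i * t⁻¹) * (t * a * t⁻¹) := by rw [h3]; group
        _ = v i * (t * a * t⁻¹) := by rw [conj_of_comm ht]
  refine h.zv ?_ fun q hq => ?_
  · calc t * a * t⁻¹ * (t * a * t⁻¹) = t * (a * a) * t⁻¹ := by group
      _ = 1 := by rw [h.fr.sq i a ha]; group
  · rcases hQz q hq with h1 | h1
    · exact comm_of_conj h1
    · exfalso
      exact hm (h.v_inj (h.one hz (h.v1 i) hQz ⟨q, hq, h1⟩)).symm

end Sc

/-- **THEOREM**: `C_S(v i)` is a Sylow 2-subgroup of `C_G(v i)`. -/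
theorem Sc.sylow [Finite G] {ι : Type} [Finite ι] [Nontrivial ι] {S : Sylow 2 G} {Q : Subgroup G}
    {V : ι → Subgroup G} {v : ι → G} (h : Sc (S : Subgroup G) Q V v) (i : ι) {R : Subgroup G}
    (hR : IsPGroup 2 R) (hRc : R ≤ cz (v i)) (hTR : (S : Subgroup G) ⊓ cz (v i) ≤ R) :
    R ≤ (S : Subgroup G) ⊓ cz (v i) := by
  by_contra hcon
  set T : Subgroup G := (S : Subgroup G) ⊓ cz (v i) with hT
  obtain ⟨t, htR, htT, htn⟩ := Red.exists_normalizer (F := ⊥) bot_le hTR hcon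
    (fun r _ => by
      rw [mem_normalizer_iff]
      intro x
      simp only [mem_bot]
      constructor
      · rintro rfl
        simp
      · intro h0
        calc x = r⁻¹ * (r * x * r⁻¹) * r := by group
          _ = 1 := by rw [h0]; group)
    (fun y hy => by
      obtain ⟨n, hn⟩ := hR ⟨y, hy⟩
      exact ⟨n, by simpa using congrArg Subtype.val hn⟩)
  have ht : t * v i = v i * t := mem_cent.1 (hRc htR)
  set X : Subgroup G := T ⊔ zpowers t with hX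
  have hXR : X ≤ R := sup_le hTR ((zpowers_le).2 htR)
  have hXn : X ≤ normalizer ((⨆ i, V i : Subgroup G) : Set G) := by
    refine sup_le ?_ ((zpowers_le).2 ?_)
    · exact norm_of fun s hs x hx => h.S_sup hs.1 hx
    · rw [mem_normalizer_iff]
      intro x
      refine ⟨fun hx => h.norm_sup ht htn hx, fun hx => ?_⟩
      have h1 := h.norm_sup (Sc.inv_ht ht) (inv_mem htn) hx
      have e : t⁻¹ * (t * x * t⁻¹) * t⁻¹⁻¹ = x := by group
      rwa [e] at h1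
  have hSn : (S : Subgroup G) ≤ normalizer ((⨆ i, V i : Subgroup G) : Set G) :=
    norm_of fun s hs x hx => h.S_sup hs hx
  obtain ⟨m, hm, hmX⟩ := exists_conj_le S hSn (hR.to_le hXR) hXn
  -- `m v_i m⁻¹` is a centre
  obtain ⟨n, hn⟩ : ∃ n, m * v i * m⁻¹ = v n := by
    obtain ⟨b, hb, hb1, hvb⟩ := h.fr.exists_other (i := i) (v i)
    obtain ⟨w, hw, hwb⟩ := h.fr.move (h.vV i) hb (h.v1 i) hb1 hvb
    have hwT : w ∈ T := mem_inf.2 ⟨h.KS i hw, mem_cent.2 (Fr.KK_comm hw)⟩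
    have hgS := hmX w (le_sup_left (α := Subgroup G) hwT)
    obtain ⟨n, -, hn⟩ := h.tv (I := Set.univ) (u := m * v i * m⁻¹) hgS (fun n _ x hx => by
      have hy : m⁻¹ * x * m ∈ ⨆ i, V i := by
        have := (mem_normalizer_iff.1 (inv_mem hm) x).1 ((le_iSup V n) hx)
        rwa [inv_inv] at this
      rcases h.KK_sup (h.vV i) (h.v1 i) hw hy with h1 | h1
      · left
        calc m * w * m⁻¹ * x * (m * w * m⁻¹)⁻¹ = m * (w * (m⁻¹ * x * m) * w⁻¹) * m⁻¹ := by group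
          _ = x := by rw [h1]; group
      · right
        calc m * w * m⁻¹ * x * (m * w * m⁻¹)⁻¹ = m * (w * (m⁻¹ * x * m) * w⁻¹) * m⁻¹ := by group
          _ = m * v i * m⁻¹ * x := by rw [h1]; group) (by
      by_contra hc
      push Not at hc
      have h1 : m * w * m⁻¹ * (m * b * m⁻¹) = m * b * m⁻¹ * (m * w * m⁻¹) := by
        refine h.cent_sup (fun n x hx => comm_of_conj (hc n (Set.mem_univ n) x hx)) ?_
        exact (mem_normalizer_iff.1 hm b).1 ((le_iSup V i) hb)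
      have h2 : w * b * w⁻¹ = b := by
        calc w * b * w⁻¹ = m⁻¹ * ((m * w * m⁻¹ * (m * b * m⁻¹)) * (m * w * m⁻¹)⁻¹) * m := by group
          _ = b := by rw [h1]; group
      rw [h2] at hwb
      exact h.v1 i (mul_eq_right.1 hwb.symm))
    exact ⟨n, hn⟩
  -- the orders
  obtain ⟨s, hs, hsn⟩ := h.tr i n
  have h1 : X.map (MulAut.conj m).toMonoidHom ≤ T.map (MulAut.conj s).toMonoidHom := by
    rintro _ ⟨x, hx, rfl⟩
    have hxm : m * x * m⁻¹ ∈ (S : Subgroup G) := hmX x hx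
    have hxv : x * v i = v i * x := mem_cent.1 (hRc (hXR hx))
    refine ⟨s⁻¹ * (m * x * m⁻¹) * s, mem_inf.2 ⟨mul_mem (mul_mem (inv_mem hs) hxm) hs, mem_cent.2 ?_⟩, ?_⟩
    · apply comm_of_conj
      have h2 : m * x * m⁻¹ * v n * (m * x * m⁻¹)⁻¹ = v n := by
        rw [← hn]
        calc m * x * m⁻¹ * (m * v i * m⁻¹) * (m * x * m⁻¹)⁻¹ = m * (x * v i * x⁻¹) * m⁻¹ := by group
          _ = m * v i * m⁻¹ := by rw [conj_of_comm hxv]
      calc s⁻¹ * (m * x * m⁻¹) * s * v i * (s⁻¹ * (m * x * m⁻¹) * s)⁻¹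
          = s⁻¹ * (m * x * m⁻¹ * (s * v i * s⁻¹) * (m * x * m⁻¹)⁻¹) * s := by group
        _ = s⁻¹ * v n * s := by rw [hsn, h2]
        _ = v i := by rw [← hsn]; group
    · show s * (s⁻¹ * (m * x * m⁻¹) * s) * s⁻¹ = m * x * m⁻¹
      group
  have h2 : Nat.card X ≤ Nat.card T := by
    have e1 : Nat.card (X.map (MulAut.conj m).toMonoidHom) = Nat.card X :=
      card_map_of_injective (MulAut.conj m).injective
    have e2 : Nat.card (T.map (MulAut.conj s).toMonoidHom) = Nat.card T :=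
      card_map_of_injective (MulAut.conj s).injective
    rw [← e1, ← e2]
    exact card_le_of_le h1
  have h3 : T = X := eq_of_le_of_card_ge le_sup_left h2
  apply htT
  rw [h3]
  exact le_sup_right (α := Subgroup G) (mem_zpowers t)

end Cfsg.Agent.Omega.IId.Big.Syl
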