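import Cfsg.Agent.Omega.IId.Big.SylB
import Cfsg.Agent.Omega.IId.Big.Plug

/-!
# WrBig, `q = 2`, CASE 2 is impossible (bb OMEGA 18977, helper245), III: the plug

`M : NatK F S P (zl S P) ⊥ k`, `|F| = 2`, `k ≥ 2`, `CC M` (THEOREM C), the frame `Fr S (fac M)`.

* `exists_sc` : the frame `Sc S O₂(P) (fac M) v`, `v i ∈ line M i`;
* `stab_sylow` : **CASE 2 is impossible** : `stab M i` contains a Sylow 2-subgroup of `N_G(line M i)`;
* `caseBN` : `CaseBN` of `Plug.lean`;
* `wrBigTwo_of_syl` : `WrBigTwo K` from THEOREM C and CASE 1.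
-/

set_option autoImplicit false
set_option linter.unusedSectionVars false

namespace Cfsg.Agent.Omega.IId.Big.Syl

open Subgroup Pointwise Cfsg Cfsg.Agent.ZN Cfsg.Agent.ZN.ChoiceBase
open Cfsg.Agent.MinSimple.VModule hiding le_normalizer_zl le_o2 le_normalizer_o2 mem_zc
open Cfsg.Agent.Omega.MinPar Cfsg.Agent.Omega.Frame Cfsg.Agent.Omega.FFThm Cfsg.Agent.Omega.FrameMulti
open Triangle (KK KK_conj KK_le_o2 mem_cent mem_KK mem_zpowers_iff_of_sq cent_conj o2_cent_conj)
open Supply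

universe u

/-- A maximal 2-subgroup is a Sylow 2-subgroup. -/
theorem not_dvd_of_max {G : Type*} [Group G] [Finite G] {T K : Subgroup G} (hT : IsPGroup 2 T) (hTK : T ≤ K)
    (hmax : ∀ R : Subgroup G, IsPGroup 2 R → R ≤ K → T ≤ R → R ≤ T) : ¬ 2 ∣ T.relIndex K := by
  have hp : Fact (Nat.Prime 2) := ⟨Nat.prime_two⟩
  obtain ⟨R, hR⟩ := (hT.comap_subtype (K := K)).exists_le_sylow
  have h1 : (R : Subgroup K) = T.subgroupOf K := by
    refine le_antisymm (fun r hr => ?_) hR
    have h2 := hmax ((R : Subgroup K).map K.subtype) (R.isPGroup'.map _) (map_subtype_le _)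
      (fun u hu => ⟨⟨u, hTK hu⟩, hR (mem_subgroupOf.2 hu), rfl⟩)
    exact mem_subgroupOf.2 (h2 ⟨r, hr, rfl⟩)
  rw [relIndex, ← h1]
  exact R.not_dvd_index

section

variable {G : Type u} [Group G] [Finite G] {F : Type} [Field F] [Finite F] [CharP F 2] {S : Sylow 2 G}
  {P : Subgroup G} {k : ℕ} {M : NatK F (S : Subgroup G) P (zl (S : Subgroup G) P) ⊥ k}

/-- a 2-subgroup of `C_G(V)` normal in `C_G(V)` lies in `O₂(P)` -/
theorem le_o2_of_cent (hc : IsCharacteristicTwoType G) (hP : IsParS (S : Subgroup G) P) {N : Subgroup G}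
    (hN : IsPGroup 2 N) (hNC : N ≤ centralizer (zl (S : Subgroup G) P : Set G))
    (hn : centralizer (zl (S : Subgroup G) P : Set G) ≤ normalizer (N : Set G)) : N ≤ ZN.o2 P := by
  have hp : Fact (Nat.Prime 2) := ⟨Nat.prime_two⟩
  have hSP : (S : Subgroup G) ≤ P := hP.isLoc.le
  set C : Subgroup G := centralizer (zl (S : Subgroup G) P : Set G) with hC
  have h1 : N ≤ ZN.o2 C := le_o2 hNC hN hn
  have hPC : P ≤ normalizer (C : Set G) := by
    apply norm_of
    intro p hp c hc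
    refine mem_centralizer_iff.2 fun x hx => ?_
    have hx' : p⁻¹ * x * p ∈ zl (S : Subgroup G) P := by
      have := conj_mem (MinSimple.VModule.le_normalizer_zl (S : Subgroup G) P) (inv_mem hp) hx
      rwa [inv_inv] at this
    have h2 := mem_centralizer_iff.1 hc _ hx'
    calc x * (p * c * p⁻¹) = p * ((p⁻¹ * x * p) * c) * p⁻¹ := by group
      _ = p * c * p⁻¹ * x := by rw [h2]; group
  have hPo : P ≤ normalizer (ZN.o2 C : Set G) := norm_o2 hPC
  have h2 : ZN.o2 C ≤ (S : Subgroup G) := by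
    have h3 : IsPGroup 2 ((S : Subgroup G) ⊔ ZN.o2 C : Subgroup G) :=
      IsPGroup.to_sup_of_normal_right' S.isPGroup' (o2_isPGroup C) (hSP.trans hPo)
    rw [← S.is_maximal' h3 le_sup_left]
    exact le_sup_right
  exact h1.trans (le_o2 (h2.trans hSP) (o2_isPGroup C) hPo)

/-- **The frame.** -/
theorem exists_sc (hc : IsCharacteristicTwoType G) (hP : IsParS (S : Subgroup G) P) (hC : CC M)
    (hF : Nat.card F = 2) (hfr : Fr (S : Subgroup G) (fac M)) :
    ∃ v : Fin k → G, (∀ i, v i ∈ line M i) ∧ Sc (S : Subgroup G) (ZN.o2 P) (fac M) v := by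
  have hSP : (S : Subgroup G) ≤ P := hP.isLoc.le
  choose v hv hv1 using exists_line M
  have hSyl := MinSimple.Basic.not_dvd_relIndex S hP.le
  have hcP := IsLoc.char2 S hc hP.isLoc
  have hVA : zl (S : Subgroup G) P ≤ zc (ZN.o2 P) := zl_le_zc hP.le S.isPGroup' hSyl hcP
  have hline : ∀ s (hs : s ∈ (S : Subgroup G)) i, s * v i * s⁻¹ = v (sg M (hSP hs) i) := by
    intro s hs i
    have h1 : s * v i * s⁻¹ ∈ line M (sg M (hSP hs) i) := by
      rw [← conj_line M hSP hs]
      exact ⟨v i, hv i, rfl⟩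
    rcases mem_line_two M hF (hv _) (hv1 _) h1 with h2 | h2
    · exfalso
      apply hv1 i
      calc v i = s⁻¹ * (s * v i * s⁻¹) * s := by group
        _ = 1 := by rw [h2]; group
    · exact h2
  have hKS : ∀ i, KK (v i) ≤ (S : Subgroup G) := fun i =>
    (KK_le_o2 (fac_sq (line_le M i (hv i))) (cz_char2 hc (fac_sq (line_le M i (hv i))) (hv1 i))).trans
      ((o2_le_stab hP hC hF (hv i) (hv1 i)).1.trans (stab_le M i))
  have hPo : P ≤ normalizer (ZN.o2 P : Set G) := le_normalizer_o2 P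
  refine ⟨v, hv, ?_⟩
  refine
    { fr := hfr
      vV := fun i => line_le M i (hv i)
      v1 := hv1
      perm := ?_
      tr := ?_
      VK := fun i j p hp hp1 => (fac_le M j).trans (zl_le_KK hP hC hF hp hp1)
      KS := hKS
      QS := hP.isLoc.o2_le S
      QV := fun i x hx q hq => (MinSimple.VModule.mem_zc.1 (hVA hx.1)).2.1 q hq
      QQ := ThmC.TwoOf.centralizer_o2_le hc S hP
      NQ := ?_
      KQ := ?_
      SQ := hSP.trans hPo }
  · intro s hs i
    refine ⟨sg M (hSP hs) i, fun x hx => ?_, hline s hs i⟩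
    rw [← conj_fac M (hSP hs)]
    exact ⟨x, hx, rfl⟩
  · intro i j
    obtain ⟨s, hs, h1⟩ := exists_trans M hSP i j
    refine ⟨s, hs, ?_⟩
    rw [conj_fac M (hSP hs)] at h1
    rw [hline s hs i, fac_inj M h1]
  · intro N hN h1 h2
    refine le_o2_of_cent hc hP hN (fun n hn => mem_centralizer_iff.2 fun x hx => ?_) (norm_of fun c hcc n hn => ?_)
    · have h3 : zl (S : Subgroup G) P ≤ centralizer ({n} : Set G) :=
        (fac_le_iSup M).trans (iSup_le fun i y hy => mem_cent.2 (h1 i y hy n hn).symm)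
      exact mem_cent.1 (h3 hx)
    · exact h2 c (fun i x hx => (mem_centralizer_iff.1 hcc x hx.1).symm) n hn
  · intro i p hp hp1
    obtain ⟨g, hg, h1, -⟩ := exists_P_conj hSP (line_le M i (hv i)) (hv1 i) hp hp1
    refine le_trans (fun w hw => ?_) hPo
    have h2 := KK_conj (h := g⁻¹) hw
    rw [← h1] at h2
    have e : g⁻¹ * (g * v i * g⁻¹) * g⁻¹⁻¹ = v i := by group
    rw [e] at h2
    have h3 := mul_mem (mul_mem hg (hSP (hKS i h2))) (inv_mem hg)
    have e2 : g * (g⁻¹ * w * g⁻¹⁻¹) * g⁻¹ = w := by group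
    rwa [e2] at h3

/-- **CASE 2 is impossible**: `stab M i` is a Sylow 2-subgroup of `N_G(line M i)`. -/
theorem stab_sylow (hc : IsCharacteristicTwoType G) (hP : IsParS (S : Subgroup G) P) (hC : CC M)
    (hF : Nat.card F = 2) (hfr : Fr (S : Subgroup G) (fac M)) (hk : 2 ≤ k) (i : Fin k) :
    ¬ 2 ∣ (stab M i).relIndex (normalizer (line M i : Set G)) := by
  have hSP : (S : Subgroup G) ≤ P := hP.isLoc.le
  obtain ⟨v, hv, h⟩ := exists_sc hc hP hC hF hfr
  have hnt : Nontrivial (Fin k) := Fin.nontrivial_iff_two_le.2 hk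
  have h1 : stab M i = (S : Subgroup G) ⊓ cz (v i) := by
    apply le_antisymm
    · exact fun s hs => mem_inf.2 ⟨stab_le M i hs, mem_cent.2 (stab_comm_line M hSP hF (hv i) hs)⟩
    · intro s hs
      have hsi : s * v i = v i * s := mem_cent.1 hs.2
      refine mem_inf.2 ⟨hs.1, mem_normalizer_iff.2 fun x => ⟨fun hx => h.fix_line hs.1 hsi hx, fun hx => ?_⟩⟩
      have h2 := h.fix_line (inv_mem hs.1) ((show Commute s (v i) from hsi).inv_left).eq hx
      have e : s⁻¹ * (s * x * s⁻¹) * s⁻¹⁻¹ = x := by group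
      rwa [e] at h2
  rw [normalizer_line_eq M hF (hv i) (h.v1 i), h1]
  exact not_dvd_of_max (S.isPGroup'.to_le inf_le_left) inf_le_right fun R hR hRc hTR => h.sylow i hR hRc hTR

end

/-- **`CaseBN`**: CASE 2 is impossible. -/
theorem caseBN : CaseBN.{u} := by
  intro G _ _ S P F _ _ _ k M hc hP hC hF hfr hk i hd
  exact absurd hd (stab_sylow hc hP hC hF hfr (by omega) i)

/-- **`WrBigTwo K`** from THEOREM C and CASE 1. -/
theorem wrBigTwo_of_syl {K : Cls.{u}} (hStmt : ∀ (G : Type u) [Group G] [Finite G], ThmC.Stmt G)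
    (h1 : WrBigTwoSyl K) : WrBigTwo K := wrBigTwo_of_cases hStmt h1 caseBN

end Cfsg.Agent.Omega.IId.Big.Syl
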